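import Groth.Agent.EtTorLib.Sections
import Groth.Agent.SiteBase.AbSecExact
import Groth.Prelude.Def_EtAcyc

/-! exhaustion of torsion sheaves by their `n`-torsion subsheaves -/

universe u

open CategoryTheory CategoryTheory.Limits AlgebraicGeometry Opposite

namespace Groth.Agent.EtTorLib

set_option backward.isDefEq.respectTransparency.types false
set_option linter.style.haveILetI false

variable {X : Scheme.{u}}

/-- exponents ordered by divisibility -/
def TIdx (M : Set ℕ) : Type (u + 1) := ULift.{u + 1} M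

variable {M : Set ℕ}

/-- the underlying exponent -/
def TIdx.n (i : TIdx.{u} M) : ℕ := i.down.1

theorem TIdx.mem (i : TIdx.{u} M) : i.n ∈ M := i.down.2

instance : Preorder (TIdx.{u} M) where
  le i j := i.n ∣ j.n
  le_refl i := dvd_refl i.n
  le_trans _ _ _ := dvd_trans

theorem isFiltered_tidx (h1 : 1 ∈ M) (hmul : ∀ a ∈ M, ∀ b ∈ M, a * b ∈ M) : IsFiltered (TIdx.{u} M) := by
  haveI : IsDirectedOrder (TIdx.{u} M) := ⟨fun i j =>
    ⟨⟨⟨i.n * j.n, hmul _ i.mem _ j.mem⟩⟩, dvd_mul_right _ _, dvd_mul_left _ _⟩⟩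
  haveI : Nonempty (TIdx.{u} M) := ⟨⟨⟨1, h1⟩⟩⟩
  infer_instance

variable (F : EtCoh.Ab X)

theorem kernel_ι_comp_nsmul {n m : ℕ} (h : n ∣ m) : kernel.ι (n • 𝟙 F) ≫ (m • 𝟙 F) = 0 := by
  obtain ⟨k, rfl⟩ := h
  rw [mul_comm, mul_nsmul', Preadditive.comp_nsmul, kernel.condition, nsmul_zero]

/-- the `n`-torsion subsheaves -/
noncomputable def torsDiagram (M : Set ℕ) : TIdx.{u} M ⥤ EtCoh.Ab X where
  obj i := kernel (i.n • 𝟙 F)
  map {i j} a := kernel.lift _ (kernel.ι (i.n • 𝟙 F)) (kernel_ι_comp_nsmul F (leOfHom a))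
  map_id i := by
    refine (cancel_mono (kernel.ι _)).1 ?_
    rw [kernel.lift_ι, Category.id_comp]
  map_comp {i j k} a b := by
    refine (cancel_mono (kernel.ι _)).1 ?_
    rw [kernel.lift_ι, Category.assoc, kernel.lift_ι, kernel.lift_ι]

/-- the inclusions -/
noncomputable def torsCocone (M : Set ℕ) : Cocone (torsDiagram F M) where
  pt := F
  ι :=
    { app := fun i => kernel.ι _
      naturality := fun i j a => (kernel.lift_ι _ _ _).trans (Category.comp_id _).symm }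

theorem torsDiagram_nsmul (i : TIdx.{u} M) : i.n • 𝟙 ((torsDiagram F M).obj i) = 0 := by
  change i.n • 𝟙 (kernel (i.n • 𝟙 F)) = 0
  refine (cancel_mono (kernel.ι (i.n • 𝟙 F))).1 ?_
  rw [zero_comp, Preadditive.nsmul_comp, Category.id_comp]
  refine Eq.trans ?_ (kernel_ι_comp_nsmul F (dvd_refl i.n))
  rw [Preadditive.comp_nsmul, Category.comp_id]

theorem nsmul_app_eq_zero {A : EtCoh.Ab X} {n : ℕ} (h : n • 𝟙 A = 0) (U : X.Etale) (s : A.obj.obj (op U)) :
    n • s = 0 :=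
  (EtFound.killedBy_iff_nsmul n A).2 h U s

theorem nonempty_isColimit_torsCocone (h1 : 1 ∈ M) (hmul : ∀ a ∈ M, ∀ b ∈ M, a * b ∈ M)
    (hF : ∀ (U : X.Etale) (s : F.obj.obj (op U)) (x : U.left), ∃ (V : X.Etale) (g : V ⟶ U) (m : ℕ),
      (∃ v : V.left, g.left.base v = x) ∧ m ∈ M ∧ m • F.obj.map g.op s = 0) :
    Nonempty (IsColimit (torsCocone F M)) := by
  haveI := isFiltered_tidx.{u} h1 hmul
  let c := colimit.cocone (torsDiagram F M)
  let hc : IsColimit c := colimit.isColimit _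
  let d : c.pt ⟶ F := hc.desc (torsCocone F M)
  have hd : ∀ i (U : X.Etale) (t : ((torsDiagram F M).obj i).obj.obj (op U)),
      d.hom.app (op U) ((c.ι.app i).hom.app (op U) t) = (kernel.ι (i.n • 𝟙 F)).hom.app (op U) t := fun i U t =>
    ConcreteCategory.congr_hom (congrArg (fun q : (torsDiagram F M).obj i ⟶ F => q.hom.app (op U))
      (hc.fac (torsCocone F M) i)) t
  haveI : Mono d := mono_of_affine d fun U _ s hs => by
    let Γ := sheafToPresheaf X.smallEtaleTopology AddCommGrpCat.{u + 1} ⋙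
      (evaluation X.Etaleᵒᵖ AddCommGrpCat.{u + 1}).obj (op U)
    haveI : PreservesColimitsOfShape (TIdx.{u} M) Γ :=
      EtFound.preservesColimitsOfShape_sections_qcqs_ab U (EtFound.isQcqsObj_of_isAffine U) _
    obtain ⟨i, t, ht⟩ := Types.jointly_surjective _
      (isColimitOfPreserves (forget AddCommGrpCat.{u + 1}) (isColimitOfPreserves Γ hc)) s
    change (c.ι.app i).hom.app (op U) t = s at ht
    have : t = 0 := SiteBase.sheaf_app_injective (kernel.ι (i.n • 𝟙 F)) U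
      (((hd i U t).symm.trans ((congrArg _ ht).trans hs)).trans (map_zero _).symm)
    rw [← ht, this]
    exact map_zero _
  haveI : Epi d := epi_of_locally d fun U s x => by
    obtain ⟨V, g, m, ⟨v, hv⟩, hm, hms⟩ := hF U s x
    obtain ⟨W, a, hW, w, hw⟩ := exists_affine_nhd V v
    let s' : F.obj.obj (op W) := F.obj.map a.op (F.obj.map g.op s)
    have hs' : m • s' = 0 := ((map_nsmul (F.obj.map a.op).hom m _).symm.trans (congrArg _ hms)).trans (map_zero _)
    obtain ⟨h, hh⟩ := exists_hom_gen s' hs'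
    let i : TIdx.{u} M := ⟨⟨m, hm⟩⟩
    have hz : h ≫ (i.n • 𝟙 F) = 0 := hom_ext_gen (U := W) (n := m) (by
      change (m • 𝟙 F : F ⟶ F).hom.app (op W) (h.hom.app (op W) (gen W m)) = 0
      rw [hh, EtFound.nsmul_hom_app]
      exact hs')
    refine ⟨W, a ≫ g, w, (c.ι.app i).hom.app (op W) ((kernel.lift (i.n • 𝟙 F) h hz).hom.app (op W) (gen W m)), ?_, ?_⟩
    · rw [hd, op_comp, Functor.map_comp_apply]
      refine Eq.trans ?_ hh
      exact ConcreteCategory.congr_hom (congrArg (fun q : EtPBC.extZeroConst W (ZMod m) ⟶ F => q.hom.app (op W))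
        (kernel.lift_ι _ h hz)) (gen W m)
    · rw [← hv, ← hw]
      exact Scheme.Hom.comp_apply _ _ _
  haveI : IsIso (hc.desc (torsCocone F M)) := isIso_of_mono_of_epi d
  exact ⟨hc.ofPointIso⟩

theorem isTorsion_cond {F : EtCoh.Ab X} (hF : EtCoh.IsTorsion F) (U : X.Etale) (s : F.obj.obj (op U)) (x : U.left) :
    ∃ (V : X.Etale) (g : V ⟶ U) (m : ℕ),
      (∃ v : V.left, g.left.base v = x) ∧ m ∈ {n : ℕ | 0 < n} ∧ m • F.obj.map g.op s = 0 := by
  obtain ⟨V, g, hv, hfin⟩ := hF U s x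
  obtain ⟨n, hn, h⟩ := isOfFinAddOrder_iff_nsmul_eq_zero.1 hfin
  exact ⟨V, g, n, hv, hn, h⟩

theorem pos_mul : ∀ a ∈ {n : ℕ | 0 < n}, ∀ b ∈ {n : ℕ | 0 < n}, a * b ∈ {n : ℕ | 0 < n} :=
  fun _ ha _ hb => Nat.mul_pos ha hb

/-- an additive functor preserving the exhaustion takes values killed locally -/
theorem exists_killed_stage {C : Type*} [Category C] [Preadditive C] (Φ : EtCoh.Ab X ⥤ C) [Φ.Additive]
    (i : TIdx.{u} M) : i.n • 𝟙 (Φ.obj ((torsDiagram F M).obj i)) = 0 := by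
  rw [← Φ.map_id, ← Functor.map_nsmul, torsDiagram_nsmul, Functor.map_zero]

end Groth.Agent.EtTorLib
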