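import Groth.Agent.EtLC12.ExtColimGen
import Groth.Agent.SiteBase.DerivedKernel

/-! right derived functors and filtered colimits -/

universe w v v' u u'

open CategoryTheory CategoryTheory.Limits CategoryTheory.Abelian

namespace Groth.Agent.EtTorLib

set_option backward.isDefEq.respectTransparency.types false
set_option linter.style.haveILetI false

open EtLC12.ExtColimGen

variable {A : Type u} [Category.{v} A] [Abelian A] [EnoughInjectives A] [HasProducts.{w} A]
  {B : Type u'} [Category.{v'} B] [Abelian B]
  {Λ : Type w} [SmallCategory Λ] [IsFiltered Λ] [HasColimitsOfShape Λ A] [HasExactColimitsOfShape Λ A]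
  [HasExt.{w} A]

/-- derived functors preserve filtered colimits when colimits of injectives are acyclic -/
theorem preservesColimitsOfShape_rightDerived (G : A ⥤ B) [G.Additive] [PreservesFiniteLimits G]
    [PreservesColimitsOfShape Λ G]
    (hvan : ∀ D : Λ ⥤ A, (∀ j, Injective (D.obj j)) → ∀ q, IsZero ((G.rightDerived (q + 1)).obj (colimit D)))
    (q : ℕ) : PreservesColimitsOfShape Λ (G.rightDerived q) := by
  induction q with
  | zero => exact preservesColimitsOfShape_of_natIso G.rightDerivedZeroIsoSelf.symm
  | succ q ih =>
    refine ⟨fun {D} => preservesColimit_of_preserves_colimit_cocone (colimit.isColimit D) ?_⟩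
    let T := SESResLib.derivedLES G
    let I := cofreeInj D
    let Q := cokernel (toCofreeInj D)
    let hI := isColimitOfPreserves (G.rightDerived q) (colimit.isColimit I)
    let hQ := isColimitOfPreserves (G.rightDerived q) (colimit.isColimit Q)
    let hSc := shortExact_colimSES D
    let dc : (G.rightDerived q).obj (colimit Q) ⟶ (G.rightDerived (q + 1)).obj (colimit D) :=
      T.δ (colimSES D) hSc q (q + 1) rfl
    let d : ∀ i, (G.rightDerived q).obj (Q.obj i) ⟶ (G.rightDerived (q + 1)).obj (D.obj i) := fun i =>
      T.δ (stageSES D i) (shortExact_stageSES D i) q (q + 1) rfl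
    have hd : ∀ {i j : Λ} (a : i ⟶ j),
        (G.rightDerived q).map (Q.map a) ≫ d j = d i ≫ (G.rightDerived (q + 1)).map (D.map a) := fun {i j} a =>
      T.δ_natural (shortExact_stageSES D i) (shortExact_stageSES D j) (stageMap D a) q (q + 1) rfl
    have hdc : ∀ i : Λ, (G.rightDerived q).map (colimit.ι Q i) ≫ dc =
        d i ≫ (G.rightDerived (q + 1)).map (colimit.ι D i) := fun i =>
      T.δ_natural (shortExact_stageSES D i) hSc (stageToColim D i) q (q + 1) rfl
    haveI : Epi dc := (T.exact₁ (colimSES D) hSc q (q + 1) rfl).epi_f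
      ((hvan I (injective_cofreeInj D) q).eq_of_tgt _ _)
    haveI : ∀ i, Epi (d i) := fun i => (T.exact₁ (stageSES D i) (shortExact_stageSES D i) q (q + 1) rfl).epi_f
      (by
        haveI : Injective (stageSES D i).X₂ := injective_cofreeInj D i
        exact (G.isZero_rightDerived_obj_injective_succ q (stageSES D i).X₂).eq_of_tgt _ _)
    have hcok : IsColimit (CokernelCofork.ofπ dc (T.comp_δ (colimSES D) hSc q (q + 1) rfl)) :=
      @ShortComplex.Exact.gIsCokernel _ _ _ _ _ (T.exact₃ (colimSES D) hSc q (q + 1) rfl) ‹_›
    let sQ : Cocone (D ⋙ G.rightDerived (q + 1)) → Cocone (Q ⋙ G.rightDerived q) := fun s =>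
      { pt := s.pt
        ι := { app := fun i => d i ≫ s.ι.app i
               naturality := fun i j a => by
                 refine Eq.trans ?_ (Category.comp_id _).symm
                 refine (Category.assoc _ _ _).symm.trans ((congrArg (· ≫ s.ι.app j) (hd a)).trans ?_)
                 exact (Category.assoc _ _ _).trans (congrArg (d i ≫ ·) (s.w a)) } }
    have hkill : ∀ s : Cocone (D ⋙ G.rightDerived (q + 1)),
        (G.rightDerived q).map (colimSES D).g ≫ hQ.desc (sQ s) = 0 := fun s => hI.hom_ext fun i => by
      change (G.rightDerived q).map (colimit.ι I i) ≫ (G.rightDerived q).map (colimSES D).g ≫ hQ.desc (sQ s) =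
        (G.rightDerived q).map (colimit.ι I i) ≫ 0
      have e : colimit.ι I i ≫ (colimSES D).g = (stageSES D i).g ≫ colimit.ι Q i := (stageToColim D i).comm₂₃
      rw [comp_zero, ← Functor.map_comp_assoc, e]
      refine ((congrArg (· ≫ hQ.desc (sQ s))
        ((G.rightDerived q).map_comp (stageSES D i).g (colimit.ι Q i))).trans (Category.assoc _ _ _)).trans ?_
      refine (congrArg ((G.rightDerived q).map (stageSES D i).g ≫ ·) (hQ.fac (sQ s) i)).trans ?_
      refine (Category.assoc _ _ _).symm.trans ?_
      exact (congrArg (· ≫ s.ι.app i) (T.comp_δ (stageSES D i) (shortExact_stageSES D i) q (q + 1) rfl)).trans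
        zero_comp
    choose e he using fun s : Cocone (D ⋙ G.rightDerived (q + 1)) =>
      (⟨_, (CokernelCofork.IsColimit.desc' hcok (hQ.desc (sQ s)) (hkill s)).2⟩ :
        ∃ e : (G.rightDerived (q + 1)).obj (colimit D) ⟶ s.pt, dc ≫ e = hQ.desc (sQ s))
    exact
      { desc := e
        fac := fun s i => by
          refine (cancel_epi (d i)).1 ?_
          change d i ≫ (G.rightDerived (q + 1)).map (colimit.ι D i) ≫ e s = d i ≫ s.ι.app i
          rw [← Category.assoc, ← hdc i, Category.assoc, he s]
          exact hQ.fac (sQ s) i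
        uniq := fun s m hm => by
          refine (cancel_epi dc).1 (Eq.trans ?_ (he s).symm)
          refine hQ.uniq (sQ s) (dc ≫ m) fun i => ?_
          change (G.rightDerived q).map (colimit.ι Q i) ≫ dc ≫ m = d i ≫ s.ι.app i
          rw [← Category.assoc, hdc i, Category.assoc]
          exact congrArg (d i ≫ ·) (hm i) }

end Groth.Agent.EtTorLib
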