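import Groth.Agent.EtTorLib.Sections
import Groth.Agent.EtTorLib.DerivedColim
import Groth.Agent.EtLC12.QcqsAcyclic
import Groth.Agent.SitePullUnit.DerivedClass

/-! higher direct images along qcqs morphisms commute with filtered colimits -/

universe u

open CategoryTheory CategoryTheory.Limits AlgebraicGeometry Opposite

namespace Groth.Agent.EtTorLib

set_option backward.isDefEq.respectTransparency.types false
set_option linter.style.haveILetI false

open EtFound EtLC12.QcqsAcyclic

variable {X Y : Scheme.{u}} (f : X ⟶ Y) [QuasiCompact f] [QuasiSeparated f]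

theorem isQcqsObj_bc (W : Y.Etale) [IsAffine W.left] : IsQcqsObj ((EtCoh.bc f).obj W) := by
  let k : ((EtCoh.bc f).obj W).left ⟶ W.left := pullback.fst W.hom f
  haveI : QuasiCompact k := MorphismProperty.pullback_fst _ _ ‹QuasiCompact f›
  haveI : QuasiSeparated k := MorphismProperty.pullback_fst _ _ ‹QuasiSeparated f›
  exact ⟨QuasiCompact.compactSpace_of_compactSpace k, quasiSeparatedSpace_of_quasiSeparated k⟩

variable [EtCoh.BCCont f]

theorem preservesColimitsOfShape_push (Λ : Type (u + 1)) [SmallCategory Λ] [IsFiltered Λ] :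
    PreservesColimitsOfShape Λ (EtCoh.push f) := by
  refine ⟨fun {D} => preservesColimit_of_preserves_colimit_cocone (colimit.isColimit D) ?_⟩
  let c := colimit.cocone (D ⋙ EtCoh.push f)
  let hc : IsColimit c := colimit.isColimit _
  let t := (EtCoh.push f).mapCocone (colimit.cocone D)
  let d : c.pt ⟶ t.pt := hc.desc t
  have hd : ∀ i, c.ι.app i ≫ d = t.ι.app i := fun i => hc.fac t i
  have key : ∀ (W : Y.Etale), IsAffine W.left → IsIso (d.hom.app (op W)) := fun W hW => by
    let Γ := sheafToPresheaf Y.smallEtaleTopology AddCommGrpCat.{u + 1} ⋙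
      (evaluation Y.Etaleᵒᵖ AddCommGrpCat.{u + 1}).obj (op W)
    let Γ' := sheafToPresheaf X.smallEtaleTopology AddCommGrpCat.{u + 1} ⋙
      (evaluation X.Etaleᵒᵖ AddCommGrpCat.{u + 1}).obj (op ((EtCoh.bc f).obj W))
    haveI := hW
    haveI : PreservesColimitsOfShape Λ Γ := preservesColimitsOfShape_sections_qcqs_ab W (isQcqsObj_of_isAffine W) _
    haveI : PreservesColimitsOfShape Λ Γ' := preservesColimitsOfShape_sections_qcqs_ab _ (isQcqsObj_bc f W) _
    let h₁ := isColimitOfPreserves Γ hc
    let h₂ : IsColimit (Γ.mapCocone t) := isColimitOfPreserves Γ' (colimit.isColimit D)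
    have : d.hom.app (op W) = (IsColimit.coconePointUniqueUpToIso h₁ h₂).hom := h₁.hom_ext fun i => by
      rw [IsColimit.comp_coconePointUniqueUpToIso_hom]
      exact congrArg (fun q : (EtCoh.push f).obj (D.obj i) ⟶ t.pt => q.hom.app (op W)) (hd i)
    rw [this]
    infer_instance
  haveI : Mono d := mono_of_affine d fun W _ s hs => by
    haveI := key W ‹_›
    exact (ConcreteCategory.bijective_of_isIso (d.hom.app (op W))).1 (hs.trans (map_zero _).symm)
  haveI : Epi d := epi_of_locally d fun U s x => by
    obtain ⟨W, g, hW, w, hw⟩ := exists_affine_nhd U x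
    haveI := key W hW
    obtain ⟨a, ha⟩ := (ConcreteCategory.bijective_of_isIso (d.hom.app (op W))).2 (t.pt.obj.map g.op s)
    exact ⟨W, g, w, a, ha, hw⟩
  haveI : IsIso (hc.desc t) := isIso_of_mono_of_epi d
  exact hc.ofPointIso

theorem preservesColimitsOfShape_Rpush (q : ℕ) (Λ : Type (u + 1)) [SmallCategory Λ] [IsFiltered Λ] :
    PreservesColimitsOfShape Λ (EtCoh.Rpush f q) := by
  haveI : (EtCoh.push f).IsRightAdjoint := (EtCoh.pullPushAdj f).isRightAdjoint
  haveI : PreservesFiniteLimits (EtCoh.push f) := inferInstance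
  haveI : (EtCoh.push f).Additive := inferInstance
  haveI := preservesColimitsOfShape_push f Λ
  refine preservesColimitsOfShape_rightDerived (EtCoh.push f) (fun D hD q => ?_) q
  refine SitePullUnit.isZero_rightDerived_of_class (EtCoh.push f) IsCechAcyclic
    (fun S hS h1 hI => isCechAcyclic_X₃ S hS h1 (haveI := hI; isCechAcyclic_of_injective _))
    (fun S hS h1 _ => epi_of_locally _ fun U s x => ?_)
    (isCechAcyclic_colimit D fun j => haveI := hD j; isCechAcyclic_of_injective _) q
  obtain ⟨W, g, hW, w, hw⟩ := exists_affine_nhd U x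
  obtain ⟨a, ha⟩ := sections_surjective S hS h1 (haveI := hW; isQcqsObj_bc f W)
    (((EtCoh.push f).obj S.X₃).obj.map g.op s)
  exact ⟨W, g, w, a, ha, hw⟩

end Groth.Agent.EtTorLib
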