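import Groth.Agent.EtTorLib.Exhaust
import Groth.Agent.EtTorLib.PushColim

/-! higher direct images of torsion sheaves are torsion -/

universe u

open CategoryTheory CategoryTheory.Limits AlgebraicGeometry Opposite

namespace Groth.Agent.EtTorLib

set_option backward.isDefEq.respectTransparency.types false
set_option linter.style.haveILetI false

variable {X Y : Scheme.{u}} (f : X ⟶ Y) [QuasiCompact f] [QuasiSeparated f] [EtCoh.BCCont f] {M : Set ℕ}

theorem exists_stage_killed [IsFiltered (TIdx.{u} M)] (q : ℕ) (F : EtCoh.Ab X)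
    (hc : IsColimit (torsCocone F M)) (W : Y.Etale) (hW : IsAffine W.left)
    (s : ((EtCoh.Rpush f q).obj F).obj.obj (op W)) : ∃ i : TIdx.{u} M, i.n • s = 0 := by
  haveI := preservesColimitsOfShape_Rpush f q (TIdx.{u} M)
  let Γ := sheafToPresheaf Y.smallEtaleTopology AddCommGrpCat.{u + 1} ⋙
    (evaluation Y.Etaleᵒᵖ AddCommGrpCat.{u + 1}).obj (op W)
  haveI : PreservesColimitsOfShape (TIdx.{u} M) Γ :=
    EtFound.preservesColimitsOfShape_sections_qcqs_ab W (haveI := hW; EtFound.isQcqsObj_of_isAffine W) _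
  obtain ⟨i, y, hy⟩ := Types.jointly_surjective _ (isColimitOfPreserves (forget AddCommGrpCat.{u + 1})
    (isColimitOfPreserves Γ (isColimitOfPreserves (EtCoh.Rpush f q) hc))) s
  let φ := ((EtCoh.Rpush f q).map ((torsCocone F M).ι.app i)).hom.app (op W)
  change φ.hom y = s at hy
  refine ⟨i, ?_⟩
  haveI : (EtCoh.push f).Additive := inferInstance
  have h0 : i.n • y = 0 := nsmul_app_eq_zero (exists_killed_stage F (EtCoh.Rpush f q) i) W y
  exact (congrArg (i.n • ·) hy.symm).trans ((map_nsmul φ.hom i.n y).symm.trans ((congrArg φ.hom h0).trans (map_zero _)))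

end Groth.Agent.EtTorLib
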