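import Groth.Agent.EtFound.CompactObj
import Groth.Agent.EtFound.GermSupp
import Mathlib.CategoryTheory.Sites.Point.Skyscraper

/-! sections over affine etale schemes detect monomorphisms and epimorphisms -/

universe u

open CategoryTheory CategoryTheory.Limits AlgebraicGeometry Opposite Topology

namespace Groth.Agent.EtTorLib

set_option backward.isDefEq.respectTransparency.types false

variable {X : Scheme.{u}}

/-- an affine open of an etale scheme as an etale scheme -/
noncomputable def openObj (U : X.Etale) (A : U.left.Opens) : X.Etale :=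
  haveI : AlgebraicGeometry.Etale U.hom := U.prop
  Scheme.Etale.mk (A.ι ≫ U.hom)

noncomputable def openHom (U : X.Etale) (A : U.left.Opens) : openObj U A ⟶ U :=
  MorphismProperty.Over.homMk A.ι rfl

theorem range_openHom (U : X.Etale) (A : U.left.Opens) :
    Set.range (openHom U A).left.base = (A : Set U.left) :=
  A.range_ι

theorem exists_affine_nhd (U : X.Etale) (x : U.left) :
    ∃ (W : X.Etale) (g : W ⟶ U) (_ : IsAffine W.left), ∃ w : W.left, g.left.base w = x := by
  obtain ⟨A, hA, hxA, -⟩ := exists_isAffineOpen_mem_and_subset (U := (⊤ : U.left.Opens)) (x := x) trivial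
  exact ⟨openObj U A, openHom U A, hA, (⟨x, hxA⟩ : (A : Scheme.{u})), rfl⟩

theorem eq_zero_of_locally {F : EtCoh.Ab X} {U : X.Etale} (s : F.obj.obj (op U))
    (h : ∀ x : U.left, ∃ (V : X.Etale) (g : V ⟶ U) (v : V.left), F.obj.map g.op s = 0 ∧ g.left.base v = x) :
    s = 0 := by
  have hc : Presheaf.equalizerSieve (X := op U) s 0 ∈ X.smallEtaleTopology U := by
    refine (EtFound.mem_topology_iff _).2 fun x => ?_
    obtain ⟨V, g, v, hg, hv⟩ := h x
    exact ⟨V, g, v, hg.trans (map_zero (F.obj.map g.op).hom).symm, hv⟩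
  exact (((isSheaf_iff_isSheaf_of_type _ _).1 ((sheafCompose X.smallEtaleTopology (forget AddCommGrpCat.{u + 1})).obj F).property).isSeparated
    _ hc).ext fun V g hg => hg

theorem eq_zero_of_germs {F : EtCoh.Ab X} {U : X.Etale} (s : F.obj.obj (op U))
    (h : ∀ (Ω : Type u) (_ : Field Ω) (_ : IsSepClosed Ω) (ξ : Spec (CommRingCat.of Ω) ⟶ X)
      (u : (Scheme.pointSmallEtale ξ).fiber.obj U), (Scheme.pointSmallEtale ξ).toPresheafFiber U u F.obj s = 0) :
    s = 0 :=
  (((isSheaf_iff_isSheaf_of_type _ _).1 ((sheafCompose X.smallEtaleTopology (forget AddCommGrpCat.{u + 1})).obj F).property).isSeparated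
    _ (EtFound.equalizerSieve_mem_of_germs F.obj U s 0 fun Ω _ _ ξ u => (h Ω _ _ ξ u).trans (map_zero _).symm)).ext
      fun V g hg => hg

/-- injectivity on affine objects gives a monomorphism -/
theorem mono_of_affine {F G : EtCoh.Ab X} (f : F ⟶ G)
    (h : ∀ (U : X.Etale) [IsAffine U.left] (s : F.obj.obj (op U)), f.hom.app (op U) s = 0 → s = 0) : Mono f := by
  haveI : ∀ U, Mono (f.hom.app U) := fun U => by
    refine (AddCommGrpCat.mono_iff_injective _).2 ((injective_iff_map_eq_zero _).2 fun s hs => ?_)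
    refine eq_zero_of_locally s fun x => ?_
    obtain ⟨W, g, hW, w, hw⟩ := exists_affine_nhd U.unop x
    refine ⟨W, g, w, h W _ ?_, hw⟩
    exact (NatTrans.naturality_apply f.hom g.op s).trans ((congrArg _ hs).trans (map_zero (G.obj.map g.op).hom))
  haveI : Mono f.hom := NatTrans.mono_of_mono_app _
  exact (sheafToPresheaf _ _).mono_of_mono_map (f := f) ‹Mono f.hom›

/-- locally hitting all sections gives an epimorphism -/
theorem epi_of_locally {F G : EtCoh.Ab X} (f : F ⟶ G)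
    (h : ∀ (U : X.Etale) (s : G.obj.obj (op U)) (x : U.left), ∃ (V : X.Etale) (g : V ⟶ U) (v : V.left)
      (t : F.obj.obj (op V)), f.hom.app (op V) t = G.obj.map g.op s ∧ g.left.base v = x) : Epi f := by
  haveI : Presheaf.IsLocallySurjective X.smallEtaleTopology f.hom := ⟨fun {U} s => by
    refine (EtFound.mem_topology_iff _).2 fun x => ?_
    obtain ⟨V, g, v, t, ht, hv⟩ := h U s x
    exact ⟨V, g, v, ⟨t, ht⟩, hv⟩⟩
  haveI : Sheaf.IsLocallySurjective f := ‹_›
  exact Sheaf.epi_of_isLocallySurjective f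

/-- the tautological generator -/
noncomputable def gen (U : X.Etale) (n : ℕ) : (EtPBC.extZeroConst U (ZMod n)).obj.obj (op U) :=
  EtFound.taut U (ZMod n) ⟨1⟩

theorem ext_gen_app {U : X.Etale} {n : ℕ} {G : AddCommGrpCat.{u + 1}}
    {a b : AddCommGrpCat.of (ULift.{u + 1} (ZMod n)) ⟶ G} (hab : a ⟨1⟩ = b ⟨1⟩) : a = b := by
  refine AddCommGrpCat.ext fun m => ?_
  obtain ⟨k, hk⟩ := ZMod.intCast_surjective m.down
  let one : ULift.{u + 1} (ZMod n) := ⟨1⟩
  have hm : m = k • one := ULift.ext _ _ (by simp [one, ← hk])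
  rw [hm, map_zsmul, map_zsmul]
  exact congrArg (k • ·) hab

theorem hom_ext_gen {U : X.Etale} {n : ℕ} {F : EtCoh.Ab X} {h h' : EtPBC.extZeroConst U (ZMod n) ⟶ F}
    (e : h.hom.app (op U) (gen U n) = h'.hom.app (op U) (gen U n)) : h = h' :=
  EtFound.hom_ext_taut _ _ (ext_gen_app (U := U) e)

theorem exists_hom_gen {U : X.Etale} {n : ℕ} {F : EtCoh.Ab X} (s : F.obj.obj (op U)) (hs : n • s = 0) :
    ∃ h : EtPBC.extZeroConst U (ZMod n) ⟶ F, h.hom.app (op U) (gen U n) = s := by
  let L : ZMod n →+ F.obj.obj (op U) := ZMod.lift n ⟨zmultiplesHom _ s, by simpa [natCast_zsmul] using hs⟩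
  obtain ⟨h, hh⟩ := EtFound.exists_hom_taut (M := ZMod n) (U := U) (F := F) (AddCommGrpCat.ofHom
    (L.comp (AddEquiv.ulift : ULift.{u + 1} (ZMod n) ≃+ ZMod n).toAddMonoidHom))
  refine ⟨h, (ConcreteCategory.congr_hom hh (⟨1⟩ : ULift.{u + 1} (ZMod n))).trans ?_⟩
  change L 1 = s
  refine ((congrArg L (Int.cast_one (R := ZMod n)).symm).trans (ZMod.lift_coe n _ 1)).trans ?_
  exact one_zsmul s

theorem gen_nsmul (U : X.Etale) (n : ℕ) : n • gen U n = 0 := by
  refine (map_nsmul (EtFound.taut U (ZMod n)).hom n _).symm.trans ?_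
  rw [show n • (⟨1⟩ : ULift.{u + 1} (ZMod n)) = 0 from ULift.ext _ _ (by simp)]
  exact map_zero _

/-- a map out of `j_!(ℤ/n)` vanishes on a stalk when the germs of the generator die -/
theorem stalk_map_eq_zero {U : X.Etale} {n : ℕ} {G : EtCoh.Ab X} (p : EtPBC.extZeroConst U (ZMod n) ⟶ G)
    {Ω : Type u} [Field Ω] [IsSepClosed Ω] (ξ : Spec (CommRingCat.of Ω) ⟶ X)
    (h : ∀ z, (Scheme.pointSmallEtale ξ).toPresheafFiber U z G.obj (p.hom.app (op U) (gen U n)) = 0) :
    (EtCoh.stalk ξ).map p = 0 := by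
  let Φ := Scheme.pointSmallEtale ξ
  let M := (EtCoh.stalk ξ).obj G
  let E := EtPBC.extZeroConst U (ZMod n)
  let f : Φ.presheafFiber.obj E.obj ⟶ M := (EtCoh.stalk ξ).map p
  let α : E ⟶ Φ.skyscraperSheaf M := ⟨Φ.skyscraperPresheafHomEquiv f⟩
  let β : E ⟶ Φ.skyscraperSheaf M := ⟨Φ.skyscraperPresheafHomEquiv 0⟩
  have : α = β := EtFound.hom_ext_taut _ _ (Pi.hom_ext _ _ fun z => by
    refine ext_gen_app (U := U) ?_
    refine Eq.trans (ConcreteCategory.congr_hom (Φ.skyscraperPresheafHomEquiv_app_π f U z) (gen U n))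
      (Eq.trans ?_ (ConcreteCategory.congr_hom (Φ.skyscraperPresheafHomEquiv_app_π (0 : Φ.presheafFiber.obj E.obj ⟶ M) U z) (gen U n)).symm)
    exact ((Φ.toPresheafFiber_naturality_apply p.hom U z _).trans (h z)))
  exact Φ.skyscraperPresheafHomEquiv.injective (congrArg (fun q : E ⟶ Φ.skyscraperSheaf M => q.hom) this)

/-- a finite affine cover of a compact subset inside an open -/
theorem exists_affine_cover {S : Scheme.{u}} {K : Set S} (hK : IsCompact K) {O : Set S} (hO : IsOpen O)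
    (hKO : K ⊆ O) : ∃ (r : ℕ) (A : Fin r → S.Opens), (∀ k, IsAffineOpen (A k)) ∧ (∀ k, (A k : Set S) ⊆ O) ∧
      ∀ q ∈ K, ∃ k, q ∈ A k := by
  classical
  choose A hA hqA hAO using fun q : K => exists_isAffineOpen_mem_and_subset (U := ⟨O, hO⟩) (hKO q.2)
  obtain ⟨t, ht⟩ := hK.elim_finite_subcover (fun q => (A q : Set S)) (fun q => (A q).isOpen)
    fun q hq => Set.mem_iUnion.2 ⟨⟨q, hq⟩, hqA _⟩
  refine ⟨t.card, fun k => A (t.equivFin.symm k).1, fun k => hA _, fun k => hAO _, fun q hq => ?_⟩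
  obtain ⟨i, hi, hqi⟩ := Set.mem_iUnion₂.1 (ht hq)
  exact ⟨t.equivFin ⟨i, hi⟩, by simpa using hqi⟩

end Groth.Agent.EtTorLib
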