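import Groth.Agent.EtLC12.AffineLocalAcyclic
import Groth.Agent.SitePullUnit.DerivedClass

/-! sheaves acyclic on separated etale schemes have no higher direct images -/

universe u

open CategoryTheory CategoryTheory.Limits AlgebraicGeometry Opposite

namespace Groth.Agent.EtTorLib

set_option backward.isDefEq.respectTransparency false
set_option backward.isDefEq.respectTransparency.types false
set_option linter.style.haveILetI false

open EtFound EtLC12.AffineLocalAcyclic Adeq2Lib

variable {S : Scheme.{u}}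

theorem exists_affine_nhd' (U : S.Etale) (x : U.left) :
    ∃ (W : S.Etale) (g : W ⟶ U) (_ : IsAffine W.left), ∃ w : W.left, g.left.base w = x := by
  obtain ⟨A, hA, hxA, -⟩ := exists_isAffineOpen_mem_and_subset (U := (⊤ : U.left.Opens)) (x := x) trivial
  haveI : AlgebraicGeometry.Etale U.hom := U.prop
  exact ⟨Scheme.Etale.mk (A.ι ≫ U.hom), MorphismProperty.Over.homMk A.ι rfl, hA, (⟨x, hxA⟩ : (A : Scheme.{u})), rfl⟩

theorem epi_of_locally' {Y : Scheme.{u}} {F G : EtCoh.Ab Y} (f : F ⟶ G)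
    (h : ∀ (U : Y.Etale) (s : G.obj.obj (op U)) (x : U.left), ∃ (V : Y.Etale) (g : V ⟶ U) (v : V.left)
      (t : F.obj.obj (op V)), f.hom.app (op V) t = G.obj.map g.op s ∧ g.left.base v = x) : Epi f := by
  haveI : Presheaf.IsLocallySurjective Y.smallEtaleTopology f.hom := ⟨fun {U} s => by
    refine (EtFound.mem_topology_iff _).2 fun x => ?_
    obtain ⟨V, g, v, t, ht, hv⟩ := h U s x
    exact ⟨V, g, v, ⟨t, ht⟩, hv⟩⟩
  haveI : Sheaf.IsLocallySurjective f := ‹_›
  exact Sheaf.epi_of_isLocallySurjective f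

/-- no cohomology in positive degrees on separated etale schemes -/
def IsSepAcyclic (G : EtCoh.Ab S) : Prop :=
  ∀ (T : S.Etale), IsSeparated T.hom → ∀ i : ℕ, 1 ≤ i →
    Subsingleton (EtCoh.H T.left ((EtCoh.pull T.hom).obj G) i)

variable (E : ShortComplex (EtCoh.Ab S)) (hE : E.ShortExact)

include hE in
theorem isSepAcyclic_X₃ (hI : Injective E.X₂) (h1 : IsSepAcyclic E.X₁) : IsSepAcyclic E.X₃ := by
  intro T hT i hi
  haveI := hI
  haveI : AlgebraicGeometry.Etale T.hom := T.prop
  haveI := jCont T.hom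
  have hE' : (E.map (EtCoh.pull T.hom)).ShortExact := shortExact_pull (T.hom : T.left ⟶ S) hE
  haveI : Injective (E.map (EtCoh.pull T.hom)).X₂ := injective_pull T.hom E.X₂
  haveI : ∀ k, Subsingleton (Sheaf.H (E.map (EtCoh.pull T.hom)).X₂ (k + 1)) := fun k =>
    subsingleton_of_forall_eq 0 fun x => Abelian.Ext.eq_zero_of_injective x
  obtain ⟨k, rfl⟩ := Nat.exists_eq_add_of_le hi
  rw [add_comm]
  obtain ⟨e⟩ := ZarCmp.shift _ hE' k
  haveI : Subsingleton (Sheaf.H (E.map (EtCoh.pull T.hom)).X₁ (k + 1 + 1)) := h1 T hT _ (by omega)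
  exact e.toEquiv.subsingleton

include hE in
theorem sections_surjective_of_H1 (hI : Injective E.X₂) (T : S.Etale)
    (h1 : Subsingleton (EtCoh.H T.left ((EtCoh.pull T.hom).obj E.X₁) 1)) :
    Function.Surjective (E.g.hom.app (op T)).hom := by
  haveI := hI
  haveI : AlgebraicGeometry.Etale T.hom := T.prop
  haveI := jCont T.hom
  have hE' : (E.map (EtCoh.pull T.hom)).ShortExact := shortExact_pull (T.hom : T.left ⟶ S) hE
  haveI : Injective (E.map (EtCoh.pull T.hom)).X₂ := injective_pull T.hom E.X₂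
  haveI : Subsingleton (Sheaf.H (E.map (EtCoh.pull T.hom)).X₂ 1) :=
    subsingleton_of_forall_eq 0 fun x => Abelian.Ext.eq_zero_of_injective x
  haveI : Subsingleton (Sheaf.H (E.map (EtCoh.pull T.hom)).X₁ 1) := h1
  obtain ⟨φ, -, hk⟩ := ZarCmp.h1_pres (EtCore.topIsTerminal T.left) _ hE'
  let c : (EtShriek.compEtale T.hom).obj (EtCoh.top T.left) ≅ T :=
    MorphismProperty.Over.isoMk (Iso.refl _) (by
      show 𝟙 T.left ≫ T.hom = 𝟙 T.left ≫ T.hom
      rfl)
  intro y
  let e := restrIsoPull T.hom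
  obtain ⟨x, hx⟩ := (hk (((e.hom.app E.X₃).hom.app (op (EtCoh.top T.left))).hom
    ((E.X₃.obj.map c.hom.op).hom y))).1 (Subsingleton.elim _ _)
  refine ⟨(E.X₂.obj.map c.inv.op).hom (((e.inv.app E.X₂).hom.app (op (EtCoh.top T.left))).hom x), ?_⟩
  refine (NatTrans.naturality_apply E.g.hom c.inv.op _).trans ?_
  have h1' : (E.g.hom.app (op ((EtShriek.compEtale T.hom).obj (EtCoh.top T.left)))).hom
      (((e.inv.app E.X₂).hom.app (op (EtCoh.top T.left))).hom x) = (E.X₃.obj.map c.hom.op).hom y := by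
    refine (congrArg (fun t : (EtCoh.pull T.hom).obj E.X₂ ⟶ (EtShriek.restrAlong T.hom).obj E.X₃ =>
      (t.hom.app (op (EtCoh.top T.left))).hom x) (e.inv.naturality E.g).symm).trans ?_
    refine (congrArg (fun z => ((e.inv.app E.X₃).hom.app (op (EtCoh.top T.left))).hom z) hx).trans ?_
    exact congrArg (fun t : (EtShriek.restrAlong T.hom).obj E.X₃ ⟶ _ =>
      (t.hom.app (op (EtCoh.top T.left))).hom ((E.X₃.obj.map c.hom.op).hom y)) (e.hom_inv_id_app E.X₃)
  refine (congrArg (E.X₃.obj.map c.inv.op).hom h1').trans ?_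
  rw [← ConcreteCategory.comp_apply, ← Functor.map_comp, ← op_comp, c.inv_hom_id]
  exact ConcreteCategory.congr_hom (E.X₃.obj.map_id _) y

variable {Y : Scheme.{u}} (f : S ⟶ Y) [EtCoh.BCCont f]

include hE in
theorem epi_push (hI : Injective E.X₂) (h1 : IsSepAcyclic E.X₁) : Epi ((EtCoh.push f).map E.g) :=
  epi_of_locally' _ fun U s x => by
    obtain ⟨W, a, hW, w, hw⟩ := exists_affine_nhd' U x
    haveI := hW
    haveI : IsSeparated W.hom := by
      haveI : IsSeparated (W.hom ≫ terminal.from Y) := by rw [Subsingleton.elim (W.hom ≫ terminal.from Y) (terminal.from W.left)]; exact Scheme.IsSeparated.isSeparated_terminal_from (X := W.left)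
      exact IsSeparated.of_comp W.hom (terminal.from Y)
    haveI hs : IsSeparated (pullback.snd W.hom f) := MorphismProperty.pullback_snd _ _ ‹IsSeparated W.hom›
    obtain ⟨t, ht⟩ := sections_surjective_of_H1 E hE hI ((EtCoh.bc f).obj W) (h1 _ hs 1 le_rfl)
      (((EtCoh.push f).obj E.X₃).obj.map a.op s)
    exact ⟨W, a, w, t, ht, hw⟩

theorem isZero_Rpush_of_isSepAcyclic {G : EtCoh.Ab S} (hG : IsSepAcyclic G) (q : ℕ) (hq : 1 ≤ q) :
    IsZero ((EtCoh.Rpush f q).obj G) := by
  obtain ⟨n, rfl⟩ : ∃ n, q = n + 1 := ⟨q - 1, by omega⟩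
  haveI : PreservesFiniteLimits (EtCoh.push f) :=
    haveI := (EtCoh.pullPushAdj f).rightAdjoint_preservesLimits
    PreservesLimitsOfSize.preservesFiniteLimits.{0, 0} _
  exact SitePullUnit.isZero_rightDerived_of_class (EtCoh.push f) IsSepAcyclic
    (fun E hE h hI => isSepAcyclic_X₃ E hE hI h) (fun E hE h hI => epi_push E hE f hI h) hG n

end Groth.Agent.EtTorLib
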