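import Groth.Agent.EtTorLib.ColimConstr
import Groth.Agent.ProConsLib.Basic
import Groth.Agent.S8526

/-! torsion sheaves supported in a set stable under specialisation -/

universe u

open CategoryTheory CategoryTheory.Limits AlgebraicGeometry Opposite Topology

namespace Groth.Agent.EtTorLib

set_option backward.isDefEq.respectTransparency.types false
set_option linter.style.haveILetI false

variable {X : Scheme.{u}}

theorem isProConstructible_of_isLocallyConstructible {E : Set X} (h : IsLocallyConstructible E) :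
    ProCons.IsProConstructible E := fun x =>
  ⟨Set.univ, isOpen_univ, trivial, {Subtype.val ⁻¹' E}, fun T hT => by
    rw [Set.mem_singleton_iff.1 hT]
    exact h.preimage_of_isOpenEmbedding isOpen_univ.isOpenEmbedding_subtypeVal, (Set.sInter_singleton _).symm⟩

/-- the closure of the support of a constructible sheaf stays in a specialisation stable set -/
theorem closure_supp_subset {A : EtCoh.Ab X} (hA : EtPBC.IsConstructible A) {E : Set X}
    (hE : StableUnderSpecialization E) (h : EtPBC.supp A ⊆ E) : closure (EtPBC.supp A) ⊆ E := fun y hy => by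
  obtain ⟨z, hz, hzy⟩ := ProConsLib.exists_specializes_of_mem_closure
    (isProConstructible_of_isLocallyConstructible (S8526.result A hA)) hy
  exact hE hzy (h hz)

theorem good_supp_subset (E : Set X) : Good (fun A : EtCoh.Ab X => EtPBC.supp A ⊆ E) where
  iso {A B} e h := fun x ⟨Ω, _, _, ξ, hξ, hz⟩ =>
    h ⟨Ω, _, _, ξ, hξ, fun h0 => hz (h0.of_iso ((EtCoh.stalk ξ).mapIso e).symm)⟩
  zero {A} hA := fun x ⟨Ω, _, _, ξ, hξ, hz⟩ => absurd ((EtCoh.stalk ξ).map_isZero hA) hz
  sum {A B} hA hB := fun x ⟨Ω, _, _, ξ, hξ, hz⟩ => by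
    by_contra hx
    refine hz ?_
    have hA0 : IsZero ((EtCoh.stalk ξ).obj A) := not_not.1 fun h => hx (hA ⟨Ω, _, _, ξ, hξ, h⟩)
    have hB0 : IsZero ((EtCoh.stalk ξ).obj B) := not_not.1 fun h => hx (hB ⟨Ω, _, _, ξ, hξ, h⟩)
    have hS := ((ShortComplex.Splitting.ofHasBinaryBiproduct A B).shortExact.map_of_exact (EtCoh.stalk ξ)).exact
    exact hS.isZero_of_both_zeros (hA0.eq_of_src _ _) (hB0.eq_of_tgt _ _)
  coker {A B} f hB := fun x ⟨Ω, _, _, ξ, hξ, hz⟩ => hB ⟨Ω, _, _, ξ, hξ, fun h0 => hz
    (IsZero.of_epi ((EtCoh.stalk ξ).map (cokernel.π f)) h0)⟩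

variable [CompactSpace X] [QuasiSeparatedSpace X]

/-- torsion sheaves supported in `E` are filtered colimits of constructible sheaves supported in closed subsets of `E` -/
theorem exists_colimit_supp (E : Set X) (hE : StableUnderSpecialization E) (F : EtCoh.Ab X) (hF : EtCoh.IsTorsion F)
    (hsupp : EtPBC.supp F ⊆ E) (hK : ∀ U : X.Etale, IsAffine U.left → IsCompact (U.hom.base ⁻¹' Eᶜ)) :
    ∃ (J : Type (u + 1)) (_ : SmallCategory J) (_ : IsFiltered J) (D : J ⥤ EtCoh.Ab X)
      (c : Cocone D) (_ : IsColimit c), Nonempty (c.pt ≅ F) ∧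
      ∀ j, EtPBC.IsConstructible (D.obj j) ∧
        ∃ Z : Set X, IsClosed Z ∧ Z ⊆ E ∧ EtPBC.supp (D.obj j) ⊆ Z := by
  let P : EtCoh.Ab X → Prop := fun A => EtPBC.supp A ⊆ E
  have hP : Good P := good_supp_subset E
  obtain ⟨hc⟩ := exists_isColimit hP hF fun U hU s n hn hs => by
    haveI : NeZero n := ⟨hn.ne'⟩
    -- the germs of `s` vanish over the complement of `E`
    have hKO : U.hom.base ⁻¹' Eᶜ ⊆ (EtFound.germSupp F U s)ᶜ := fun q hq hqs => by
      obtain ⟨k, _, _, ξ, z, hz⟩ := EtFound.exists_algClosed_point U q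
      refine hq (hsupp ⟨k, _, inferInstance, ξ, ?_, fun h0 => ?_⟩)
      · exact (EtFound.range_point ξ).trans (congrArg _ ((EtFound.base_of_point z).symm.trans (congrArg _ hz)))
      · refine (EtFound.mem_germSupp_iff s z).1 ?_ (@Subsingleton.elim _ (AddCommGrpCat.subsingleton_of_isZero h0) _ _)
        rw [show EtFound.ptOf z = q from hz]
        exact hqs
    obtain ⟨r, A, hA, hAO, hcov⟩ := exists_affine_cover (hK U hU) (EtFound.isClosed_germSupp F U s).isOpen_compl hKO
    choose ι hι using fun k : Fin r => exists_hom_gen (U := openObj U (A k))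
      ((EtPBC.extZeroConst U (ZMod n)).obj.map (openHom U (A k)).op (gen U n))
      ((map_nsmul ((EtPBC.extZeroConst U (ZMod n)).obj.map (openHom U (A k)).op).hom n _).symm.trans
        ((congrArg _ (gen_nsmul U n)).trans (map_zero _)))
    let f := biproduct.desc ι
    obtain ⟨h, hh⟩ := exists_hom_gen s hs
    have hkill : f ≫ h = 0 := biproduct.hom_ext' _ _ fun k => hom_ext_gen (by
      rw [biproduct.ι_desc_assoc, comp_zero]
      change h.hom.app (op (openObj U (A k))) ((ι k).hom.app (op (openObj U (A k))) (gen (openObj U (A k)) n)) = 0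
      rw [hι k]
      refine (NatTrans.naturality_apply h.hom (openHom U (A k)).op (gen U n)).trans ?_
      rw [hh]
      refine eq_zero_of_germs _ fun Ω _ _ ξ v => ?_
      rw [GrothendieckTopology.Point.toPresheafFiber_w_apply]
      by_contra hne
      refine hAO k ?_ ((EtFound.mem_germSupp_iff s _).2 hne)
      rw [← range_openHom, EtFound.ptOf_map]
      exact ⟨_, rfl⟩)
    have hconU : EtPBC.IsConstructible (EtPBC.extZeroConst U (ZMod n)) := by
      haveI := hU
      exact S0133.result X U (ZMod n)
    have hcon : EtPBC.IsConstructible (cokernel f) :=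
      EtFound.isConstructible_cokernel f (EtFound.isConstructible_biproduct _ fun k => by
        haveI : IsAffine (openObj U (A k)).left := hA k
        exact S0133.result X (openObj U (A k)) (ZMod n)) hconU
    refine ⟨cokernel f, cokernel.desc f h hkill, (cokernel.π f).hom.app (op U) (gen U n), hcon, ?_, ?_⟩
    · rintro x ⟨Ω, _, _, ξ, hξ, hz⟩
      by_contra hx
      refine hz (IsZero.of_epi_eq_zero ((EtCoh.stalk ξ).map (cokernel.π f)) (stalk_map_eq_zero _ ξ fun z => ?_))
      have hqx : U.hom.base (EtFound.ptOf z) = x :=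
        (EtFound.base_of_point z).trans (Set.singleton_eq_singleton_iff.1 ((EtFound.range_point ξ).symm.trans hξ))
      obtain ⟨k, hk⟩ := hcov (EtFound.ptOf z) (by rw [Set.mem_preimage, hqx]; exact hx)
      obtain ⟨v, hv⟩ : EtFound.ptOf z ∈ Set.range (openHom U (A k)).left.base := by
        rw [range_openHom]; exact hk
      obtain ⟨v', hv', -⟩ := EtFound.exists_lift_point (openHom U (A k)) z v hv
      rw [← hv', ← GrothendieckTopology.Point.toPresheafFiber_w_apply]
      have e : (cokernel f).obj.map (openHom U (A k)).op ((cokernel.π f).hom.app (op U) (gen U n)) = 0 := by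
        refine (NatTrans.naturality_apply (cokernel.π f).hom (openHom U (A k)).op (gen U n)).symm.trans ?_
        rw [← hι k]
        refine ConcreteCategory.congr_hom (congrArg (fun q : EtPBC.extZeroConst (openObj U (A k)) (ZMod n) ⟶ cokernel f =>
          q.hom.app (op (openObj U (A k)))) (show ι k ≫ cokernel.π f = 0 from ?_)) (gen (openObj U (A k)) n)
        rw [← biproduct.ι_desc ι k, Category.assoc, cokernel.condition, comp_zero]
      rw [e, map_zero]
    · refine Eq.trans ?_ hh
      exact ConcreteCategory.congr_hom (congrArg (fun q : EtPBC.extZeroConst U (ZMod n) ⟶ F => q.hom.app (op U))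
        (cokernel.π_desc f h hkill)) (gen U n)
  refine ⟨Idx P F, inferInstance, isFiltered_idx hP, diagram P F, cocone P F, hc, ⟨Iso.refl _⟩, fun j =>
    ⟨j.p.isConstructible, closure (EtPBC.supp j.p.E), isClosed_closure, closure_supp_subset j.p.isConstructible hE j.hp,
      subset_closure⟩⟩

end Groth.Agent.EtTorLib
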