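import Groth.Agent.EtTorLib.RepFLC

/-! the finite etale scheme representing a finite locally constant sheaf -/

universe u

open CategoryTheory CategoryTheory.Limits AlgebraicGeometry Opposite

namespace Groth.Agent.EtTorLib

set_option backward.isDefEq.respectTransparency false
set_option backward.isDefEq.respectTransparency.types false

open EtFound

theorem isFinite_etale_of_pullback_chart {X U W : Scheme.{u}} (f : U ⟶ X) (O : X.Opens) [IsAffine W]
    [IsAffine (O : Scheme.{u})] (q : W ⟶ O) [Flat q] [Surjective q]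
    (h : IsFinite (pullback.fst (q ≫ O.ι) f) ∧ Etale (pullback.fst (q ≫ O.ι) f)) :
    IsFinite (pullback.snd f O.ι) ∧ Etale (pullback.snd f O.ι) := by
  have hq : (@Surjective ⊓ @Flat ⊓ @QuasiCompact : MorphismProperty Scheme.{u}) q :=
    ⟨⟨inferInstance, inferInstance⟩, inferInstance⟩
  have sq : IsPullback (pullback.fst q (pullback.snd f O.ι))
      (pullback.snd q (pullback.snd f O.ι) ≫ pullback.fst f O.ι) (q ≫ O.ι) f :=
    ((IsPullback.of_hasPullback q (pullback.snd f O.ι)).flip.paste_horiz (IsPullback.of_hasPullback f O.ι)).flip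
  haveI := EtFound.fpqc_isFinite.{u}
  constructor
  · refine MorphismProperty.of_pullback_fst_of_descendsAlong (P := @IsFinite) hq ?_
    rw [← sq.isoPullback_hom_fst, MorphismProperty.cancel_left_of_respectsIso @IsFinite]
    exact h.1
  · refine MorphismProperty.of_pullback_fst_of_descendsAlong (P := @Etale) hq ?_
    rw [← sq.isoPullback_hom_fst, MorphismProperty.cancel_left_of_respectsIso @Etale]
    exact h.2

variable {X : Scheme.{u}} {F : EtCoh.Ab X}

/-- the pullback of `U` to a chart -/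
noncomputable def onChart (U W : X.Etale) : X.Etale :=
  haveI : Etale U.hom := U.prop
  haveI : Etale W.hom := W.prop
  Scheme.Etale.mk (pullback.fst W.hom U.hom ≫ W.hom)

noncomputable def onChartFst (U W : X.Etale) : onChart U W ⟶ W :=
  MorphismProperty.Over.homMk (pullback.fst _ _) rfl

noncomputable def onChartSnd (U W : X.Etale) : onChart U W ⟶ U :=
  MorphismProperty.Over.homMk (pullback.snd _ _) pullback.condition.symm

noncomputable def onChartLift {U W V : X.Etale} (c : V ⟶ W) (g : V ⟶ U) : V ⟶ onChart U W :=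
  MorphismProperty.Over.homMk
    (pullback.lift c.left g.left ((MorphismProperty.Over.w c).trans (MorphismProperty.Over.w g).symm))
    ((pullback.lift_fst_assoc _ _ _ _).trans (MorphismProperty.Over.w c))

theorem onChartLift_fst {U W V : X.Etale} (c : V ⟶ W) (g : V ⟶ U) : onChartLift c g ≫ onChartFst U W = c :=
  MorphismProperty.Over.Hom.ext (pullback.lift_fst _ _ _)

theorem onChartLift_snd {U W V : X.Etale} (c : V ⟶ W) (g : V ⟶ U) : onChartLift c g ≫ onChartSnd U W = g :=
  MorphismProperty.Over.Hom.ext (pullback.lift_snd _ _ _)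

/-- what descent provides -/
structure Glued {ι : Type u} {W : ι → X.Etale} (L : ∀ i, LocalRep F (W i)) where
  U : X.Etale
  finite : IsFinite U.hom
  a : ∀ i, onChart U (W i) ⟶ (L i).R
  isIso : ∀ i, IsIso (a i)
  a_r : ∀ i, a i ≫ (L i).r = onChartFst U (W i)
  compat : ∀ (i j : ι) (V : X.Etale) (b : V ⟶ onChart U (W i)) (c : V ⟶ onChart U (W j)),
    b ≫ onChartSnd U (W i) = c ≫ onChartSnd U (W j) → F.obj.map (b ≫ a i).op (L i).sec = F.obj.map (c ≫ a j).op (L j).sec

theorem exists_glued {ι : Type u} {W : ι → X.Etale} (L : ∀ i, LocalRep F (W i)) [∀ i, IsAffine (W i).left]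
    (O : ι → X.Opens) (hO : ∀ i, IsAffineOpen (O i)) (q : ∀ i, (W i).left ⟶ O i)
    (hq : ∀ i, q i ≫ (O i).ι = (W i).hom) (hqs : ∀ i, Surjective (q i)) (hOcov : ∀ x : X, ∃ i, x ∈ O i) :
    Nonempty (Glued L) := by
  have hcov : ∀ x : X, ∃ i w, (W i).hom.base w = x := fun x => by
    obtain ⟨i, hi⟩ := hOcov x
    obtain ⟨w, hw⟩ := (q i).surjective (⟨x, hi⟩ : (O i : Scheme.{u}))
    refine ⟨i, w, ?_⟩
    rw [← hq i, Scheme.Hom.comp_apply]
    exact (congrArg (O i).ι.base hw).trans rfl
  obtain ⟨U₀, ⟨e⟩⟩ := effective_repDD L hcov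
  haveI : ∀ i, AlgebraicGeometry.Etale (W i).hom := fun i => (W i).prop
  let ε : ∀ i, pullback (W i).hom U₀.hom ⟶ (L i).R.left := fun i => (e.hom.hom i).left
  have hε : ∀ i, ε i ≫ (L i).r.left = pullback.fst (W i).hom U₀.hom := fun i => Over.w (e.hom.hom i)
  haveI hεi : ∀ i, IsIso (ε i) := fun i => ⟨(e.inv.hom i).left, congrArg (fun a => (a.hom i).left) e.hom_inv_id,
    congrArg (fun a => (a.hom i).left) e.inv_hom_id⟩
  have hchart : ∀ i, IsFinite (pullback.snd U₀.hom (O i).ι) ∧ Etale (pullback.snd U₀.hom (O i).ι) := fun i => by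
    haveI : IsAffine (O i : Scheme.{u}) := hO i
    haveI := hqs i
    haveI : Flat (q i) := by
      haveI : Etale (q i ≫ (O i).ι) := by rw [hq i]; infer_instance
      haveI : Etale (q i) := MorphismProperty.of_postcomp (W := @Etale) (W' := @Etale) (q i) (O i).ι
        inferInstance inferInstance
      infer_instance
    refine isFinite_etale_of_pullback_chart U₀.hom (O i) (q i) ?_
    rw [hq i, ← hε i]
    haveI := (L i).finite
    haveI := etale_left (L i).r
    exact ⟨inferInstance, inferInstance⟩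
  have hOc : TopologicalSpace.IsOpenCover O := TopologicalSpace.IsOpenCover.mk
    (top_le_iff.1 fun x _ => TopologicalSpace.Opens.mem_iSup.2 (hOcov x))
  haveI hUe : Etale U₀.hom :=
    (IsZariskiLocalAtTarget.iff_of_openCover (P := @Etale) (X.openCoverOfIsOpenCover O hOc)).2 fun i => (hchart i).2
  have hUf : IsFinite U₀.hom :=
    (IsZariskiLocalAtTarget.iff_of_openCover (P := @IsFinite) (X.openCoverOfIsOpenCover O hOc)).2 fun i => (hchart i).1
  let a : ∀ i, onChart (Scheme.Etale.mk U₀.hom) (W i) ⟶ (L i).R := fun i => MorphismProperty.Over.homMk (ε i) (by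
    show ε i ≫ (L i).R.hom = pullback.fst _ _ ≫ (W i).hom
    rw [← MorphismProperty.Over.w (L i).r, ← Category.assoc, hε i])
  have har : ∀ i, a i ≫ (L i).r = onChartFst _ (W i) := fun i => MorphismProperty.Over.Hom.ext (hε i)
  refine ⟨⟨Scheme.Etale.mk U₀.hom, hUf, a, fun i => ?_, har, fun i j V b c hbc => ?_⟩⟩
  · have hinv : inv (ε i) ≫ (onChart (Scheme.Etale.mk U₀.hom) (W i)).hom = (L i).R.hom := by
      rw [IsIso.inv_comp_eq]
      exact (MorphismProperty.Over.w (a i)).symm
    exact ⟨MorphismProperty.Over.homMk (inv (ε i)) hinv, MorphismProperty.Over.Hom.ext (IsIso.hom_inv_id (ε i)),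
      MorphismProperty.Over.Hom.ext (IsIso.inv_hom_id (ε i))⟩
  · let U : X.Etale := Scheme.Etale.mk U₀.hom
    let x₀ := (b ≫ onChartFst U (W i)).left
    let x₁ := (c ≫ onChartFst U (W j)).left
    have h₀ : x₀ ≫ (W i).hom = x₁ ≫ (W j).hom :=
      (MorphismProperty.Over.w (b ≫ onChartFst U (W i))).trans (MorphismProperty.Over.w (c ≫ onChartFst U (W j))).symm
    let v : Desc.Lifts (((Desc.toDDFam fun i => (W i).hom).obj U₀).obj i) x₀ := ⟨b.left, rfl⟩
    let w : Desc.Lifts ((repDD L).obj i) x₀ :=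
      ⟨(b ≫ a i).left, congrArg (fun k : V ⟶ W i => k.left)
        ((Category.assoc _ _ _).trans (congrArg (b ≫ ·) (har i)))⟩
    have key := e.hom.comm x₀ x₁ h₀ v w rfl
    have hv : ((((Desc.toDDFam fun i => (W i).hom).obj U₀).φ x₀ x₁ h₀ v).1) = c.left := by
      refine pullback.hom_ext ?_ ?_
      · exact pullback.lift_fst _ _ _
      · exact (pullback.lift_snd _ _ _).trans (congrArg (fun k : V ⟶ U => k.left) hbc)
    rw [hv] at key
    let l : V ⟶ ovl L i j := MorphismProperty.Over.homMk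
      (pullback.lift (b ≫ a i).left x₁
        ((MorphismProperty.Over.w (b ≫ a i)).trans (MorphismProperty.Over.w (c ≫ onChartFst U (W j))).symm))
      ((pullback.lift_snd_assoc _ _ _ _).trans (MorphismProperty.Over.w (c ≫ onChartFst U (W j))))
    have hl : l ≫ ovlFst L i j = b ≫ a i := MorphismProperty.Over.Hom.ext (pullback.lift_fst _ _ _)
    have hlc : c ≫ a j = l ≫ trans L i j := MorphismProperty.Over.Hom.ext key.symm
    rw [hlc, ← hl, res_res l, res_res l, trans_sec]

variable {ι : Type u} {W : ι → X.Etale} {L : ∀ i, LocalRep F (W i)} (G : Glued L)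

theorem exists_sec (hcov : ∀ x : X, ∃ i w, (W i).hom.base w = x) :
    ∃ ξ : F.obj.obj (op G.U), ∀ i, F.obj.map (onChartSnd G.U (W i)).op ξ = F.obj.map (G.a i).op (L i).sec := by
  have hPcov : ∀ u : G.U.left, ∃ (i : ι) (z : (onChart G.U (W i)).left), (onChartSnd G.U (W i)).left.base z = u := fun u => by
    obtain ⟨i, w, hw⟩ := hcov (G.U.hom.base u)
    obtain ⟨z, -, hz⟩ := Scheme.Pullback.exists_preimage_pullback (f := (W i).hom) (g := G.U.hom) w u hw
    exact ⟨i, z, hz⟩
  obtain ⟨ξ, hξ, -⟩ := (Presieve.isSheafFor_arrows_iff _ _).1 (isSheafFor_of_covers F _ _ hPcov)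
    (fun i => F.obj.map (G.a i).op (L i).sec) (fun i j V b c hbc => by
      show F.obj.map b.op (F.obj.map (G.a i).op (L i).sec) = F.obj.map c.op (F.obj.map (G.a j).op (L j).sec)
      rw [← res_res, ← res_res]
      exact G.compat i j V b c hbc)
  exact ⟨ξ, hξ⟩

variable {ξ : F.obj.obj (op G.U)} (hξ : ∀ i, F.obj.map (onChartSnd G.U (W i)).op ξ = F.obj.map (G.a i).op (L i).sec)
  (hcov : ∀ x : X, ∃ i w, (W i).hom.base w = x)

include hξ in
theorem eq_on_chart {V : X.Etale} (g g' : V ⟶ G.U) (i : ι) (c : V ⟶ W i)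
    (h : F.obj.map g.op ξ = F.obj.map g'.op ξ) : g = g' := by
  have hs : ∀ g, F.obj.map (onChartLift c g ≫ G.a i).op (L i).sec = F.obj.map g.op ξ := fun g => by
    rw [res_res, ← hξ, ← res_res, onChartLift_snd]
  have e' : onChartLift c g ≫ G.a i = onChartLift c g' ≫ G.a i := localRep_ext L
    (by simp only [Category.assoc, G.a_r, onChartLift_fst]) ((hs g).trans (h.trans (hs g').symm))
  haveI := G.isIso i
  rw [← onChartLift_snd c g, ← onChartLift_snd c g', (cancel_mono (G.a i)).1 e']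

include hξ in
theorem exists_on_chart {V : X.Etale} (i : ι) (c : V ⟶ W i) (s : F.obj.obj (op V)) :
    ∃ g : V ⟶ G.U, F.obj.map g.op ξ = s := by
  obtain ⟨b, ⟨hb, hbs⟩, -⟩ := (L i).univ V c s
  haveI := G.isIso i
  refine ⟨b ≫ inv (G.a i) ≫ onChartSnd G.U (W i), ?_⟩
  rw [res_res, res_res, hξ, ← res_res (f := inv (G.a i)), IsIso.inv_hom_id]
  refine Eq.trans (congrArg _ ?_) hbs
  exact ConcreteCategory.congr_hom (F.obj.map_id (op (L i).R)) _

include hcov in
theorem sieve_mem (V : X.Etale) : DescLib.factorSieve (fun i => (W i).hom) V.hom ∈ Scheme.fpqcTopology V.left := by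
  haveI : ∀ i, AlgebraicGeometry.Etale (W i).hom := fun i => (W i).prop
  exact DescLib.factorSieve_mem_of_cover _ (Scheme.fppfPrecoverage_le_fpqcPrecoverage _ (by
    rw [Scheme.fppfPrecoverage, Scheme.ofArrows_mem_precoverage_iff]
    exact ⟨fun x => hcov x, fun i => ⟨inferInstance, inferInstance⟩⟩)) _

include hξ hcov in
theorem eq_of_sec_eq {V : X.Etale} (g g' : V ⟶ G.U) (h : F.obj.map g.op ξ = F.obj.map g'.op ξ) : g = g' := by
  refine MorphismProperty.Over.Hom.ext (DescLib.hom_ext_of_covering _ (sieve_mem hcov V) _ _ fun T t ⟨i, x, hx⟩ => ?_)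
  have h' := eq_on_chart G hξ (onChartSnd V (W i) ≫ g) (onChartSnd V (W i) ≫ g') i (onChartFst V (W i))
    (by rw [res_res, res_res, h])
  rw [show t = pullback.lift x t hx ≫ (onChartSnd V (W i)).left from (pullback.lift_snd _ _ _).symm,
    Category.assoc, Category.assoc]
  exact congrArg (fun k : onChart V (W i) ⟶ G.U => pullback.lift x t hx ≫ k.left) h'

include hξ hcov in
theorem comp_eq_comp {V : X.Etale} (s : F.obj.obj (op V)) (g : ∀ i, onChart V (W i) ⟶ G.U)
    (hg : ∀ i, F.obj.map (g i).op ξ = F.obj.map (onChartSnd V (W i)).op s) {T : Scheme.{u}} (i j : ι)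
    (x : T ⟶ (onChart V (W i)).left) (y : T ⟶ (onChart V (W j)).left)
    (hxy : x ≫ (onChartSnd V (W i)).left = y ≫ (onChartSnd V (W j)).left) : x ≫ (g i).left = y ≫ (g j).left := by
  haveI := etale_left (onChartSnd V (W i))
  haveI : Etale (onChart V (W j)).hom := (onChart V (W j)).prop
  let Z : X.Etale := Scheme.Etale.mk
    (pullback.snd (onChartSnd V (W i)).left (onChartSnd V (W j)).left ≫ (onChart V (W j)).hom)
  let z₂ : Z ⟶ onChart V (W j) := MorphismProperty.Over.homMk (pullback.snd _ _) rfl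
  let z₁ : Z ⟶ onChart V (W i) := MorphismProperty.Over.homMk (pullback.fst _ _) (by
    show pullback.fst _ _ ≫ (onChart V (W i)).hom = pullback.snd _ _ ≫ (onChart V (W j)).hom
    rw [← MorphismProperty.Over.w (onChartSnd V (W i)), ← MorphismProperty.Over.w (onChartSnd V (W j)),
      pullback.condition_assoc])
  have hz : z₁ ≫ onChartSnd V (W i) = z₂ ≫ onChartSnd V (W j) := MorphismProperty.Over.Hom.ext pullback.condition
  have hzg := eq_of_sec_eq G hξ hcov (z₁ ≫ g i) (z₂ ≫ g j) (by rw [res_res, hg, res_res, hg, ← res_res, hz, res_res])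
  have h1 : pullback.lift x y hxy ≫ z₁.left = x := pullback.lift_fst _ _ _
  have h2 : pullback.lift x y hxy ≫ z₂.left = y := pullback.lift_snd _ _ _
  exact (congrArg (· ≫ (g i).left) h1.symm).trans (((Category.assoc _ _ _).trans
    (congrArg (fun k : Z ⟶ G.U => pullback.lift x y hxy ≫ k.left) hzg)).trans
    ((Category.assoc _ _ _).symm.trans (congrArg (· ≫ (g j).left) h2)))

include hξ hcov in
theorem existsUnique_of_glued (V : X.Etale) (s : F.obj.obj (op V)) : ∃! g : V ⟶ G.U, F.obj.map g.op ξ = s := by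
  suffices H : ∃ g : V ⟶ G.U, F.obj.map g.op ξ = s from
    ⟨H.choose, H.choose_spec, fun g hg => eq_of_sec_eq G hξ hcov _ _ (hg.trans H.choose_spec.symm)⟩
  choose g hg using fun i => exists_on_chart G hξ i (onChartFst V (W i)) (F.obj.map (onChartSnd V (W i)).op s)
  obtain ⟨g₀, hg₀⟩ := DescLib.exists_glue _ (sieve_mem hcov V)
    (fun T t ht => pullback.lift ht.choose_spec.choose t ht.choose_spec.choose_spec ≫ (g ht.choose).left)
    (fun T T' k t ht t' ht' e => by
      subst e
      rw [← Category.assoc]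
      refine comp_eq_comp G hξ hcov s g hg _ _ _ _ ?_
      exact ((pullback.lift_snd _ _ _).trans (congrArg (k ≫ ·) (pullback.lift_snd _ _ _)).symm).trans
        (Category.assoc _ _ _).symm)
  have hg₁ : ∀ i, (onChartSnd V (W i)).left ≫ g₀ = (g i).left := fun i => by
    rw [hg₀ (onChartSnd V (W i)).left ⟨i, (onChartFst V (W i)).left, pullback.condition⟩]
    refine (comp_eq_comp G hξ hcov s g hg _ i _ (𝟙 _) ?_).trans (Category.id_comp _)
    rw [Category.id_comp]
    exact pullback.lift_snd _ _ _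
  have hw : g₀ ≫ G.U.hom = V.hom := DescLib.hom_ext_of_covering _ (sieve_mem hcov V) _ _ fun T t ⟨i, x, hx⟩ => by
    rw [show t = pullback.lift x t hx ≫ (onChartSnd V (W i)).left from (pullback.lift_snd _ _ _).symm,
      Category.assoc, Category.assoc, ← Category.assoc (onChartSnd V (W i)).left, hg₁ i,
      MorphismProperty.Over.w (g i), MorphismProperty.Over.w (onChartSnd V (W i))]
  refine ⟨MorphismProperty.Over.homMk g₀ hw, (isSheafFor_of_covers F (fun i => onChart V (W i))
    (fun i => onChartSnd V (W i)) fun u => ?_).isSeparatedFor.ext fun T k hk => ?_⟩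
  · obtain ⟨i, w, hw'⟩ := hcov (V.hom.base u)
    obtain ⟨z, -, hz⟩ := Scheme.Pullback.exists_preimage_pullback (f := (W i).hom) (g := V.hom) w u hw'
    exact ⟨i, z, hz⟩
  · obtain ⟨i⟩ := hk
    show F.obj.map (onChartSnd V (W i)).op (F.obj.map (MorphismProperty.Over.homMk g₀ hw : V ⟶ G.U).op ξ) =
      F.obj.map (onChartSnd V (W i)).op s
    rw [← res_res, show onChartSnd V (W i) ≫ (MorphismProperty.Over.homMk g₀ hw : V ⟶ G.U) = g i from
      MorphismProperty.Over.Hom.ext (hg₁ i)]
    exact hg i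

omit G hξ hcov in
theorem exists_finite_etale_rep (hF : EtCoh.IsFiniteLocallyConstant F) :
    ∃ (U : X.Etale) (_ : IsFinite U.hom) (ξ : F.obj.obj (op U)),
      ∀ (V : X.Etale) (s : F.obj.obj (op V)), ∃! g : V ⟶ U, F.obj.map g.op ξ = s := by
  choose W hWa O hxO hO q hq hqs hL using exists_charts F hF
  haveI : ∀ i, IsAffine (W i).left := hWa
  obtain ⟨G⟩ := exists_glued (fun x => (hL x).some) O hO q hq hqs fun x => ⟨x, hxO x⟩
  have hcov : ∀ x : X, ∃ i w, (W i).hom.base w = x := fun x => by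
    obtain ⟨w, hw⟩ := (q x).surjective (⟨x, hxO x⟩ : (O x : Scheme.{u}))
    refine ⟨x, w, ?_⟩
    rw [← hq x, Scheme.Hom.comp_apply]
    exact (congrArg (O x).ι.base hw).trans rfl
  obtain ⟨ξ, hξ⟩ := exists_sec G hcov
  exact ⟨G.U, G.finite, ξ, existsUnique_of_glued G hξ hcov⟩

theorem nonempty_repr_iso (hF : EtCoh.IsFiniteLocallyConstant F) :
    ∃ (U : X.Etale) (_ : IsFinite U.hom),
      Nonempty (F.obj ⋙ forget AddCommGrpCat.{u + 1} ≅ yoneda.obj U ⋙ uliftFunctor.{u + 1}) := by
  obtain ⟨U, hU, ξ, h⟩ := exists_finite_etale_rep hF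
  refine ⟨U, hU, ⟨(NatIso.ofComponents (fun V => (Equiv.ofBijective
    (fun g : ULift.{u + 1} (V.unop ⟶ U) => F.obj.map g.down.op ξ) ⟨?_, ?_⟩).toIso) ?_).symm⟩⟩
  · exact fun g g' hgg => ULift.ext _ _ ((h _ _).unique rfl hgg.symm)
  · exact fun s => ⟨⟨(h _ s).choose⟩, (h _ s).choose_spec.1⟩
  · intro V V' f
    ext g
    exact res_res f.unop g.down ξ

end Groth.Agent.EtTorLib
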