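import Groth.Agent.EtTorLib.ConstPartition
import Groth.Agent.EtTorLib.RepFLCMain
import Groth.Agent.EtFound.FLCAb
import Groth.Agent.EtLC12.AffineLocalAcyclic
import Groth.Prelude.Def_EtCore

/-! degree one classes of finite locally constant sheaves -/

universe u

open CategoryTheory CategoryTheory.Limits AlgebraicGeometry Opposite

namespace Groth.Agent.EtTorLib

set_option backward.isDefEq.respectTransparency false
set_option backward.isDefEq.respectTransparency.types false

open EtFound EtLC12.AffineLocalAcyclic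

variable {Y : Scheme.{u}}

theorem isFiniteLocallyConstant_const (M : Type) [AddCommGroup M] [Finite M] :
    EtCoh.IsFiniteLocallyConstant (EtCoh.const Y M) :=
  ⟨PUnit, fun _ => EtCoh.top Y, fun y => ⟨⟨⟩, y, rfl⟩, fun _ => ⟨M, inferInstance, ‹_›,
    nonempty_restr_iso_const (φ := constSect M (EtCoh.top Y)) fun Ω _ _ ξ z => by
      refine Eq.mp (congrArg Function.Bijective (funext fun m => ?_)) (constSect_germ_bijective M (EtCoh.top Y) z)
      exact (ConcreteCategory.comp_apply _ _ _).symm⟩⟩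

/-- the sequence of constant sheaves defining the integers modulo `n` -/
noncomputable def modSeq (n : ℕ) : ShortComplex AddCommGrpCat.{u + 1} :=
  ShortComplex.mk (X₁ := AddCommGrpCat.of (ULift.{u + 1} ℤ)) (X₂ := AddCommGrpCat.of (ULift.{u + 1} ℤ))
    (X₃ := AddCommGrpCat.of (ULift.{u + 1} (ZMod n)))
    (AddCommGrpCat.ofHom (AddMonoidHom.mk' (fun k => ⟨(n : ℤ) * k.down⟩) fun a b => ULift.ext _ _ (mul_add _ _ _)))
    (AddCommGrpCat.ofHom (AddMonoidHom.mk' (fun k => ⟨(k.down : ZMod n)⟩) fun a b => ULift.ext _ _ (Int.cast_add _ _)))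
    (by
      refine AddCommGrpCat.hom_ext (AddMonoidHom.ext fun k => ULift.ext _ _ ?_)
      show (((n : ℤ) * k.down : ℤ) : ZMod n) = 0
      rw [Int.cast_mul, Int.cast_natCast, ZMod.natCast_self, zero_mul])

theorem modSeq_f (n : ℕ) : (modSeq.{u} n).f = n • 𝟙 _ := by
  refine AddCommGrpCat.hom_ext (AddMonoidHom.ext fun k => ULift.ext _ _ ?_)
  simp [modSeq]

theorem modSeq_shortExact {n : ℕ} (hn : 0 < n) : (modSeq.{u} n).ShortExact where
  exact := by
    rw [ShortComplex.ab_exact_iff]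
    rintro ⟨k⟩ hk
    have hk' : (k : ZMod n) = 0 := congrArg ULift.down hk
    obtain ⟨c, rfl⟩ := (ZMod.intCast_zmod_eq_zero_iff_dvd k n).1 hk'
    exact ⟨⟨c⟩, ULift.ext _ _ (by simp [modSeq])⟩
  mono_f := (AddCommGrpCat.mono_iff_injective _).2 fun a b h => by
    have h' : n • a.down = n • b.down := by simpa [modSeq] using congrArg ULift.down h
    exact ULift.ext _ _ (by simpa [hn.ne'] using h')
  epi_g := (AddCommGrpCat.epi_iff_surjective _).2 fun m => by
    obtain ⟨k, hk⟩ := ZMod.intCast_surjective m.down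
    exact ⟨⟨k⟩, ULift.ext _ _ hk⟩

theorem constantSheaf_shortExact {S : ShortComplex AddCommGrpCat.{u + 1}} (hS : S.ShortExact) :
    ∃ (_ : (constantSheaf Y.smallEtaleTopology AddCommGrpCat.{u + 1}).PreservesZeroMorphisms),
      (S.map (constantSheaf Y.smallEtaleTopology AddCommGrpCat.{u + 1})).ShortExact := by
  let F := constantSheaf Y.smallEtaleTopology AddCommGrpCat.{u + 1}
  haveI : (EtCore.gsec Y).Additive := ⟨fun {_ _ _ _} => rfl⟩
  haveI : F.Additive := (EtCore.constAdj Y).left_adjoint_additive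
  have : PreservesFiniteLimits F := comp_preservesFiniteLimits _ _
  have : PreservesColimitsOfSize.{0, 0} F := (EtCore.constAdj Y).leftAdjoint_preservesColimits
  have : PreservesFiniteColimits F := PreservesColimitsOfSize.preservesFiniteColimits _
  exact ⟨inferInstance, hS.map_of_exact _⟩

theorem nsmul_id_comp_eq_zero {C : Type*} [Category C] [Abelian C] [HasExt C] {A B : C} (n : ℕ)
    (ζ : Abelian.Ext A B 1) (h : n • 𝟙 B = 0) :
    (Abelian.Ext.mk₀ (n • 𝟙 A)).comp ζ (zero_add 1) = 0 := by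
  have h1 : (Abelian.Ext.mk₀ (n • 𝟙 A)).comp ζ (zero_add 1) = n • ζ := by
    rw [← Abelian.Ext.addEquiv₀_symm_apply, map_nsmul, ← Abelian.Ext.bilinearComp_apply_apply, map_nsmul,
      AddMonoidHom.nsmul_apply, Abelian.Ext.bilinearComp_apply_apply, Abelian.Ext.addEquiv₀_symm_apply,
      Abelian.Ext.mk₀_id_comp]
  have h2 : ζ.comp (Abelian.Ext.mk₀ (n • 𝟙 B)) (add_zero 1) = n • ζ := by
    rw [← Abelian.Ext.addEquiv₀_symm_apply, map_nsmul, ← Abelian.Ext.bilinearComp_apply_apply, map_nsmul,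
      Abelian.Ext.bilinearComp_apply_apply, Abelian.Ext.addEquiv₀_symm_apply, Abelian.Ext.comp_mk₀_id]
  rw [h1, ← h2, h, Abelian.Ext.mk₀_zero, Abelian.Ext.comp_zero]

/-- every degree one class becomes an extension by a constant cyclic sheaf, split by a finite etale cover -/
theorem exists_kill (F : EtCoh.Ab Y) (hF : EtCoh.IsFiniteLocallyConstant F) {n : ℕ} (hn : 0 < n)
    (hnF : EtCoh.KilledBy n F) (ζ : EtCoh.H Y F 1) :
    ∃ (E : ShortComplex (EtCoh.Ab Y)) (hE : E.ShortExact) (eF : E.X₁ = F) (G : EtCoh.Ab Y)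
      (p : G ⟶ EtCoh.const Y (ZMod n)) (k : G ⟶ E.X₂) (h : EtCoh.const Y (ZMod n) ⟶ E.X₃)
      (π : EtCoh.const Y ℤ ⟶ EtCoh.const Y (ZMod n)) (T : Y.Etale),
      k ≫ E.g = p ≫ h ∧ IsFinite T.hom ∧ Surjective T.hom ∧ Function.Surjective (p.hom.app (op T)) ∧
      (eF ▸ ζ : EtCoh.H Y E.X₁ 1) = (Abelian.Ext.mk₀ (π ≫ h)).comp hE.extClass (zero_add 1) := by
  haveI : NeZero n := ⟨hn.ne'⟩
  obtain ⟨_, hS⟩ := constantSheaf_shortExact (Y := Y) (modSeq_shortExact hn)
  let C := constantSheaf Y.smallEtaleTopology AddCommGrpCat.{u + 1}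
  haveI : (EtCore.gsec Y).Additive := ⟨fun {_ _ _ _} => rfl⟩
  haveI : C.Additive := (EtCore.constAdj Y).left_adjoint_additive
  obtain ⟨η, hη⟩ := Abelian.Ext.contravariant_sequence_exact₂ hS F ζ (by
    have hf : ((modSeq n).map C).f = n • 𝟙 _ :=
      (congrArg C.map (modSeq_f n)).trans ((C.map_nsmul).trans (congrArg (n • ·) (C.map_id _)))
    refine (congrArg (fun q => (Abelian.Ext.mk₀ q).comp ζ (zero_add 1)) hf).trans ?_
    refine nsmul_id_comp_eq_zero n ζ ((sheafToPresheaf _ _).map_injective ?_)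
    rw [Functor.map_nsmul, Functor.map_zero, CategoryTheory.Functor.map_id]
    ext U s
    rw [NatTrans.app_nsmul]
    exact hnF U.unop s)
  let ι := Injective.ι F
  let E : ShortComplex (EtCoh.Ab Y) := ShortComplex.mk ι (cokernel.π ι) (cokernel.condition ι)
  have hE : E.ShortExact :=
    { exact := ShortComplex.exact_of_g_is_cokernel _ (cokernelIsCokernel ι) }
  haveI : Injective E.X₂ := inferInstanceAs (Injective (Injective.under F))
  obtain ⟨η₀, hη₀⟩ := Abelian.Ext.covariant_sequence_exact₁ _ hE η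
    (Abelian.Ext.eq_zero_of_injective _) (n₀ := 0) rfl
  let h : EtCoh.const Y (ZMod n) ⟶ E.X₃ := Abelian.Ext.addEquiv₀ η₀
  let π : EtCoh.const Y ℤ ⟶ EtCoh.const Y (ZMod n) := ((modSeq n).map C).g
  let G := pullback E.g h
  let p : G ⟶ EtCoh.const Y (ZMod n) := pullback.snd E.g h
  let P : ShortComplex (EtCoh.Ab Y) := ShortComplex.mk (pullback.lift ι 0 (by simp [E])) p (pullback.lift_snd _ _ _)
  haveI : Epi E.g := hE.epi_g
  haveI : Mono P.f := mono_of_mono_fac (pullback.lift_fst ι 0 (show ι ≫ E.g = 0 ≫ h by simp [E]))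
  haveI : Epi P.g := inferInstanceAs (Epi (pullback.snd E.g h))
  have hP : P.ShortExact :=
    { exact := by
        refine ShortComplex.exact_of_f_is_kernel _ (KernelFork.IsLimit.ofι' _ _ fun {A} a ha => ?_)
        let l := hE.exact.lift (a ≫ pullback.fst E.g h) (by
          rw [Category.assoc, pullback.condition, ← Category.assoc, ha, zero_comp])
        refine ⟨l, pullback.hom_ext ?_ ?_⟩
        · rw [Category.assoc]
          exact (congrArg (l ≫ ·) (pullback.lift_fst _ _ _)).trans (hE.exact.lift_f _ _)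
        · rw [Category.assoc]
          exact (congrArg (l ≫ ·) (pullback.lift_snd _ _ _)).trans (comp_zero.trans ha.symm) }
  have hG : EtCoh.IsFiniteLocallyConstant G :=
    isFiniteLocallyConstant_of_extension hP hF (isFiniteLocallyConstant_const (ZMod n))
  obtain ⟨U, hUf, ξ, hU⟩ := exists_finite_etale_rep hG
  obtain ⟨O, hOc, hOd, hO⟩ := exists_partition (ZMod n) U (p.hom.app (op U) ξ)
  let O₁ := O ⟨1⟩
  haveI : AlgebraicGeometry.Etale U.hom := U.prop
  let T : Y.Etale := Scheme.Etale.mk (O₁.ι ≫ U.hom)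
  let j : T ⟶ U := MorphismProperty.Over.homMk O₁.ι rfl
  haveI := hUf
  haveI : IsClosedImmersion O₁.ι := IsClosedImmersion.of_isPreimmersion _ (by
    rw [Scheme.Opens.range_ι, ← isOpen_compl_iff]
    refine isOpen_iff_forall_mem_open.2 fun v hv => ?_
    obtain ⟨m, hm⟩ := hOc v
    exact ⟨O m, fun w hw hw' => hv (show v ∈ O ⟨1⟩ from hOd m ⟨1⟩ w hw hw' ▸ hm), (O m).isOpen, hm⟩)
  have hjT : p.hom.app (op T) (G.obj.map j.op ξ) = constSect (ZMod n) T ⟨1⟩ :=
    (NatTrans.naturality_apply p.hom j.op ξ).trans (hO ⟨1⟩ T j (by rintro _ ⟨a, rfl⟩; exact a.2))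
  haveI : Epi p := inferInstanceAs (Epi (pullback.snd E.g h))
  haveI : Sheaf.IsLocallySurjective p := (Sheaf.isLocallySurjective_iff_epi' _ p).2 inferInstance
  have hsurj : Surjective T.hom := ⟨fun y => by
    obtain ⟨V, g, v, ⟨t, ht⟩, hv⟩ := (mem_topology_iff _).1
      (Presheaf.imageSieve_mem Y.smallEtaleTopology p.hom (U := op (EtCoh.top Y)) (constSect (ZMod n) _ ⟨1⟩)) y
    obtain ⟨a, ha, -⟩ := hU V t
    obtain ⟨Ω, _, _, ζ, z, hz⟩ := exists_algClosed_point V v
    obtain ⟨m, hm⟩ := hOc (a.left.base v)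
    have hm1 : m = ⟨1⟩ := by
      haveI := etale_left a
      haveI : AlgebraicGeometry.Etale V.hom := V.prop
      let W : Y.Etale := Scheme.Etale.mk ((a.left ⁻¹ᵁ O m).ι ≫ V.hom)
      let w : W ⟶ V := MorphismProperty.Over.homMk (a.left ⁻¹ᵁ O m).ι rfl
      obtain ⟨Ω', _, _, ζ', z', -⟩ := exists_algClosed_point W (⟨v, hm⟩ : (a.left ⁻¹ᵁ O m : Scheme.{u}))
      refine (constSect_germ_bijective (ZMod n) W z').1 (congrArg _ (Eq.trans ?_ (constSect_map (ZMod n) (w ≫ g) ⟨1⟩)))
      rw [← hO m W (w ≫ a) (by rintro _ ⟨b, rfl⟩; exact b.2), res_res, res_res w g]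
      refine congrArg _ ?_
      rw [← ht, ← ha]
      exact (NatTrans.naturality_apply p.hom a.op ξ).symm
    refine ⟨(⟨a.left.base v, show a.left.base v ∈ O ⟨1⟩ from hm1 ▸ hm⟩ : (O₁ : Scheme.{u})), ?_⟩
    show U.hom.base (a.left.base v) = y
    refine (Scheme.Hom.comp_apply _ _ _).symm.trans ?_
    rw [← hv, MorphismProperty.Over.w a, ← MorphismProperty.Over.w g]
    exact Scheme.Hom.comp_apply _ _ _⟩
  refine ⟨E, hE, rfl, G, p, pullback.fst E.g h, h, π, T, pullback.condition,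
    inferInstanceAs (IsFinite (O₁.ι ≫ U.hom)), hsurj, surjective_of_mem_one p T _ hjT, ?_⟩
  show ζ = _
  rw [← hη, ← hη₀, ← Abelian.Ext.mk₀_addEquiv₀_apply η₀, ← Abelian.Ext.mk₀_comp_mk₀_assoc]
  rfl

/-- maps out of the constant sheaf lift when the global section does -/
theorem exists_lift_const {X : Scheme.{u}} {G H : EtCoh.Ab X} (p : G ⟶ H) (b : EtCoh.const X ℤ ⟶ H)
    (hp : Function.Surjective (p.hom.app (op (EtCoh.top X)))) : ∃ L, L ≫ p = b := by
  let one : (AddCommGrpCat.of (ULift.{u + 1} ℤ) : AddCommGrpCat.{u + 1}) := (⟨1⟩ : ULift.{u + 1} ℤ)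
  obtain ⟨t, ht⟩ := hp ((EtCore.constAdj X).homEquiv _ _ b one)
  let l : AddCommGrpCat.of (ULift.{u + 1} ℤ) ⟶ (EtCore.gsec X).obj G :=
    AddCommGrpCat.ofHom ((zmultiplesHom _ t).comp AddEquiv.ulift.toAddMonoidHom)
  refine ⟨((EtCore.constAdj X).homEquiv _ _).symm l, ((EtCore.constAdj X).homEquiv _ _).injective ?_⟩
  rw [Adjunction.homEquiv_naturality_right, Equiv.apply_symm_apply]
  refine AddCommGrpCat.hom_ext (AddMonoidHom.ext fun k => ?_)
  show p.hom.app (op (EtCoh.top X)) (k.down • t) = ((EtCore.constAdj X).homEquiv _ _ b).hom k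
  rw [map_zsmul, ht]
  refine (map_zsmul ((EtCore.constAdj X).homEquiv _ _ b).hom _ _).symm.trans (congrArg _ ?_)
  exact ULift.ext _ _ (show k.down • (1 : ℤ) = k.down by simp)

theorem surjective_pull_top {G H : EtCoh.Ab Y} (p : G ⟶ H) (T : Y.Etale)
    (hp : Function.Surjective (p.hom.app (op T))) :
    Function.Surjective (((EtCoh.pull T.hom).map p).hom.app (op (EtCoh.top T.left))) := by
  haveI : AlgebraicGeometry.Etale T.hom := T.prop
  haveI := jCont T.hom
  let e := restrIsoPull T.hom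
  let c : (EtShriek.compEtale T.hom).obj (EtCoh.top T.left) ≅ T :=
    MorphismProperty.Over.isoMk (Iso.refl _) (by
      show 𝟙 T.left ≫ T.hom = 𝟙 T.left ≫ T.hom
      rfl)
  intro z
  obtain ⟨y, hy⟩ := hp ((H.obj.map c.inv.op).hom (((e.inv.app H).hom.app (op (EtCoh.top T.left))).hom z))
  refine ⟨((e.hom.app G).hom.app (op (EtCoh.top T.left))).hom ((G.obj.map c.hom.op).hom y), ?_⟩
  have h1 : (p.hom.app (op ((EtShriek.compEtale T.hom).obj (EtCoh.top T.left)))).hom ((G.obj.map c.hom.op).hom y) =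
      ((e.inv.app H).hom.app (op (EtCoh.top T.left))).hom z := by
    refine (NatTrans.naturality_apply p.hom c.hom.op y).trans ((congrArg _ hy).trans ?_)
    rw [← ConcreteCategory.comp_apply, ← Functor.map_comp, ← op_comp, c.hom_inv_id]
    exact ConcreteCategory.congr_hom (H.obj.map_id _) _
  refine (congrArg (fun t : (EtShriek.restrAlong T.hom).obj G ⟶ (EtCoh.pull T.hom).obj H =>
    (t.hom.app (op (EtCoh.top T.left))).hom ((G.obj.map c.hom.op).hom y)) (e.hom.naturality p).symm).trans ?_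
  refine (congrArg (((e.hom.app H).hom.app (op (EtCoh.top T.left))).hom) h1).trans ?_
  exact congrArg (fun t : (EtCoh.pull T.hom).obj H ⟶ (EtCoh.pull T.hom).obj H =>
    (t.hom.app (op (EtCoh.top T.left))).hom z) (e.inv_hom_id_app H)

end Groth.Agent.EtTorLib
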