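import Groth.Agent.S9436
import Groth.Agent.S0089
import Mathlib.AlgebraicGeometry.Morphisms.Etale
import Mathlib.AlgebraicGeometry.Morphisms.ClosedImmersion

/-! lifting affine etale schemes along closed immersions into affine schemes -/

universe u

open CategoryTheory CategoryTheory.Limits AlgebraicGeometry Opposite TensorProduct

namespace Groth.Agent.EtTorLib

set_option backward.isDefEq.respectTransparency.types false

theorem exists_affine_etale_lift {V Z X : Scheme.{u}} [IsAffine X] (i : Z ⟶ X) [IsClosedImmersion i]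
    (φ : V ⟶ Z) [AlgebraicGeometry.Etale φ] [IsAffine V] :
    ∃ (U : Scheme.{u}) (_ : IsAffine U) (g : U ⟶ X) (_ : AlgebraicGeometry.Etale g) (j : V ⟶ U),
      IsPullback j φ g i := by
  obtain ⟨_, hsurj⟩ := IsClosedImmersion.isAffine_surjective_of_isAffine i
  let A := Γ(X, ⊤); let B := Γ(Z, ⊤); let C := Γ(V, ⊤)
  let q : A →+* B := i.appTop.hom
  let e : (A ⧸ RingHom.ker q) ≃+* B := RingHom.quotientKerEquivOfSurjective hsurj
  letI : Algebra (A ⧸ RingHom.ker q) C := (φ.appTop.hom.comp e.toRingHom).toAlgebra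
  have hφ : φ.appTop.hom.Etale := (HasRingHomProperty.iff_of_isAffine (P := @AlgebraicGeometry.Etale)).1 ‹_›
  haveI : Algebra.Etale (A ⧸ RingHom.ker q) C :=
    RingHom.etale_algebraMap.1 (RingHom.Etale.respectsIso.2 φ.appTop.hom e hφ)
  obtain ⟨S, _, _, hS, ⟨ψ⟩⟩ := S9436.result A (RingHom.ker q) C
  have h := CommRingCat.isPushout_tensorProduct A (A ⧸ RingHom.ker q) S
  let eB : CommRingCat.of (A ⧸ RingHom.ker q) ≅ B := e.toCommRingCatIso
  let eC : CommRingCat.of ((A ⧸ RingHom.ker q) ⊗[A] S) ≅ C := ψ.toRingEquiv.toCommRingCatIso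
  let inr : CommRingCat.of S ⟶ C := CommRingCat.ofHom Algebra.TensorProduct.includeRight.toRingHom ≫ eC.hom
  have h' : IsPushout i.appTop (CommRingCat.ofHom (algebraMap A S)) φ.appTop inr := by
    refine h.of_iso (Iso.refl _) eB (Iso.refl _) eC ?_ ?_ ?_ ?_
    · ext x; rfl
    · ext x; rfl
    · ext x
      exact ψ.commutes x
    · ext x; rfl
  have hs := isPullback_SpecMap_of_isPushout _ _ _ _ h'
  refine ⟨Spec (CommRingCat.of S), inferInstance, Spec.map (CommRingCat.ofHom (algebraMap A S)) ≫ X.isoSpec.inv, ?_,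
    V.isoSpec.hom ≫ Spec.map inr, ?_⟩
  · haveI : AlgebraicGeometry.Etale (Spec.map (CommRingCat.ofHom (algebraMap A S))) :=
      (HasRingHomProperty.Spec_iff (P := @AlgebraicGeometry.Etale)).2 (RingHom.etale_algebraMap.2 hS)
    infer_instance
  · refine hs.flip.of_iso V.isoSpec.symm (Iso.refl _) Z.isoSpec.symm X.isoSpec.symm ?_ ?_ ?_ ?_
    · simp
    · exact (Scheme.isoSpec_inv_naturality φ)
    · simp
    · exact (Scheme.isoSpec_inv_naturality i)

/-- disjoint open pieces covering a scheme -/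
theorem isIso_sigmaDesc {ι : Type u} {X : Scheme.{u}} {g : ι → Scheme.{u}} (α : ∀ k, g k ⟶ X)
    [∀ k, IsOpenImmersion (α k)] (hd : ∀ k l a b, (α k).base a = (α l).base b → k = l)
    (hc : ∀ x, ∃ k a, (α k).base a = x) : IsIso (Sigma.desc α) := by
  haveI : IsOpenImmersion (Sigma.desc α) := isOpenImmersion_sigmaDesc _ α fun k l hkl => by
    rw [Function.onFun, Set.disjoint_iff_forall_ne]
    rintro _ ⟨a, rfl⟩ _ ⟨b, rfl⟩ h
    exact hkl (hd k l a b h)
  refine isIso_of_isOpenImmersion_of_opensRange_eq_top _ (top_le_iff.1 fun x _ => ?_)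
  obtain ⟨k, a, rfl⟩ := hc x
  exact ⟨(Sigma.ι g k).base a, by rw [← Scheme.Hom.comp_apply, Sigma.ι_desc]⟩

theorem exists_split_affine_over_closed {V Z X : Scheme.{u}} [IsAffine X] [IsIntegral X]
    (hN : ∀ x : X, IsIntegrallyClosed (X.presheaf.stalk x)) [IsSepClosed X.functionField]
    (i : Z ⟶ X) [IsClosedImmersion i] (φ : V ⟶ Z) [AlgebraicGeometry.Etale φ] [IsAffine V] :
    ∃ (ι : Type u) (_ : Finite ι) (W : ι → Z.Opens) (e : (∐ fun k => (W k : Scheme.{u})) ≅ V),
      ∀ k, Sigma.ι (fun k => (W k : Scheme.{u})) k ≫ e.hom ≫ φ = (W k).ι := by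
  obtain ⟨U, _, g, _, j, hp⟩ := exists_affine_etale_lift i φ
  obtain ⟨κ, O, e, he⟩ := S0089.result hN g
  haveI : IsClosedImmersion j := MorphismProperty.of_isPullback hp.flip ‹IsClosedImmersion i›
  let c := fun k => Sigma.ι (fun k => (O k : Scheme.{u})) k ≫ e.hom
  have hcov : ∀ x : U, ∃ k, x ∈ (c k).opensRange := fun x => by
    obtain ⟨⟨k, y⟩, hy⟩ := (sigmaMk fun k => (O k : Scheme.{u})).surjective (e.inv.base x)
    refine ⟨k, y, ?_⟩
    rw [sigmaMk_mk] at hy
    rw [Scheme.Hom.comp_apply, hy, ← Scheme.Hom.comp_apply, e.inv_hom_id]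
    rfl
  have hdis : ∀ k l a b, (c k).base a = (c l).base b → k = l := fun k l a b h => by
    rw [Scheme.Hom.comp_apply, Scheme.Hom.comp_apply] at h
    exact congrArg Sigma.fst ((sigmaι_eq_iff _ _ _ _ _).1 (e.hom.isOpenEmbedding.injective h))
  obtain ⟨t, ht⟩ := isCompact_univ.elim_finite_subcover (fun k => ((c k).opensRange : Set U))
    (fun k => (c k).opensRange.isOpen) fun x _ => Set.mem_iUnion.2 (hcov x)
  let W := fun k : {k // k ∈ t} => i ⁻¹ᵁ O k.1
  have hw : ∀ k : {k // k ∈ t}, ((i ∣_ O k.1) ≫ c k.1) ≫ g = (W k).ι ≫ i := fun k => by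
    rw [Category.assoc, Category.assoc, he k.1, morphismRestrict_ι]
  let a := fun k => hp.lift _ _ (hw k)
  haveI : ∀ k, IsOpenImmersion (a k) := fun k => by
    have h2 : a k ≫ φ = (W k).ι := hp.lift_snd _ _ _
    have : IsOpenImmersion (a k ≫ φ) := by rw [h2]; infer_instance
    have : AlgebraicGeometry.Etale (a k) :=
      MorphismProperty.of_postcomp (W := @AlgebraicGeometry.Etale) (W' := @AlgebraicGeometry.Etale) (a k) φ
        inferInstance inferInstance
    have : Mono (a k) := mono_of_mono (a k) φ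
    exact IsOpenImmersion.of_flat_of_mono _
  have hj : ∀ k y, j.base ((a k).base y) = (c k.1).base ((i ∣_ O k.1).base y) := fun k y => by
    rw [← Scheme.Hom.comp_apply, hp.lift_fst]
    rfl
  haveI : IsIso (Sigma.desc a) := isIso_sigmaDesc a
    (fun k l x y h => Subtype.ext (hdis _ _ _ _ ((hj k x).symm.trans ((congrArg j.base h).trans (hj l y)))))
    (fun v => by
      obtain ⟨k, hk⟩ := Set.mem_iUnion.1 (ht (Set.mem_univ (j.base v)))
      obtain ⟨hkt, y, hy⟩ := Set.mem_iUnion.1 hk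
      have hv : i.base (φ.base v) = (O k).ι.base y := by
        rw [← Scheme.Hom.comp_apply, ← hp.w, Scheme.Hom.comp_apply, ← hy, ← Scheme.Hom.comp_apply, Category.assoc, he k]
      have hmem : φ.base v ∈ W ⟨k, hkt⟩ := show i.base (φ.base v) ∈ O k from hv ▸ y.2
      refine ⟨⟨k, hkt⟩, (⟨φ.base v, hmem⟩ : (W ⟨k, hkt⟩ : Scheme.{u})), j.isClosedEmbedding.injective ?_⟩
      rw [hj, ← hy]
      exact congrArg (c k).base ((O k).ι.isOpenEmbedding.injective (by
        rw [← Scheme.Hom.comp_apply, morphismRestrict_ι, ← hv]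
        rfl)))
  refine ⟨{k // k ∈ t}, inferInstance, W, asIso (Sigma.desc a), fun k => ?_⟩
  rw [asIso_hom, Sigma.ι_desc_assoc]
  exact hp.lift_snd _ _ _

theorem exists_section_of_finite_etale {V Z X : Scheme.{u}} [IsAffine X] [IsIntegral X]
    (hN : ∀ x : X, IsIntegrallyClosed (X.presheaf.stalk x)) [IsSepClosed X.functionField]
    (i : Z ⟶ X) [IsClosedImmersion i] (φ : V ⟶ Z) [AlgebraicGeometry.Etale φ] [IsFinite φ] [Surjective φ] :
    ∃ s : Z ⟶ V, s ≫ φ = 𝟙 Z := by
  haveI : IsAffine Z := isAffine_of_isAffineHom i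
  haveI : IsAffine V := isAffine_of_isAffineHom φ
  obtain ⟨ι, _, W, e, he⟩ := exists_split_affine_over_closed hN i φ
  cases nonempty_fintype ι
  classical
  let c := fun k => Sigma.ι (fun k => (W k : Scheme.{u})) k ≫ e.hom
  have hcov : ∀ z : Z, ∃ k, z ∈ W k := fun z => by
    obtain ⟨v, rfl⟩ := φ.surjective z
    obtain ⟨⟨k, y⟩, hy⟩ := (sigmaMk fun k => (W k : Scheme.{u})).surjective (e.inv.base v)
    refine ⟨k, ?_⟩
    rw [sigmaMk_mk] at hy
    have : φ.base v = (W k).ι.base y := by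
      rw [← he k, Scheme.Hom.comp_apply, hy, ← Scheme.Hom.comp_apply, e.inv_hom_id_assoc]
    rw [this]
    exact y.2
  have hclosed : ∀ k, IsClosed (W k : Set Z) := fun k => by
    have hr : IsClosed (Set.range (c k).base) := by
      rw [← isOpen_compl_iff]
      refine isOpen_iff_forall_mem_open.2 fun v hv => ?_
      obtain ⟨⟨l, y⟩, hy⟩ := (sigmaMk fun k => (W k : Scheme.{u})).surjective (e.inv.base v)
      rw [sigmaMk_mk] at hy
      refine ⟨Set.range (c l).base, ?_, (c l).isOpenEmbedding.isOpen_range, y, ?_⟩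
      · rintro _ ⟨b, rfl⟩ ⟨b', hb'⟩
        refine hv ?_
        obtain rfl : k = l := congrArg Sigma.fst ((sigmaι_eq_iff _ _ _ _ _).1 (e.hom.isOpenEmbedding.injective (by
          simpa only [c, Scheme.Hom.comp_apply] using hb')))
        exact ⟨y, by rw [Scheme.Hom.comp_apply, hy, ← Scheme.Hom.comp_apply, e.inv_hom_id]; rfl⟩
      · rw [Scheme.Hom.comp_apply, hy, ← Scheme.Hom.comp_apply, e.inv_hom_id]; rfl
    convert! φ.isClosedMap _ hr
    rw [← Set.range_comp]
    ext z
    refine ⟨fun hz => ⟨⟨z, hz⟩, ?_⟩, ?_⟩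
    · show φ.base ((c k).base _) = z
      rw [← Scheme.Hom.comp_apply, Category.assoc, he]
      rfl
    · rintro ⟨y, rfl⟩
      show φ.base ((c k).base y) ∈ W k
      rw [← Scheme.Hom.comp_apply, Category.assoc, he]
      exact y.2
  let n := Fintype.equivFin ι
  let D : ι → Z.Opens := fun k => ⟨(W k : Set Z) \ ⋃ l ∈ {l | n l < n k}, (W l : Set Z),
    (W k).isOpen.sdiff (Set.Finite.isClosed_biUnion (Set.toFinite _) fun l _ => hclosed l)⟩
  have hD : ∀ k, D k ≤ W k := fun k _ hx => hx.1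
  haveI : IsIso (Sigma.desc fun k => (D k).ι) := isIso_sigmaDesc _
    (fun k l a b h => by
      have h' : a.1 = b.1 := h
      rcases lt_trichotomy (n k) (n l) with h1 | h1 | h1
      · exact (b.2.2 (Set.mem_biUnion (show n k < n l from h1) (h' ▸ a.2.1))).elim
      · exact n.injective h1
      · exact (a.2.2 (Set.mem_biUnion (show n l < n k from h1) (h'.symm ▸ b.2.1))).elim)
    (fun z => by
      obtain ⟨k, hk, hmin⟩ := Finset.exists_min_image (Finset.univ.filter fun k => z ∈ W k) n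
        (let ⟨k, hk⟩ := hcov z; ⟨k, Finset.mem_filter.2 ⟨Finset.mem_univ _, hk⟩⟩)
      refine ⟨k, ⟨z, (Finset.mem_filter.1 hk).2, ?_⟩, rfl⟩
      simp only [Set.mem_iUnion, not_exists]
      exact fun l hl hz => (hmin l (Finset.mem_filter.2 ⟨Finset.mem_univ _, hz⟩)).not_gt hl)
  refine ⟨inv (Sigma.desc fun k => (D k).ι) ≫ Sigma.desc fun k => Z.homOfLE (hD k) ≫ c k, ?_⟩
  rw [Category.assoc, IsIso.inv_comp_eq, Category.comp_id]
  refine Sigma.hom_ext _ _ fun k => ?_
  rw [Sigma.ι_desc_assoc, Sigma.ι_desc, Category.assoc, Category.assoc, he, Scheme.homOfLE_ι]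

end Groth.Agent.EtTorLib
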