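import Groth.Agent.EtTorLib.TorsorKill
import Groth.Agent.EtTorLib.EtaleLiftAffine

/-! killing degree one classes -/

universe u

open CategoryTheory CategoryTheory.Limits AlgebraicGeometry Opposite

namespace Groth.Agent.EtTorLib

set_option backward.isDefEq.respectTransparency false
set_option backward.isDefEq.respectTransparency.types false

variable {Y : Scheme.{u}}

theorem map_comp_extClass_eq_zero {C D : Type*} [Category C] [Abelian C] [HasExt C] [Category D] [Abelian D]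
    [HasExt D] (Φ : C ⥤ D) [Φ.Additive] [PreservesFiniteLimits Φ] [PreservesFiniteColimits Φ] {E : ShortComplex C}
    (hE : E.ShortExact) {A B G : C} (π : A ⟶ B) (h : B ⟶ E.X₃) (p : G ⟶ B) (k : G ⟶ E.X₂) (hkp : k ≫ E.g = p ≫ h)
    {Z : D} (a : Z ⟶ Φ.obj A) (L : Z ⟶ Φ.obj G) (hL : L ≫ Φ.map p = a ≫ Φ.map π) :
    (Abelian.Ext.mk₀ a).comp (((Abelian.Ext.mk₀ (π ≫ h)).comp hE.extClass (zero_add 1)).mapExactFunctor Φ) (zero_add 1) = 0 := by
  rw [Abelian.Ext.mapExactFunctor_comp, Abelian.Ext.mapExactFunctor_mk₀, Abelian.Ext.mapExactFunctor_extClass,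
    Abelian.Ext.mk₀_comp_mk₀_assoc]
  have hb : a ≫ Φ.map (π ≫ h) = (L ≫ Φ.map k) ≫ (E.map Φ).g := by
    show _ = (L ≫ Φ.map k) ≫ Φ.map E.g
    rw [Category.assoc, ← Functor.map_comp, hkp, Functor.map_comp, Functor.map_comp, ← Category.assoc, ← hL,
      Category.assoc]
  refine (congrArg (fun q : Z ⟶ (E.map Φ).X₃ => (Abelian.Ext.mk₀ q).comp (hE.map_of_exact Φ).extClass (zero_add 1)) hb).trans ?_
  rw [← Abelian.Ext.mk₀_comp_mk₀_assoc, (hE.map_of_exact Φ).comp_extClass, Abelian.Ext.comp_zero]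

theorem exists_finite_etale_kill (F : EtCoh.Ab Y) (hF : EtCoh.IsFiniteLocallyConstant F) {n : ℕ} (hn : 0 < n)
    (hnF : EtCoh.KilledBy n F) (ζ : EtCoh.H Y F 1) :
    ∃ (Y' : Scheme.{u}) (g : Y' ⟶ Y), IsFinite g ∧ Etale g ∧ Surjective g ∧
      ∀ [PreservesFiniteLimits (EtCoh.pull g)], EtCore.Hpull g F 1 ζ = 0 := by
  obtain ⟨E, hE, eF, G, p, k, h, π, T, hkp, hTf, hTs, hsurj, hζ⟩ := exists_kill F hF hn hnF ζ
  refine ⟨T.left, T.hom, hTf, T.prop, hTs, ?_⟩
  intro inst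
  subst eF
  obtain ⟨L, hL⟩ := exists_lift_const ((EtCoh.pull T.hom).map p)
    ((EtCore.pullConst T.hom ℤ).inv ≫ (EtCoh.pull T.hom).map π) (surjective_pull_top p T hsurj)
  have hζ' : ζ = (Abelian.Ext.mk₀ (π ≫ h)).comp hE.extClass (zero_add 1) := hζ
  subst hζ'
  exact @map_comp_extClass_eq_zero _ _ _ _ _ _ _ _ (EtCoh.pull T.hom) _ inst _ _ hE _ _ _ π h p k hkp _
    (EtCore.pullConst T.hom ℤ).inv L hL

theorem subsingleton_H1_of_sections (F : EtCoh.Ab Y) (hF : EtCoh.IsFiniteLocallyConstant F) {n : ℕ} (hn : 0 < n)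
    (hnF : EtCoh.KilledBy n F)
    (hY : ∀ (T : Scheme.{u}) (g : T ⟶ Y) [AlgebraicGeometry.Etale g] [IsFinite g] [Surjective g], ∃ s : Y ⟶ T, s ≫ g = 𝟙 Y) :
    Subsingleton (EtCoh.H Y F 1) := by
  refine subsingleton_of_forall_eq 0 fun ζ => ?_
  obtain ⟨E, hE, eF, G, p, k, h, π, T, hkp, hTf, hTs, hsurj, hζ⟩ := exists_kill F hF hn hnF ζ
  subst eF
  haveI : AlgebraicGeometry.Etale T.hom := T.prop
  haveI := hTf
  haveI := hTs
  obtain ⟨s, hs⟩ := hY T.left T.hom
  let σ : EtCoh.top Y ⟶ T := MorphismProperty.Over.homMk s hs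
  have hsurj' : Function.Surjective (p.hom.app (op (EtCoh.top Y))) := fun z => by
    let t : T ⟶ EtCoh.top Y := MorphismProperty.Over.homMk T.hom (Category.comp_id _)
    obtain ⟨x, hx⟩ := hsurj ((EtCoh.const _ _).obj.map t.op z)
    refine ⟨G.obj.map σ.op x, ?_⟩
    refine (NatTrans.naturality_apply p.hom σ.op x).trans ((congrArg _ hx).trans ?_)
    rw [← res_res, show σ ≫ t = 𝟙 _ from MorphismProperty.Over.Hom.ext hs]
    exact ConcreteCategory.congr_hom ((EtCoh.const Y (ZMod n)).obj.map_id _) z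
  obtain ⟨L, hL⟩ := exists_lift_const p π hsurj'
  have hζ' : ζ = (Abelian.Ext.mk₀ (π ≫ h)).comp hE.extClass (zero_add 1) := hζ
  have hb : π ≫ h = (L ≫ k) ≫ E.g := by rw [Category.assoc, hkp, ← Category.assoc, hL]
  rw [hζ', hb, ← Abelian.Ext.mk₀_comp_mk₀_assoc, hE.comp_extClass, Abelian.Ext.comp_zero]

theorem killedBy_const (M : Type) [AddCommGroup M] [Finite M] : EtCoh.KilledBy (Nat.card M) (EtCoh.const Y M) := fun U s => by
  obtain ⟨O, hc, hd, hO⟩ := exists_partition M U s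
  haveI : AlgebraicGeometry.Etale U.hom := U.prop
  let Z : ULift.{u + 1} M → Y.Etale := fun m => Scheme.Etale.mk ((O m).ι ≫ U.hom)
  let j : ∀ m, Z m ⟶ U := fun m => MorphismProperty.Over.homMk (O m).ι rfl
  refine (EtFound.isSheafFor_of_covers (EtCoh.const Y M) Z j fun v => (hc v).imp fun m hm =>
    ⟨⟨v, hm⟩, rfl⟩).isSeparatedFor.ext fun W w hw => ?_
  obtain ⟨m⟩ := hw
  show (EtCoh.const _ M).obj.map (j m).op (Nat.card M • s) = (EtCoh.const _ M).obj.map (j m).op 0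
  rw [map_nsmul, map_zero, hO m (Z m) (j m) (by rintro _ ⟨a, rfl⟩; exact a.2), ← map_nsmul]
  refine (congrArg _ (ULift.ext _ (0 : ULift.{u + 1} M) ?_)).trans (map_zero _)
  exact card_nsmul_eq_zero'

theorem subsingleton_H1_const_closed {Z X : Scheme.{u}} [IsAffine X] [IsIntegral X]
    (hN : ∀ x : X, IsIntegrallyClosed (X.presheaf.stalk x)) [IsSepClosed X.functionField]
    (i : Z ⟶ X) [IsClosedImmersion i] (M : Type) [AddCommGroup M] [Finite M] :
    Subsingleton (EtCoh.H Z (EtCoh.const Z M) 1) :=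
  subsingleton_H1_of_sections _ (isFiniteLocallyConstant_const M) (Nat.card_pos) (killedBy_const M)
    fun _ g => exists_section_of_finite_etale hN i g

end Groth.Agent.EtTorLib
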