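import Groth.Agent.EtFound.LocConst
import Groth.Agent.EtFound.Germ
import Groth.Agent.EtFound.ConstStalk
import Groth.Agent.BigSiteLib.EtZarCmp
import Groth.Prelude.Def_EtBase

/-! sections of constant sheaves over connected etale schemes -/

universe u

open CategoryTheory CategoryTheory.Limits AlgebraicGeometry Opposite

namespace Groth.Agent.EtTorLib

set_option backward.isDefEq.respectTransparency.types false

open EtFound

variable {X : Scheme.{u}} (M : Type) [AddCommGroup M]

/-- the constant sections -/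
noncomputable def constSect (V : X.Etale) : AddCommGrpCat.of (ULift.{u + 1} M) ⟶ (EtCoh.const X M).obj.obj (op V) :=
  (toSheafify X.smallEtaleTopology ((Functor.const X.Etaleᵒᵖ).obj (AddCommGrpCat.of (ULift.{u + 1} M)))).app (op V)

theorem constSect_map {V V' : X.Etale} (a : V' ⟶ V) (m : ULift.{u + 1} M) :
    (EtCoh.const X M).obj.map a.op (constSect M V m) = constSect M V' m := by
  have e2 := (toSheafify X.smallEtaleTopology
    ((Functor.const X.Etaleᵒᵖ).obj (AddCommGrpCat.of (ULift.{u + 1} M)))).naturality a.op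
  exact (ConcreteCategory.comp_apply _ _ _).symm.trans
    (ConcreteCategory.congr_hom (e2.symm.trans (Category.id_comp _)) m)

theorem constSect_germ_bijective (V : X.Etale) {Ω : Type u} [Field Ω] [IsSepClosed Ω]
    {ξ : Spec (CommRingCat.of Ω) ⟶ X} (t : (Scheme.pointSmallEtale ξ).fiber.obj V) :
    Function.Bijective fun m : ULift.{u + 1} M =>
      (Scheme.pointSmallEtale ξ).toPresheafFiber V t (EtCoh.const X M).obj (constSect M V m) :=
  toSheafify_const_germ_bijective ξ AddCommGrpCat.{u + 1} (AddCommGrpCat.of (ULift.{u + 1} M)) V t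

/-- over a connected etale scheme every section is constant -/
theorem constSect_surjective (V : X.Etale) [PreconnectedSpace V.left] : Function.Surjective (constSect M V) := fun s => by
  let F := EtCoh.const X M
  let S : ULift.{u + 1} M → Set V.left := fun m =>
    {w | ∃ (W : X.Etale) (k : W ⟶ V), F.obj.map k.op s = F.obj.map k.op (constSect M V m) ∧ w ∈ Set.range k.left.base}
  have hopen : ∀ m, IsOpen (S m) := fun m => isOpen_iff_forall_mem_open.2 fun w ⟨W, k, hk, hw⟩ => by
    have := etale_left k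
    exact ⟨_, fun w' hw' => ⟨W, k, hk, hw'⟩, k.left.isOpenMap.isOpen_range, hw⟩
  have hcov : ∀ w, ∃ m, w ∈ S m := fun w => by
    obtain ⟨k, _, _, ζ, z, hz⟩ := exists_algClosed_point V w
    obtain ⟨m, hm⟩ := (constSect_germ_bijective M V z).2 ((Scheme.pointSmallEtale ζ).toPresheafFiber V z F.obj s)
    obtain ⟨W, a, z', hz', ha⟩ := ((Scheme.pointSmallEtale ζ).toPresheafFiber_eq_iff' _ _ _ _).1 hm
    refine ⟨m, W, a, ha.symm, (z'.left : Spec (CommRingCat.of k) ⟶ W.left).base (default : Spec (CommRingCat.of k)), ?_⟩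
    rw [← hz, ← hz']
    exact (Scheme.Hom.comp_apply _ _ _).symm
  have hdisj : ∀ m m' w, w ∈ S m → w ∈ S m' → m = m' := fun m m' w ⟨W, k, hk, y, hy⟩ ⟨W', k', hk', y', hy'⟩ => by
    obtain ⟨Ω', _, _, ζ, z, hz⟩ := exists_algClosed_point W y
    let t := (Scheme.pointSmallEtale ζ).fiber.map k z
    obtain ⟨z', hz', -⟩ := exists_lift_point k' t y' (by
      rw [hy', ← hy, ← hz]
      exact (Scheme.Hom.comp_apply _ _ _).symm)
    refine (constSect_germ_bijective M V t).1 ?_
    show (Scheme.pointSmallEtale ζ).toPresheafFiber _ t F.obj (constSect M V m) =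
      (Scheme.pointSmallEtale ζ).toPresheafFiber _ t F.obj (constSect M V m')
    refine Eq.trans (b := (Scheme.pointSmallEtale ζ).toPresheafFiber _ t F.obj s) ?_ ?_
    · rw [← GrothendieckTopology.Point.toPresheafFiber_w_apply, ← GrothendieckTopology.Point.toPresheafFiber_w_apply]
      exact congrArg _ hk.symm
    · rw [← hz', ← GrothendieckTopology.Point.toPresheafFiber_w_apply, ← GrothendieckTopology.Point.toPresheafFiber_w_apply]
      exact congrArg _ hk'
  obtain ⟨m, hm⟩ : ∃ m, S m = Set.univ := by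
    rcases isEmpty_or_nonempty V.left with h | ⟨⟨w⟩⟩
    · exact ⟨0, Set.eq_univ_of_forall fun w => h.elim w⟩
    · obtain ⟨m, hm⟩ := hcov w
      refine ⟨m, IsClopen.eq_univ ⟨⟨isOpen_iff_forall_mem_open.2 fun w hw => ?_⟩, hopen m⟩ ⟨w, hm⟩⟩
      obtain ⟨m', hm'⟩ := hcov w
      exact ⟨S m', fun w' hw' hw'' => hw ((hdisj m m' w' hw'' hw') ▸ hm'), hopen m', hm'⟩
  refine ⟨m, (((isSheaf_iff_isSheaf_of_type _ _).1
    ((sheafCompose X.smallEtaleTopology (forget AddCommGrpCat.{u + 1})).obj F).property).isSeparated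
    _ (equalizerSieve_mem_of_germs F.obj V _ _ fun Ω _ _ ζ t => ?_)).ext fun _ _ hk => hk⟩
  obtain ⟨W, k, hk, y, hy⟩ : (t.left : Spec (CommRingCat.of Ω) ⟶ V.left).base (default : Spec (CommRingCat.of Ω)) ∈ S m :=
    hm ▸ trivial
  obtain ⟨z', hz', -⟩ := exists_lift_point k t y hy
  rw [← hz', ← GrothendieckTopology.Point.toPresheafFiber_w_apply, ← GrothendieckTopology.Point.toPresheafFiber_w_apply]
  exact congrArg _ hk.symm

/-- on an irreducible scheme the constant sheaf is flasque for the Zariski topology -/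
theorem flq_resZar_const [IrreducibleSpace X] [EtZar.ZarCont X] :
    Adeq2Lib.ZarFl.Flq ((EtZar.resZar X).obj (EtCoh.const X M)) := fun V U h s => by
  have : PreconnectedSpace ((EtZar.zarToEt X).obj V).left :=
    Subtype.preconnectedSpace ((PreirreducibleSpace.isPreirreducible_univ (X := X)).open_subset V.isOpen (Set.subset_univ _)).isPreconnected
  obtain ⟨m, rfl⟩ := constSect_surjective M ((EtZar.zarToEt X).obj V) s
  exact ⟨constSect M ((EtZar.zarToEt X).obj U) m, constSect_map M _ m⟩

theorem subsingleton_H_const (hX : ∀ x : X, EtCoh.IsStrictlyHenselianLocalRing (X.presheaf.stalk x))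
    [IrreducibleSpace X] [EtZar.ZarCont X] (i : ℕ) (hi : 0 < i) : Subsingleton (EtCoh.H X (EtCoh.const X M) i) := by
  obtain ⟨e⟩ := BigSiteLib.H_etale_iso_H_zar hX (EtCoh.const X M) i
  obtain ⟨n, rfl⟩ : ∃ n, i = n + 1 := ⟨i - 1, by omega⟩
  have := Adeq2Lib.ZarFl.subsingleton_H_of_flq n _ (flq_resZar_const M (X := X))
  exact e.toEquiv.subsingleton

end Groth.Agent.EtTorLib
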