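import Groth.Agent.EtTorLib.ClosedQuot
import Groth.Agent.EtTorLib.TorsorKillApps
import Groth.Agent.EtTorLib.ConstSections
import Groth.Agent.EtLC12.EtZarCompare
import Groth.Agent.AlgSpDec.EtStalkProps
import Groth.Agent.S0090
import Groth.Agent.S0099

/-! constant sheaves on closed subschemes of normal schemes with separably closed function field -/

universe u

open CategoryTheory CategoryTheory.Limits AlgebraicGeometry Opposite TopologicalSpace

namespace Groth.Agent.EtTorLib

set_option backward.isDefEq.respectTransparency false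
set_option backward.isDefEq.respectTransparency.types false

open EtFound

theorem isStrictlyHenselian_of_surjective {A B : Type u} [CommRing A] [CommRing B] [IsLocalRing B]
    (f : A →+* B) (hf : Function.Surjective f) (h : EtCoh.IsStrictlyHenselianLocalRing A) :
    EtCoh.IsStrictlyHenselianLocalRing B := by
  obtain ⟨hA, hsep⟩ := h
  haveI := hA
  haveI : IsSepClosed (IsLocalRing.ResidueField A) := hsep
  haveI : IsLocalHom f := hf.isLocalHom
  have hunit : ∀ a, f a ∈ IsLocalRing.maximalIdeal B → a ∈ IsLocalRing.maximalIdeal A := fun a ha => by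
    rw [IsLocalRing.mem_maximalIdeal, mem_nonunits_iff] at ha ⊢
    exact fun hu => ha (hu.map f)
  haveI hB : HenselianLocalRing B := by
    refine ⟨fun g hg b₀ hb₀ hb₁ => ?_⟩
    obtain ⟨G, hG, -, hGm⟩ := Polynomial.lifts_and_degree_eq_and_monic
      (Polynomial.map_surjective f hf g : g ∈ Polynomial.lifts f) hg
    obtain ⟨a₀, rfl⟩ := hf b₀
    have hev : ∀ (P : Polynomial A) (a : A), (P.map f).eval (f a) = f (P.eval a) := fun P a => by
      rw [Polynomial.eval_map, Polynomial.eval₂_at_apply]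
    rw [← hG, hev] at hb₀
    rw [← hG, Polynomial.derivative_map, hev] at hb₁
    obtain ⟨a, ha, ha'⟩ := HenselianLocalRing.is_henselian G hGm a₀ (hunit _ hb₀) (isUnit_of_map_unit f _ hb₁)
    refine ⟨f a, ?_, ?_⟩
    · rw [Polynomial.IsRoot, ← hG, hev, ha, map_zero]
    · rw [← map_sub]
      refine (IsLocalRing.mem_maximalIdeal _).2 fun hu => ?_
      exact (IsLocalRing.mem_maximalIdeal _).1 ha' (isUnit_of_map_unit f _ hu)
  refine ⟨hB, AlgSpDec.EtStalkProps.isSepClosed_of_ringEquiv'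
    (RingEquiv.ofBijective (IsLocalRing.ResidueField.map f) ⟨RingHom.injective _, fun y => ?_⟩)⟩
  obtain ⟨b, rfl⟩ := IsLocalRing.residue_surjective y
  obtain ⟨a, rfl⟩ := hf b
  exact ⟨IsLocalRing.residue _ a, IsLocalRing.ResidueField.map_residue f a⟩

variable {X : Scheme.{u}} (M : Type) [AddCommGroup M]

theorem subsingleton_H_quot_irreducible [IsIntegral X] (hN : ∀ x : X, IsIntegrallyClosed (X.presheaf.stalk x))
    [IsSepClosed X.functionField] (T : Closeds X) (hT : IsIrreducible (T : Set X)) (q : ℕ) (hq : 0 < q) :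
    Subsingleton (EtCoh.H X (quotSheaf (EtCoh.const X M) T) q) := by
  obtain ⟨e⟩ := nonempty_H_quot_const M T q
  haveI : IrreducibleSpace (redSub T) := by
    have h := hT
    rw [← range_redSubι] at h
    haveI : Nonempty (redSub T) := let ⟨_, ⟨z, _⟩⟩ := h.nonempty; ⟨z⟩
    haveI : PreirreducibleSpace (redSub T) := ⟨fun u v hu hv ⟨a, _, ha⟩ ⟨b, _, hb⟩ => by
      obtain ⟨u', hu', rfl⟩ := (redSubι T).isClosedEmbedding.isInducing.isOpen_iff.1 hu
      obtain ⟨v', hv', rfl⟩ := (redSubι T).isClosedEmbedding.isInducing.isOpen_iff.1 hv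
      obtain ⟨_, ⟨z, rfl⟩, hz⟩ := h.isPreirreducible u' v' hu' hv' ⟨_, ⟨a, rfl⟩, ha⟩ ⟨_, ⟨b, rfl⟩, hb⟩
      exact ⟨z, trivial, hz⟩⟩
    exact ⟨inferInstance⟩
  haveI := EtLC12.EtZarCompare.zarCont (redSub T)
  have hsh : ∀ z : redSub T, EtCoh.IsStrictlyHenselianLocalRing ((redSub T).presheaf.stalk z) := fun z =>
    isStrictlyHenselian_of_surjective ((redSubι T).stalkMap z).hom ((redSubι T).stalkMap_surjective z)
      (S0090.result X hN _)
  haveI := subsingleton_H_const M hsh q hq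
  exact e.toEquiv.subsingleton

/-- the quotients along a family of closed subsets directed downwards -/
noncomputable def quotDiagram (F : EtCoh.Ab X) {J : Type u} [Preorder J] (T : J → Closeds X) (hT : Antitone T) :
    J ⥤ EtCoh.Ab X where
  obj j := quotSheaf F (T j)
  map {i j} h := quotMap F (hT h.le)
  map_id j := quotMap_self F
  map_comp {i j k} h h' := (quotMap_comp F (hT h'.le) (hT h.le)).symm

theorem exists_dies_at_stage [CompactSpace X] [QuasiSeparatedSpace X] (F : EtCoh.Ab X) {J : Type u} [Preorder J]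
    [IsDirectedOrder J] [Nonempty J] (T : J → Closeds X) (hT : Antitone T) (T₀ : Closeds X)
    (h₀ : (T₀ : Set X) = ⋂ j, (T j : Set X)) (q : ℕ) (j : J)
    (c : EtCoh.H X (quotSheaf F (T j)) q)
    (hc : ∀ h : T₀ ≤ T j, (EtCoh.HF X q).map (quotMap F h) c = 0) :
    ∃ (k : J) (hjk : j ≤ k), (EtCoh.HF X q).map (quotMap F (hT hjk)) c = 0 := by
  have hle : ∀ i, T₀ ≤ T i := fun i x hx => by
    have hx' : x ∈ ⋂ j, (T j : Set X) := h₀ ▸ hx
    exact Set.mem_iInter.1 hx' i
  let D := quotDiagram F T hT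
  let t : Cocone D := Cocone.mk (quotSheaf F T₀)
    { app := fun i => quotMap F (hle i)
      naturality := fun i k h => by
        show quotMap F (hT h.le) ≫ quotMap F (hle k) = quotMap F (hle i) ≫ 𝟙 _
        rw [Category.comp_id, quotMap_comp] }
  let d : colimit D ⟶ quotSheaf F T₀ := colimit.desc D t
  have hd : ∀ i, colimit.ι D i ≫ d = quotMap F (hle i) := fun i => colimit.ι_desc _ i
  haveI : IsIso d := by
    refine (isIso_iff_stalks _).2 fun Ω _ _ ξ => (ConcreteCategory.isIso_iff_bijective _).2 ⟨?_, fun b => ?_⟩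
    · refine (injective_iff_map_eq_zero _).2 fun a ha => ?_
      obtain ⟨i, a, rfl⟩ := Concrete.isColimit_exists_rep _ (isColimitOfPreserves (EtCoh.stalk ξ) (colimit.isColimit D)) a
      change (EtCoh.stalk ξ).map d ((EtCoh.stalk ξ).map (colimit.ι D i) a) = 0 at ha
      show (EtCoh.stalk ξ).map (colimit.ι D i) a = 0
      rw [← ConcreteCategory.comp_apply, ← Functor.map_comp, hd] at ha
      by_cases hξ : ξ.base (default : Spec (CommRingCat.of Ω)) ∈ T₀
      · have h1 := isIso_stalk_quotMap F (hle i) ξ hξ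
        rw [((ConcreteCategory.isIso_iff_bijective _).1 h1).1 (ha.trans (map_zero _).symm), map_zero]
      · have hξ' : ξ.base (default : Spec (CommRingCat.of Ω)) ∉ ⋂ j, (T j : Set X) := h₀ ▸ hξ
        obtain ⟨k, hk⟩ := by simpa using hξ'
        obtain ⟨l, hil, hkl⟩ := exists_ge_ge i k
        have h2 : D.map (homOfLE hil) ≫ colimit.ι D l = colimit.ι D i := colimit.w D (homOfLE hil)
        have h3 : IsZero ((EtCoh.stalk ξ).obj (D.obj l)) := isZero_stalk_quot ξ fun h => hk (hT hkl h)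
        rw [← h2, Functor.map_comp, ConcreteCategory.comp_apply,
          @Subsingleton.elim _ (AddCommGrpCat.subsingleton_of_isZero h3) ((EtCoh.stalk ξ).map (D.map (homOfLE hil)) a) 0,
          map_zero]
    · obtain ⟨m, rfl⟩ := ((epi_iff_stalks _).1 (epi_toQuot F T₀)) Ω ξ b
      refine ⟨(EtCoh.stalk ξ).map (toQuot F (T j) ≫ colimit.ι D j) m, ?_⟩
      rw [← ConcreteCategory.comp_apply, ← Functor.map_comp, Category.assoc, hd, toQuot_quotMap]
  haveI := S0099.result X q J
  let hcol := isColimitOfPreserves (EtCoh.HF X q) (colimit.isColimit D)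
  have h1 : ((EtCoh.HF X q).map (colimit.ι D j)) c = 0 := by
    refine ((ConcreteCategory.isIso_iff_bijective ((EtCoh.HF X q).map d)).1 inferInstance).1 ?_
    rw [map_zero, ← ConcreteCategory.comp_apply, ← Functor.map_comp, hd]
    exact hc (hle j)
  obtain ⟨k, f, e⟩ := (Types.FilteredColimit.isColimit_eq_iff' (isColimitOfPreserves (forget _) hcol) c 0).1
    (show ((EtCoh.HF X q).map (colimit.ι D j)) c = ((EtCoh.HF X q).map (colimit.ι D j)) 0 from h1.trans (map_zero _).symm)
  exact ⟨k, f.le, (show (EtCoh.HF X q).map (D.map f) c = (EtCoh.HF X q).map (D.map f) 0 from e).trans (map_zero _)⟩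

theorem dies_of_union {F : EtCoh.Ab X} {T T₁ T₂ T₁₂ : Closeds X} (h₁ : T₁ ≤ T) (h₂ : T₂ ≤ T)
    (hu : (T : Set X) = (T₁ : Set X) ∪ T₂) (h₁' : T₁₂ ≤ T₁) (h₂' : T₁₂ ≤ T₂)
    (hi : (T₁₂ : Set X) = (T₁ : Set X) ∩ T₂) (n : ℕ)
    (hsub : Subsingleton (EtCoh.H X (quotSheaf F T₁₂) n)) (c : EtCoh.H X (quotSheaf F T) (n + 1))
    (c₁ : (EtCoh.HF X (n + 1)).map (quotMap F h₁) c = 0) (c₂ : (EtCoh.HF X (n + 1)).map (quotMap F h₂) c = 0) :
    c = 0 := by
  haveI he : ∀ {A B : Closeds X} (h : A ≤ B), Epi (quotMap F h) := fun {A B} h => by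
    haveI : Epi (toQuot F B ≫ quotMap F h) := by rw [toQuot_quotMap]; infer_instance
    exact epi_of_epi (toQuot F B) _
  let S : ShortComplex (EtCoh.Ab X) := ShortComplex.mk (kernel.ι (quotMap F h₁)) _ (kernel.condition _)
  let S' : ShortComplex (EtCoh.Ab X) := ShortComplex.mk (kernel.ι (quotMap F h₂')) _ (kernel.condition _)
  haveI : Epi S.g := he h₁
  haveI : Epi S'.g := he h₂'
  have hS : S.ShortExact := { exact := ShortComplex.exact_of_f_is_kernel _ (kernelIsKernel _) }
  have hS' : S'.ShortExact := { exact := ShortComplex.exact_of_f_is_kernel _ (kernelIsKernel _) }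
  let τ : S.X₁ ⟶ S'.X₁ := kernel.map (quotMap F h₁) (quotMap F h₂') (quotMap F h₂) (quotMap F h₁')
    (by rw [quotMap_comp, quotMap_comp])
  have hτf : τ ≫ S'.f = S.f ≫ quotMap F h₂ := kernel.lift_ι _ _ _
  haveI : IsIso τ := by
    refine (isIso_iff_stalks _).2 fun Ω _ _ ξ => ?_
    haveI : (EtCoh.stalk ξ).Additive := Functor.additive_of_preserves_binary_products _
    have hm : Mono ((EtCoh.stalk ξ).map S.f) := inferInstance
    have hm' : Mono ((EtCoh.stalk ξ).map S'.f) := inferInstance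
    have z : ∀ (S : ShortComplex (EtCoh.Ab X)) [Mono ((EtCoh.stalk ξ).map S.f)], IsIso ((EtCoh.stalk ξ).map S.g) →
        IsZero ((EtCoh.stalk ξ).obj S.X₁) := fun S _ hg => by
      refine IsZero.of_mono_eq_zero ((EtCoh.stalk ξ).map S.f) ?_
      rw [← cancel_mono ((EtCoh.stalk ξ).map S.g), zero_comp, ← Functor.map_comp, S.zero, Functor.map_zero]
    by_cases hξ : ξ.base (default : Spec (CommRingCat.of Ω)) ∈ T₁
    · refine (z S (isIso_stalk_quotMap F h₁ ξ hξ)).isIso (z S' (bijective_stalk_quotMap F h₂' ξ ?_)) _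
      by_cases hξ2 : ξ.base (default : Spec (CommRingCat.of Ω)) ∈ T₂
      · exact Or.inl (show _ ∈ (T₁₂ : Set X) from hi ▸ ⟨hξ, hξ2⟩)
      · exact Or.inr hξ2
    · have h3 : IsIso ((EtCoh.stalk ξ).map (quotMap F h₂)) := bijective_stalk_quotMap F h₂ ξ (by
        by_cases hξ2 : ξ.base (default : Spec (CommRingCat.of Ω)) ∈ T₂
        · exact Or.inl hξ2
        · exact Or.inr fun h => (show _ ∈ (T₁ : Set X) ∪ T₂ from hu ▸ h).elim hξ hξ2)
      have h4 : IsIso ((EtCoh.stalk ξ).map S.f) :=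
        (hS.map_of_exact (EtCoh.stalk ξ)).isIso_f_iff.2 (isZero_stalk_quot ξ hξ)
      have h5 : IsIso ((EtCoh.stalk ξ).map S'.f) :=
        (hS'.map_of_exact (EtCoh.stalk ξ)).isIso_f_iff.2
          (isZero_stalk_quot ξ fun h => hξ (h₁' h))
      have e : (EtCoh.stalk ξ).map τ ≫ (EtCoh.stalk ξ).map S'.f = (EtCoh.stalk ξ).map S.f ≫ (EtCoh.stalk ξ).map (quotMap F h₂) := by
        rw [← Functor.map_comp, hτf, Functor.map_comp]
      haveI := h3; haveI := h4; haveI := h5
      exact IsIso.of_isIso_fac_right e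
  obtain ⟨a, ha⟩ := Abelian.Ext.covariant_sequence_exact₂ _ hS c c₁
  have hb : (a.comp (Abelian.Ext.mk₀ τ) (add_zero _)).comp (Abelian.Ext.mk₀ S'.f) (add_zero _) = 0 := by
    rw [Abelian.Ext.comp_assoc_of_third_deg_zero, Abelian.Ext.mk₀_comp_mk₀, hτf, ← Abelian.Ext.mk₀_comp_mk₀,
      ← Abelian.Ext.comp_assoc_of_third_deg_zero, ha]
    exact c₂
  obtain ⟨b, hb'⟩ := Abelian.Ext.covariant_sequence_exact₁ _ hS' (a.comp (Abelian.Ext.mk₀ τ) (add_zero _)) hb (n₀ := n) rfl
  haveI : Subsingleton (Abelian.Ext (EtCoh.const X ℤ) S'.X₃ n) := hsub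
  rw [Subsingleton.elim b 0, Abelian.Ext.zero_comp] at hb'
  have ha0 : a = 0 := by
    have h6 := congrArg (fun t => Abelian.Ext.comp t (Abelian.Ext.mk₀ (inv τ)) (add_zero _)) hb'.symm
    simpa using h6
  rw [← ha, ha0, Abelian.Ext.zero_comp]

theorem subsingleton_H_quot [IsAffine X] [IsIntegral X] (hN : ∀ x : X, IsIntegrallyClosed (X.presheaf.stalk x))
    [IsSepClosed X.functionField] [Finite M] (q : ℕ) (hq : 1 ≤ q) :
    ∀ T : Closeds X, Subsingleton (EtCoh.H X (quotSheaf (EtCoh.const X M) T) q) := by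
  induction q, hq using Nat.le_induction with
  | base =>
    intro T
    obtain ⟨e⟩ := nonempty_H_quot_const M T 1
    haveI := subsingleton_H1_const_closed hN (redSubι T) M
    exact e.toEquiv.subsingleton
  | succ n hn ih =>
    intro T₀
    refine subsingleton_of_forall_eq 0 fun c => ?_
    let F := EtCoh.const X M
    by_contra hne
    let Bad : Set (Closeds X) := {T | ∃ h : T ≤ T₀, (EtCoh.HF X (n + 1)).map (quotMap F h) c ≠ 0}
    have hbad₀ : T₀ ∈ Bad := ⟨le_rfl, by
      rw [quotMap_self, CategoryTheory.Functor.map_id]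
      exact hne⟩
    obtain ⟨T, -, hT⟩ := @zorn_le_nonempty₀ (Closeds X)ᵒᵈ _ {T | OrderDual.ofDual T ∈ Bad} (fun C hC hchain y hy => by
      let J := {T : (Closeds X)ᵒᵈ // T ∈ C}
      haveI : Nonempty J := ⟨⟨y, hy⟩⟩
      haveI : IsDirectedOrder J := ⟨fun a b => (hchain.total a.2 b.2).elim (fun h => ⟨b, h, le_rfl⟩) (fun h => ⟨a, le_rfl, h⟩)⟩
      let T : J → Closeds X := fun a => OrderDual.ofDual a.1
      let Tinf : Closeds X := ⟨⋂ a, (T a : Set X), isClosed_iInter fun a => (T a).isClosed⟩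
      refine ⟨OrderDual.toDual Tinf, ?_, fun z hz => show Tinf ≤ T ⟨z, hz⟩ from fun x hx => Set.mem_iInter.1 hx ⟨z, hz⟩⟩
      obtain ⟨hy₀, hyc⟩ := hC hy
      have hle : Tinf ≤ T ⟨y, hy⟩ := fun x hx => Set.mem_iInter.1 hx _
      refine ⟨hle.trans hy₀, fun h0 => ?_⟩
      obtain ⟨k, hjk, hk⟩ := exists_dies_at_stage F T (fun a b h => h) Tinf rfl (n + 1) ⟨y, hy⟩
        ((EtCoh.HF X (n + 1)).map (quotMap F hy₀) c) (fun h => by
          rw [← ConcreteCategory.comp_apply, ← Functor.map_comp, quotMap_comp]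
          exact h0)
      obtain ⟨_, hkc⟩ := hC k.2
      refine hkc ?_
      rw [← ConcreteCategory.comp_apply, ← Functor.map_comp, quotMap_comp] at hk
      exact hk) (OrderDual.toDual T₀) hbad₀
    let T' : Closeds X := OrderDual.ofDual T
    obtain ⟨hT₀, hTc⟩ : T' ∈ Bad := hT.prop
    have hmin : ∀ A : Closeds X, A ≤ T' → ∀ h : A ≤ T₀, (EtCoh.HF X (n + 1)).map (quotMap F h) c ≠ 0 → T' ≤ A :=
      fun A hA h hAc => hT.le_of_ge (y := OrderDual.toDual A) ⟨h, hAc⟩ hA
    by_cases hirr : IsIrreducible (T' : Set X)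
    · exact hTc (@Subsingleton.elim _ (subsingleton_H_quot_irreducible M hN T' hirr (n + 1) n.succ_pos) _ _)
    · rcases Set.eq_empty_or_nonempty (T' : Set X) with h | h
      · refine hTc ?_
        have hz : IsZero (quotSheaf F T') := by
          rw [IsZero.iff_id_eq_zero]
          exact eq_of_stalks _ _ fun Ω _ _ ξ => (isZero_stalk_quot ξ (Set.eq_empty_iff_forall_notMem.1 h _)).eq_of_src _ _
        haveI : Subsingleton (EtCoh.H X (quotSheaf F T') (n + 1)) := subsingleton_of_forall_eq 0 fun x => by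
          rw [← Abelian.Ext.comp_mk₀_id x, hz.eq_of_src (𝟙 _) 0, Abelian.Ext.mk₀_zero, Abelian.Ext.comp_zero]
        exact Subsingleton.elim (α := EtCoh.H X (quotSheaf F T') (n + 1)) _ _
      · have hni : ¬ IsPreirreducible (T' : Set X) := fun hp => hirr ⟨h, hp⟩
        rw [isPreirreducible_iff_isClosed_union_isClosed] at hni
        push_neg at hni
        obtain ⟨Z₁, Z₂, hZ₁, hZ₂, hsub, hn₁, hn₂⟩ := hni
        let A₁ : Closeds X := ⟨(T' : Set X) ∩ Z₁, T'.isClosed.inter hZ₁⟩
        let A₂ : Closeds X := ⟨(T' : Set X) ∩ Z₂, T'.isClosed.inter hZ₂⟩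
        let A : Closeds X := ⟨(A₁ : Set X) ∩ A₂, A₁.isClosed.inter A₂.isClosed⟩
        have h₁ : A₁ ≤ T' := fun x hx => hx.1
        have h₂ : A₂ ≤ T' := fun x hx => hx.1
        refine hTc (dies_of_union h₁ h₂ ?_ (fun x hx => hx.1) (fun x hx => hx.2) (T₁₂ := A) rfl n (ih A) _ ?_ ?_)
        · ext x
          exact ⟨fun hx => (hsub hx).elim (fun h => Or.inl ⟨hx, h⟩) (fun h => Or.inr ⟨hx, h⟩),
            fun hx => hx.elim (fun h => h.1) (fun h => h.1)⟩
        · rw [← ConcreteCategory.comp_apply, ← Functor.map_comp, quotMap_comp]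
          by_contra hA
          exact hn₁ fun x hx => (hmin A₁ h₁ _ hA hx).2
        · rw [← ConcreteCategory.comp_apply, ← Functor.map_comp, quotMap_comp]
          by_contra hA
          exact hn₂ fun x hx => (hmin A₂ h₂ _ hA hx).2

theorem subsingleton_H_const_closed {Z : Scheme.{u}} [IsAffine X] [IsIntegral X]
    (hN : ∀ x : X, IsIntegrallyClosed (X.presheaf.stalk x)) [IsSepClosed X.functionField] [Finite M]
    (i : Z ⟶ X) [IsClosedImmersion i] (q : ℕ) (hq : 1 ≤ q) : Subsingleton (EtCoh.H Z (EtCoh.const Z M) q) := by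
  let T : Closeds X := ⟨Set.range i.base, i.isClosedEmbedding.isClosed_range⟩
  haveI := subsingleton_H_quot M hN q hq T
  have h1 : ∀ (Ω : Type u) [Field Ω] [IsSepClosed Ω] (ξ : Spec (CommRingCat.of Ω) ⟶ X),
      ξ.base (default : Spec (CommRingCat.of Ω)) ∉ Set.range i.base →
        IsZero ((EtCoh.stalk ξ).obj (quotSheaf (EtCoh.const X M) T)) := fun Ω _ _ ξ h => isZero_stalk_quot ξ h
  haveI := EtFound.pull_preservesFiniteLimits i
  let η := (EtCoh.pullPushAdj i).unit.app (EtCoh.const X M)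
  have hk : kernel.ι (toQuot (EtCoh.const X M) T) ≫ η = 0 := by
    refine eq_of_stalks _ _ fun Ω _ _ ξ => ?_
    by_cases hξ : ξ.base (default : Spec (CommRingCat.of Ω)) ∈ T
    · haveI : IsIso ((EtCoh.stalk ξ).map (toQuot (EtCoh.const X M) T)) := isIso_stalk_toQuot ξ hξ
      have h0 : (EtCoh.stalk ξ).map (kernel.ι (toQuot (EtCoh.const X M) T)) = 0 := by
        rw [← cancel_mono ((EtCoh.stalk ξ).map (toQuot (EtCoh.const X M) T)), zero_comp, ← Functor.map_comp,
          kernel.condition]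
        exact Functor.map_zero _ _ _
      refine ((EtCoh.stalk ξ).map_comp _ _).trans ?_
      rw [h0, zero_comp]
      exact ((EtCoh.stalk ξ).map_zero _ _).symm
    · exact (isZero_stalk_push_closed i _ ξ hξ).eq_of_tgt _ _
  haveI := epi_toQuot (EtCoh.const X M) T
  let d : quotSheaf (EtCoh.const X M) T ⟶ (EtCoh.push i).obj ((EtCoh.pull i).obj (EtCoh.const X M)) :=
    Abelian.epiDesc _ η hk
  haveI : IsIso d := by
    refine (isIso_iff_stalks _).2 fun Ω _ _ ξ => ?_
    by_cases hξ : ξ.base (default : Spec (CommRingCat.of Ω)) ∈ T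
    · have e : (EtCoh.stalk ξ).map (toQuot (EtCoh.const X M) T) ≫ (EtCoh.stalk ξ).map d = (EtCoh.stalk ξ).map η := by
        rw [← Functor.map_comp]
        exact congrArg (EtCoh.stalk ξ).map (Abelian.comp_epiDesc _ η hk)
      haveI := isIso_stalk_toQuot (F := EtCoh.const X M) ξ hξ
      haveI := isIso_stalk_unit_closed i (EtCoh.const X M) ξ hξ
      exact IsIso.of_isIso_fac_left e
    · exact (h1 Ω ξ hξ).isIso (isZero_stalk_push_closed i _ ξ hξ) _
  have e : EtCoh.H Z (EtCoh.const Z M) q ≃+ EtCoh.H X (quotSheaf (EtCoh.const X M) T) q :=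
    (((Abelian.extFunctorObj _ q).mapIso (EtCore.pullConst i M).symm).addCommGroupIsoToAddEquiv.trans
      (AddEquiv.ofBijective (EtLim.HofPush i ((EtCoh.pull i).obj (EtCoh.const X M)) q)
        (BigSiteLib.hofPush_bijective i _ (fun p hp => isZero_Rpush_closedImmersion i _ p hp) q)).symm).trans
      ((EtCoh.HF X q).mapIso (asIso d).symm).addCommGroupIsoToAddEquiv
  exact e.toEquiv.subsingleton

end Groth.Agent.EtTorLib
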