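import Groth.Agent.EtFound.PullConst
import Groth.Agent.EtFound.Germ
import Groth.Agent.EtFound.ConstStalk
import Groth.Agent.EtFound.Detect
import Groth.Prelude.Def_EtBase

/-! when the constant sheaf is its own direct image -/

universe u

open CategoryTheory CategoryTheory.Limits AlgebraicGeometry Opposite

namespace Groth.Agent.EtTorLib

set_option backward.isDefEq.respectTransparency.types false

open EtFound

variable {X Z : Scheme.{u}} (g : Z ⟶ X) (M : Type) [AddCommGroup M]

/-- every point of every etale scheme over `X` has a point of the fibre product generalising it, and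
clopen subsets of the fibre product around that point contain the preimage of a neighbourhood -/
def ConnectedNear : Prop :=
  ∀ (V : X.Etale) (v : V.left), ∃ w₀ : ↥(pullback V.hom g), pullback.fst V.hom g w₀ ⤳ v ∧
    ∀ S : Set ↥(pullback V.hom g), IsClopen S → w₀ ∈ S →
      ∃ O : V.left.Opens, v ∈ O ∧ pullback.fst V.hom g ⁻¹' (O : Set V.left) ⊆ S

variable [EtCoh.BCCont g]

/-- the constant sections of the inverse image of a constant sheaf -/
noncomputable def pulledConst (V : X.Etale) :
    AddCommGrpCat.of (ULift.{u + 1} M) ⟶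
      ((EtCoh.pull g).obj (EtCoh.const X M)).obj.obj (op ((EtCoh.bc g).obj V)) :=
  (toSheafify X.smallEtaleTopology ((Functor.const X.Etaleᵒᵖ).obj (AddCommGrpCat.of (ULift.{u + 1} M)))).app (op V) ≫
    ((EtCoh.pullPushAdj g).unit.app (EtCoh.const X M)).hom.app (op V)

theorem pulledConst_map {V V' : X.Etale} (a : V' ⟶ V) (m : ULift.{u + 1} M) :
    ((EtCoh.pull g).obj (EtCoh.const X M)).obj.map ((EtCoh.bc g).map a).op (pulledConst g M V m) =
      pulledConst g M V' m := by
  have e1 := ((EtCoh.pullPushAdj g).unit.app (EtCoh.const X M)).hom.naturality a.op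
  have e2 := (toSheafify X.smallEtaleTopology
    ((Functor.const X.Etaleᵒᵖ).obj (AddCommGrpCat.of (ULift.{u + 1} M)))).naturality a.op
  have key : pulledConst g M V ≫ ((EtCoh.pull g).obj (EtCoh.const X M)).obj.map ((EtCoh.bc g).map a).op =
      pulledConst g M V' := by
    refine (Category.assoc _ _ _).trans ((congrArg (_ ≫ ·) e1.symm).trans ?_)
    refine (Category.assoc _ _ _).symm.trans ((congrArg (· ≫ _) e2.symm).trans ?_)
    exact congrArg (· ≫ _) (Category.id_comp _)
  exact (ConcreteCategory.comp_apply _ _ _).symm.trans (ConcreteCategory.congr_hom key m)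

theorem pulledConst_germ_bijective (V : X.Etale) {Ω : Type u} [Field Ω] [IsAlgClosed Ω]
    (ξ : Spec (CommRingCat.of Ω) ⟶ Z) (t : (Scheme.pointSmallEtale ξ).fiber.obj ((EtCoh.bc g).obj V)) :
    Function.Bijective fun m : ULift.{u + 1} M =>
      (Scheme.pointSmallEtale ξ).toPresheafFiber ((EtCoh.bc g).obj V) t
        ((EtCoh.pull g).obj (EtCoh.const X M)).obj (pulledConst g M V m) :=
  constBy_pull g (F := EtCoh.const X M) (U := V)
    (φ := (toSheafify X.smallEtaleTopology
      ((Functor.const X.Etaleᵒᵖ).obj (AddCommGrpCat.of (ULift.{u + 1} M)))).app (op V))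
    (fun Ω _ _ ζ z => toSheafify_const_germ_bijective ζ AddCommGrpCat.{u + 1} (AddCommGrpCat.of (ULift.{u + 1} M)) V z)
    Ω ξ t

/-- equal constant sections on something nonempty have equal values -/
theorem pulledConst_injective {V : X.Etale} {W : Z.Etale} (k : W ⟶ (EtCoh.bc g).obj V) (x : W.left)
    {m m' : ULift.{u + 1} M}
    (h : ((EtCoh.pull g).obj (EtCoh.const X M)).obj.map k.op (pulledConst g M V m) =
      ((EtCoh.pull g).obj (EtCoh.const X M)).obj.map k.op (pulledConst g M V m')) : m = m' := by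
  obtain ⟨Ω, _, _, ξ, z, -⟩ := exists_algClosed_point W x
  refine (pulledConst_germ_bijective g M V ξ ((Scheme.pointSmallEtale ξ).fiber.map k z)).1 ?_
  show (Scheme.pointSmallEtale ξ).toPresheafFiber _ _ ((EtCoh.pull g).obj (EtCoh.const X M)).obj (pulledConst g M V m) =
    (Scheme.pointSmallEtale ξ).toPresheafFiber _ _ ((EtCoh.pull g).obj (EtCoh.const X M)).obj (pulledConst g M V m')
  rw [← GrothendieckTopology.Point.toPresheafFiber_w_apply, ← GrothendieckTopology.Point.toPresheafFiber_w_apply]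
  exact congrArg _ h

theorem isIso_unit_of_connectedNear (h : ConnectedNear g) :
    IsIso ((EtCoh.pullPushAdj g).unit.app (EtCoh.const X M)) := by
  refine isIso_of_stalks _ fun Ω _ _ ξ => ?_
  let G := (EtCoh.pull g).obj (EtCoh.const X M)
  let η := (EtCoh.pullPushAdj g).unit.app (EtCoh.const X M)
  let Φ := Scheme.pointSmallEtale ξ
  have hη : ∀ (V : X.Etale) (u : Φ.fiber.obj V) (m : ULift.{u + 1} M),
      Φ.presheafFiber.map η.hom (Φ.toPresheafFiber V u (EtCoh.const X M).obj
        ((toSheafify X.smallEtaleTopology ((Functor.const X.Etaleᵒᵖ).obj (AddCommGrpCat.of (ULift.{u + 1} M)))).app (op V) m)) =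
        Φ.toPresheafFiber V u ((EtCoh.push g).obj G).obj (pulledConst g M V m) := fun V u m => by
    refine (Φ.toPresheafFiber_naturality_apply η.hom V u _).trans (congrArg _ ?_)
    exact (ConcreteCategory.comp_apply _ _ _).symm
  obtain ⟨V₀, u₀⟩ : ∃ V : X.Etale, Nonempty (Φ.fiber.obj V) :=
    ⟨(IsCofiltered.nonempty (C := Φ.fiber.Elements)).some.1, ⟨(IsCofiltered.nonempty (C := Φ.fiber.Elements)).some.2⟩⟩
  have u₀ := u₀.some
  have hb₀ := toSheafify_const_germ_bijective ξ AddCommGrpCat.{u + 1} (AddCommGrpCat.of (ULift.{u + 1} M)) V₀ u₀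
  refine ⟨fun a b hab => ?_, fun p => ?_⟩
  · obtain ⟨m, rfl⟩ := hb₀.2 a
    obtain ⟨m', rfl⟩ := hb₀.2 b
    have hab' := (hη V₀ u₀ m).symm.trans (hab.trans (hη V₀ u₀ m'))
    obtain ⟨V, f, u, -, hf⟩ := (Φ.toPresheafFiber_eq_iff' _ _ _ _).1 hab'
    obtain ⟨w₀, -⟩ := h V ((u.left : Spec (CommRingCat.of Ω) ⟶ V.left).base (default : Spec (CommRingCat.of Ω)))
    have : m = m' := pulledConst_injective g M ((EtCoh.bc g).map f) w₀ hf
    rw [this]
  · obtain ⟨V, u, s, rfl⟩ := Φ.toPresheafFiber_jointly_surjective p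
    let v : V.left := (u.left : Spec (CommRingCat.of Ω) ⟶ V.left).base (default : Spec (CommRingCat.of Ω))
    obtain ⟨w₀, hw₀, hS⟩ := h V v
    let B := (EtCoh.bc g).obj V
    let S : ULift.{u + 1} M → Set B.left := fun m =>
      {w | ∃ (W : Z.Etale) (k : W ⟶ B), G.obj.map k.op s = G.obj.map k.op (pulledConst g M V m) ∧ w ∈ Set.range k.left.base}
    have hopen : ∀ m, IsOpen (S m) := fun m => isOpen_iff_forall_mem_open.2 fun w ⟨W, k, hk, hw⟩ => by
      have := etale_left k
      exact ⟨_, fun w' hw' => ⟨W, k, hk, hw'⟩, k.left.isOpenMap.isOpen_range, hw⟩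
    have hcov : ∀ w, ∃ m, w ∈ S m := fun w => by
      obtain ⟨k, _, _, ζ, z, hz⟩ := exists_algClosed_point B w
      obtain ⟨m, hm⟩ := (pulledConst_germ_bijective g M V ζ z).2 ((Scheme.pointSmallEtale ζ).toPresheafFiber B z G.obj s)
      obtain ⟨W, a, z', hz', ha⟩ := ((Scheme.pointSmallEtale ζ).toPresheafFiber_eq_iff' _ _ _ _).1 hm
      refine ⟨m, W, a, ha.symm, (z'.left : Spec (CommRingCat.of k) ⟶ W.left).base (default : Spec (CommRingCat.of k)), ?_⟩
      rw [← hz, ← hz']
      exact (Scheme.Hom.comp_apply _ _ _).symm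
    have hdisj : ∀ m m' w, w ∈ S m → w ∈ S m' → m = m' := fun m m' w ⟨W, k, hk, y, hy⟩ ⟨W', k', hk', y', hy'⟩ => by
      obtain ⟨Ω', _, _, ζ, z, hz⟩ := exists_algClosed_point W y
      let t := (Scheme.pointSmallEtale ζ).fiber.map k z
      obtain ⟨z', hz', -⟩ := exists_lift_point k' t y' (by
        rw [hy', ← hy, ← hz]
        exact (Scheme.Hom.comp_apply _ _ _).symm)
      refine (pulledConst_germ_bijective g M V ζ t).1 ?_
      show (Scheme.pointSmallEtale ζ).toPresheafFiber _ t G.obj (pulledConst g M V m) =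
        (Scheme.pointSmallEtale ζ).toPresheafFiber _ t G.obj (pulledConst g M V m')
      refine Eq.trans (b := (Scheme.pointSmallEtale ζ).toPresheafFiber _ t G.obj s) ?_ ?_
      · rw [← GrothendieckTopology.Point.toPresheafFiber_w_apply, ← GrothendieckTopology.Point.toPresheafFiber_w_apply]
        exact congrArg _ hk.symm
      · rw [← hz', ← GrothendieckTopology.Point.toPresheafFiber_w_apply, ← GrothendieckTopology.Point.toPresheafFiber_w_apply]
        exact congrArg _ hk'
    obtain ⟨m, hm⟩ := hcov w₀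
    obtain ⟨O, hvO, hO⟩ := hS (S m) ⟨⟨isOpen_iff_forall_mem_open.2 fun w hw => by
      obtain ⟨m', hm'⟩ := hcov w
      exact ⟨S m', fun w' hw' hw'' => hw ((hdisj m m' w' hw'' hw') ▸ hm'), hopen m', hm'⟩⟩, hopen m⟩ hm
    let V' : X.Etale :=
      haveI : AlgebraicGeometry.Etale V.hom := V.prop
      Scheme.Etale.mk (O.ι ≫ V.hom)
    let a : V' ⟶ V := MorphismProperty.Over.homMk O.ι rfl
    obtain ⟨u', hu', -⟩ := exists_lift_point a u (⟨v, hvO⟩ : O) rfl
    refine ⟨Φ.toPresheafFiber V u (EtCoh.const X M).obj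
      ((toSheafify X.smallEtaleTopology ((Functor.const X.Etaleᵒᵖ).obj (AddCommGrpCat.of (ULift.{u + 1} M)))).app (op V) m), ?_⟩
    refine (hη V u m).trans ((Φ.toPresheafFiber_eq_iff' _ _ _ _).2 ⟨V', a, u', hu', ?_⟩)
    refine (((isSheaf_iff_isSheaf_of_type _ _).1
      ((sheafCompose Z.smallEtaleTopology (forget AddCommGrpCat.{u + 1})).obj G).property).isSeparated
      _ (equalizerSieve_mem_of_germs G.obj ((EtCoh.bc g).obj V') _ _ fun Ω' _ _ ζ z => ?_)).ext fun _ _ hk => hk
    let b := (EtCoh.bc g).map a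
    let t := (Scheme.pointSmallEtale ζ).fiber.map b z
    obtain ⟨W, k, hk, y, hy⟩ : (t.left : Spec (CommRingCat.of Ω') ⟶ B.left).base (default : Spec (CommRingCat.of Ω')) ∈ S m := by
      refine hO ?_
      show pullback.fst V.hom g ((t.left : Spec (CommRingCat.of Ω') ⟶ B.left).base (default : Spec (CommRingCat.of Ω'))) ∈ O
      have e : b.left ≫ pullback.fst V.hom g = pullback.fst V'.hom g ≫ O.ι := (EtCoh.isPullback_bc_map g a).w
      let y₀ := (z.left : Spec (CommRingCat.of Ω') ⟶ ((EtCoh.bc g).obj V').left).base (default : Spec (CommRingCat.of Ω'))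
      have e2 : pullback.fst V.hom g (b.left.base y₀) = O.ι (pullback.fst V'.hom g y₀) :=
        (Scheme.Hom.comp_apply _ _ _).symm.trans ((congrArg (fun k : _ ⟶ V.left => k y₀) e).trans (Scheme.Hom.comp_apply _ _ _))
      have e3 : (t.left : Spec (CommRingCat.of Ω') ⟶ B.left).base (default : Spec (CommRingCat.of Ω')) = b.left.base y₀ :=
        Scheme.Hom.comp_apply _ _ _
      exact Set.mem_of_eq_of_mem ((congrArg (pullback.fst V.hom g) e3).trans e2) (pullback.fst V'.hom g y₀).2
    obtain ⟨z', hz', -⟩ := exists_lift_point k t y hy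
    refine ((Scheme.pointSmallEtale ζ).toPresheafFiber_w_apply b z G.obj _).trans (Eq.trans ?_
      ((Scheme.pointSmallEtale ζ).toPresheafFiber_w_apply b z G.obj _).symm)
    show (Scheme.pointSmallEtale ζ).toPresheafFiber B t G.obj (pulledConst g M V m) =
      (Scheme.pointSmallEtale ζ).toPresheafFiber B t G.obj s
    rw [← hz', ← GrothendieckTopology.Point.toPresheafFiber_w_apply, ← GrothendieckTopology.Point.toPresheafFiber_w_apply]
    exact congrArg _ hk.symm

end Groth.Agent.EtTorLib
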