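import Groth.Agent.EtTorLib.Sections
import Mathlib.GroupTheory.FreeAbelianGroup

/-! torsion of injective sheaves is acyclic -/

universe u

open CategoryTheory CategoryTheory.Limits AlgebraicGeometry Opposite CategoryTheory.Abelian

namespace Groth.Agent.EtTorLib

set_option backward.isDefEq.respectTransparency.types false
set_option linter.style.haveILetI false

variable {X : Scheme.{u}}

/-- the free presheaf on an object -/
noncomputable def freeOn (U : X.Etale) : X.Etaleᵒᵖ ⥤ AddCommGrpCat.{u + 1} where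
  obj W := AddCommGrpCat.of (ULift.{u + 1} (W.unop ⟶ U) →₀ ℤ)
  map {W W'} a := AddCommGrpCat.ofHom (Finsupp.mapDomain.addMonoidHom fun h => ⟨a.unop ≫ h.down⟩)
  map_id W := by
    refine AddCommGrpCat.hom_ext ?_
    simp [Finsupp.mapDomain.addMonoidHom]
    exact AddMonoidHom.ext fun x => Finsupp.mapDomain_id
  map_comp a b := by
    refine AddCommGrpCat.hom_ext (AddMonoidHom.ext fun x => ?_)
    refine Eq.trans ?_ Finsupp.mapDomain_comp
    exact congrArg (fun φ => Finsupp.mapDomain φ x) (funext fun h => by simp)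

/-- sections of injective sheaves are divisible -/
theorem exists_nsmul_eq (I : EtCoh.Ab X) [Injective I] {n : ℕ} (hn : 0 < n) (U : X.Etale) (s : I.obj.obj (op U)) :
    ∃ t, n • t = s := by
  haveI : LocallySmall.{u + 1} X.Etale := ⟨fun _ _ => inferInstance⟩
  haveI : Injective I.obj :=
    Injective.injective_of_adjoint (sheafificationAdjunction X.smallEtaleTopology AddCommGrpCat.{u + 1}) I
  let j : freeOn U ⟶ freeOn U := n • 𝟙 _
  haveI : Mono j := by
    haveI : ∀ W, Mono (j.app W) := fun W => (AddCommGrpCat.mono_iff_injective _).2 fun x y hxy => by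
      have h : n • x = n • y := hxy
      refine Finsupp.ext fun a => ?_
      have := congrArg (fun z : ULift.{u + 1} (W.unop ⟶ U) →₀ ℤ => z a) h
      let x' : ULift.{u + 1} (W.unop ⟶ U) →₀ ℤ := x
      let y' : ULift.{u + 1} (W.unop ⟶ U) →₀ ℤ := y
      have h' : n • x' = n • y' := h
      have := DFunLike.congr_fun h' a
      rw [Finsupp.smul_apply, Finsupp.smul_apply] at this
      exact smul_right_injective ℤ hn.ne' this
    exact NatTrans.mono_of_mono_app _
  let φ : freeOn U ⟶ I.obj :=
    { app := fun W => AddCommGrpCat.ofHom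
        (Finsupp.liftAddHom fun h => zmultiplesHom _ (I.obj.map h.down.op s))
      naturality := fun W W' a => AddCommGrpCat.hom_ext (Finsupp.addHom_ext fun h m => by
        simp [freeOn, Finsupp.mapDomain.addMonoidHom]) }
  let one : (freeOn U).obj (op U) := Finsupp.single ⟨𝟙 U⟩ 1
  refine ⟨(Injective.factorThru φ j).app (op U) one, ?_⟩
  have e : (Injective.factorThru φ j).app (op U) (j.app (op U) one) = φ.app (op U) one :=
    ConcreteCategory.congr_hom (congrArg (fun q : freeOn U ⟶ I.obj => q.app (op U))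
      (Injective.comp_factorThru φ j)) one
  refine ((map_nsmul ((Injective.factorThru φ j).app (op U)).hom n one).symm.trans (e.trans ?_))
  refine (Finsupp.liftAddHom_apply_single _ _ _).trans ?_
  simp

theorem epi_nsmul (I : EtCoh.Ab X) [Injective I] {n : ℕ} (hn : 0 < n) : Epi (n • 𝟙 I) :=
  epi_of_locally _ fun U s x => by
    obtain ⟨t, ht⟩ := exists_nsmul_eq I hn U s
    exact ⟨U, 𝟙 U, x, t, (EtFound.nsmul_hom_app (𝟙 I) n U t).trans (ht.trans (by simp)), rfl⟩

theorem mono_nsmul_constant {n : ℕ} (hn : 0 < n) :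
    Mono (n • 𝟙 ((constantSheaf X.smallEtaleTopology AddCommGrpCat.{u + 1}).obj
      (AddCommGrpCat.of (ULift.{u + 1} ℤ)))) := by
  let A := AddCommGrpCat.of (ULift.{u + 1} ℤ)
  let c := constantSheaf X.smallEtaleTopology AddCommGrpCat.{u + 1}
  haveI : (presheafToSheaf X.smallEtaleTopology AddCommGrpCat.{u + 1}).Additive := inferInstance
  haveI : ((Functor.const X.Etaleᵒᵖ) : AddCommGrpCat.{u + 1} ⥤ _).Additive := ⟨rfl⟩
  haveI : c.Additive :=
    inferInstanceAs ((Functor.const X.Etaleᵒᵖ) ⋙ presheafToSheaf X.smallEtaleTopology AddCommGrpCat.{u + 1}).Additive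
  haveI : Mono (n • 𝟙 A) := (AddCommGrpCat.mono_iff_injective _).2 fun x y hxy => ULift.ext _ _ (by
    have : n • x.down = n • y.down := congrArg ULift.down hxy
    simpa [hn.ne'] using this)
  haveI : Mono ((Functor.const X.Etaleᵒᵖ).map (n • 𝟙 A)) := by
    haveI : ∀ W, Mono (((Functor.const X.Etaleᵒᵖ).map (n • 𝟙 A)).app W) := fun _ => ‹Mono (n • 𝟙 A)›
    exact NatTrans.mono_of_mono_app _
  rw [← c.map_id, ← Functor.map_nsmul]
  exact (presheafToSheaf X.smallEtaleTopology AddCommGrpCat.{u + 1}).map_mono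
    ((Functor.const X.Etaleᵒᵖ).map (n • 𝟙 A))

/-- the `n`-torsion of an injective sheaf has no higher cohomology -/
theorem subsingleton_H_kernel_nsmul (I : EtCoh.Ab X) [Injective I] {n : ℕ} (hn : 0 < n) (q : ℕ) :
    Subsingleton (EtCoh.H X (kernel (n • 𝟙 I)) (q + 1)) := by
  haveI := epi_nsmul I hn
  let S := ShortComplex.mk (kernel.ι (n • 𝟙 I)) (n • 𝟙 I) (kernel.condition _)
  have hS : S.ShortExact := { exact := ShortComplex.exact_of_f_is_kernel _ (kernelIsKernel _) }
  haveI : Injective S.X₂ := ‹Injective I›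
  refine subsingleton_of_forall_eq 0 fun x => ?_
  obtain ⟨z, rfl⟩ := Ext.covariant_sequence_exact₁ _ hS x (Ext.eq_zero_of_injective _) (rfl : q + 1 = q + 1)
  obtain ⟨w, hw⟩ : ∃ w, (w : Ext _ S.X₂ q).comp (Ext.mk₀ S.g) (add_zero q) = z := by
    cases q with
    | zero =>
      obtain ⟨φ, rfl⟩ := (Ext.mk₀_bijective _ _).2 z
      haveI := mono_nsmul_constant (X := X) hn
      let C := (constantSheaf X.smallEtaleTopology AddCommGrpCat.{u + 1}).obj (AddCommGrpCat.of (ULift.{u + 1} ℤ))
      let ψ := Injective.factorThru φ (n • 𝟙 C)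
      refine ⟨Ext.mk₀ ψ, ?_⟩
      rw [Ext.mk₀_comp_mk₀]
      refine congrArg Ext.mk₀ ?_
      refine Eq.trans ?_ (Injective.comp_factorThru φ (n • 𝟙 C))
      change ψ ≫ (n • 𝟙 I) = (n • 𝟙 C) ≫ ψ
      rw [Preadditive.comp_nsmul, Preadditive.nsmul_comp, Category.comp_id, Category.id_comp]
    | succ q =>
      haveI : Injective S.X₃ := ‹Injective I›
      exact ⟨0, by simp [Ext.eq_zero_of_injective z]⟩
  rw [← hw, Ext.comp_assoc_of_second_deg_zero, hS.comp_extClass, Ext.comp_zero]

end Groth.Agent.EtTorLib
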