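import Groth.Agent.EtTorLib.ConstPush
import Groth.Agent.EtStalk.Normal
import Groth.Agent.FDescent.QuasiFlat
import Groth.Prelude.Def_Pi1
import Mathlib.AlgebraicGeometry.Morphisms.QuasiFinite
import Mathlib.RingTheory.Unramified.Finite

/-! the constant sheaf of a normal scheme is the direct image from the generic points -/

universe u

open CategoryTheory CategoryTheory.Limits AlgebraicGeometry Opposite

namespace Groth.Agent.EtTorLib

set_option backward.isDefEq.respectTransparency.types false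

variable {X Z : Scheme.{u}}

/-- points of schemes with domain stalks have a unique maximal generisation -/
theorem exists_max_generization {Y : Scheme.{u}} (v : Y) [IsDomain (Y.presheaf.stalk v)] :
    ∃ η : Y, η ⤳ v ∧ ∀ y : Y, y ⤳ v → η ⤳ y := by
  let bot : Spec (Y.presheaf.stalk v) := (⟨⊥, Ideal.isPrime_bot⟩ : PrimeSpectrum (Y.presheaf.stalk v))
  have hr := Scheme.range_fromSpecStalk (X := Y) (x := v)
  refine ⟨Y.fromSpecStalk v bot, hr.le ⟨bot, rfl⟩, fun y hy => ?_⟩
  obtain ⟨p, rfl⟩ := hr.ge hy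
  exact ((PrimeSpectrum.le_iff_specializes (R := Y.presheaf.stalk v) _ _).1
    (show (⟨⊥, Ideal.isPrime_bot⟩ : PrimeSpectrum (Y.presheaf.stalk v)) ≤ p from bot_le)).map (Y.fromSpecStalk v).continuous

theorem maximal_map {Y : Scheme.{u}} (h : Y ⟶ X) [Flat h] {η : Y} (hη : ∀ y : Y, y ⤳ η → η ⤳ y)
    (x : X) (hx : x ⤳ h η) : x = h η := by
  obtain ⟨y, hy, rfl⟩ := Flat.generalizingMap h hx
  exact (hx.antisymm ((hη y hy).map h.continuous)).eq

variable (g : Z ⟶ X) [IsPreimmersion g]

/-- the general criterion -/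
theorem connectedNear_of (hX : Pi1.IsNormalScheme X) (hmax : ∀ x : X, (∀ x', x' ⤳ x → x' = x) → x ∈ Set.range g)
    (hcl : ∀ (V : X.Etale) (S : Set ↥(pullback V.hom g)), IsClopen S → ∀ v : V.left,
      v ∈ closure (pullback.fst V.hom g '' S) → ∃ s ∈ S, pullback.fst V.hom g s ⤳ v) :
    ConnectedNear g := by
  intro V v
  have : Etale V.hom := V.prop
  have : IsPreimmersion (pullback.fst V.hom g) := MorphismProperty.pullback_fst _ _ ‹IsPreimmersion g›
  have : IsDomain (V.left.presheaf.stalk v) := ((EtStalk.normal_stalk_iff V.hom v).2 (hX _)).1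
  obtain ⟨η, hηv, hη⟩ := exists_max_generization v
  obtain ⟨w₀, hw₀⟩ : η ∈ Set.range (pullback.fst V.hom g) := by
    rw [Scheme.Pullback.range_fst]
    exact hmax _ fun x' hx' => maximal_map V.hom (fun y hy => hη y (hy.trans hηv)) x' hx'
  refine ⟨w₀, hw₀ ▸ hηv, fun S hS hwS => ?_⟩
  have hv : v ∉ closure (pullback.fst V.hom g '' Sᶜ) := fun hv => by
    obtain ⟨s, hs, hsv⟩ := hcl V Sᶜ hS.compl v hv
    have hsp : w₀ ⤳ s := (pullback.fst V.hom g).isEmbedding.isInducing.specializes_iff.1 (hw₀ ▸ hη _ hsv)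
    exact hsp.mem_open hS.compl.2 hs hwS
  refine ⟨⟨(closure (pullback.fst V.hom g '' Sᶜ))ᶜ, isClosed_closure.isOpen_compl⟩, hv, fun w hw => ?_⟩
  by_contra hwS
  exact hw (subset_closure ⟨w, hwS, rfl⟩)

/-- quasi-compact dominant case -/
theorem connectedNear_of_quasiCompact (hX : Pi1.IsNormalScheme X) [QuasiCompact g] (hd : Dense (Set.range g)) :
    ConnectedNear g := by
  refine connectedNear_of g hX (fun x hx => ?_) fun V S hS v hv => ?_
  · obtain ⟨z, hz⟩ := FDescent.exists_specializes_of_mem_closure_range g (hd x)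
    exact ⟨z, hx _ hz⟩
  · let O : (pullback V.hom g).Opens := ⟨S, hS.2⟩
    have : IsClosedImmersion O.ι := IsClosedImmersion.of_isPreimmersion _ (by rw [Scheme.Opens.range_ι]; exact hS.1)
    have : QuasiCompact (pullback.fst V.hom g) := MorphismProperty.pullback_fst _ _ ‹QuasiCompact g›
    obtain ⟨s, hs⟩ := FDescent.exists_specializes_of_mem_closure_range (O.ι ≫ pullback.fst V.hom g) (y := v) (by
      rw [Scheme.Hom.comp_base, TopCat.coe_comp, Set.range_comp]
      erw [Scheme.Opens.range_ι]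
      exact hv)
    exact ⟨O.ι s, s.2, by rw [← Scheme.Hom.comp_apply]; exact hs⟩

/-- integral case -/
theorem connectedNear_of_isIntegral [IsIntegral X] (hX : Pi1.IsNormalScheme X) (hg : genericPoint X ∈ Set.range g) :
    ConnectedNear g := by
  have hgen : ∀ x : X, genericPoint X ⤳ x := fun x =>
    (genericPoint_spec X).specializes (Set.mem_univ x)
  refine connectedNear_of g hX (fun x hx => hx _ (hgen x) ▸ hg) fun V S hS v hv => ?_
  have : Etale V.hom := V.prop
  have : IsPreimmersion (pullback.fst V.hom g) := MorphismProperty.pullback_fst _ _ ‹IsPreimmersion g›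
  obtain ⟨_, ⟨(B : X.Opens), hB, rfl⟩, hvB, -⟩ :=
    X.isBasis_affineOpens.exists_subset_of_mem_open (Set.mem_univ (V.hom v)) isOpen_univ
  obtain ⟨_, ⟨(A : V.left.Opens), hA, rfl⟩, hvA, hAB⟩ := V.left.isBasis_affineOpens.exists_subset_of_mem_open
    (show v ∈ ((V.hom ⁻¹ᵁ B : V.left.Opens) : Set V.left) from hvB) (V.hom ⁻¹ᵁ B : V.left.Opens).isOpen
  have : IsAffine B.toScheme := hB
  have : IsAffine A.toScheme := hA
  let h := V.hom.resLE B A hAB
  have : QuasiCompact h := quasiCompact_of_compactSpace h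
  have : LocallyQuasiFinite h := by
    rw [HasRingHomProperty.iff_appLE (P := @LocallyQuasiFinite)]
    intro U₀ W₀ e'
    have := HasRingHomProperty.appLE @AlgebraicGeometry.Etale h inferInstance U₀ W₀ e'
    algebraize [(h.appLE U₀.1 W₀.1 e').hom]
    exact (inferInstance : Algebra.QuasiFinite Γ(B.toScheme, U₀.1) Γ(A.toScheme, W₀.1))
  have hgB : genericPoint X ∈ B := (hgen (V.hom v)).mem_open B.2 hvB
  have hfin : ((A : Set V.left) ∩ V.hom ⁻¹' {genericPoint X}).Finite := by
    refine ((h.finite_preimage_singleton (⟨_, hgB⟩ : B)).image A.ι).subset ?_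
    rintro y ⟨hyA, hy⟩
    refine ⟨⟨y, hyA⟩, ?_, rfl⟩
    refine Subtype.ext ?_
    refine Eq.trans ?_ hy
    show (h ≫ B.ι) ⟨y, hyA⟩ = V.hom y
    rw [Scheme.Hom.resLE_comp_ι, Scheme.Hom.comp_apply]
    rfl
  let F : Set V.left := pullback.fst V.hom g '' S ∩ ((A : Set V.left) ∩ V.hom ⁻¹' {genericPoint X})
  have hsub : (A : Set V.left) ∩ pullback.fst V.hom g '' S ⊆ closure F := by
    rintro _ ⟨hyA, w, hwS, rfl⟩
    have : IsDomain (V.left.presheaf.stalk (pullback.fst V.hom g w)) :=
      ((EtStalk.normal_stalk_iff V.hom (pullback.fst V.hom g w)).2 (hX _)).1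
    obtain ⟨η, hηw, hη⟩ := @exists_max_generization V.left (pullback.fst V.hom g w) this
    have hηg : V.hom η = genericPoint X :=
      (maximal_map V.hom (fun y hy => hη y (hy.trans hηw)) _ (hgen _)).symm
    obtain ⟨w', hw'⟩ : η ∈ Set.range (pullback.fst V.hom g) := by
      rw [Scheme.Pullback.range_fst]
      show V.hom η ∈ Set.range g
      rw [hηg]; exact hg
    have hw'w : w' ⤳ w := (pullback.fst V.hom g).isEmbedding.isInducing.specializes_iff.1 (hw' ▸ hηw)
    exact hηw.mem_closed isClosed_closure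
      (subset_closure ⟨⟨w', hw'w.mem_open hS.2 hwS, hw'⟩, hηw.mem_open A.2 hyA, hηg⟩)
  have hvF : v ∈ closure F := closure_minimal hsub isClosed_closure (A.2.inter_closure ⟨hvA, hv⟩)
  rw [← Set.biUnion_of_singleton F, (hfin.subset Set.inter_subset_right).closure_biUnion] at hvF
  obtain ⟨y, ⟨⟨s, hs, rfl⟩, -⟩, hy⟩ := Set.mem_iUnion₂.1 hvF
  exact ⟨s, hs, specializes_iff_mem_closure.2 hy⟩

end Groth.Agent.EtTorLib
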