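import Groth.Agent.EtTorLib.Sections

/-! torsion sheaves are filtered colimits of constructible sheaves -/

universe u

open CategoryTheory CategoryTheory.Limits AlgebraicGeometry Opposite

namespace Groth.Agent.EtTorLib

set_option backward.isDefEq.respectTransparency.types false
set_option linter.style.haveILetI false

/-- presentations of constructible sheaves -/
structure Pres (X : Scheme.{u}) : Type (u + 1) where
  n : ℕ
  pos : 0 < n
  a : ℕ
  b : ℕ
  V : Fin a → X.Etale
  U : Fin b → X.Etale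
  affV : ∀ j, IsAffine (V j).left
  affU : ∀ i, IsAffine (U i).left
  φ : (⨁ fun j => EtPBC.extZeroConst (V j) (ZMod n)) ⟶ ⨁ fun i => EtPBC.extZeroConst (U i) (ZMod n)

variable {X : Scheme.{u}}

/-- the presented sheaf -/
noncomputable def Pres.E (p : Pres X) : EtCoh.Ab X := cokernel p.φ

theorem Pres.nsmul_eq_zero (p : Pres X) : p.n • 𝟙 p.E = 0 := by
  have h := EtFound.nsmul_biproduct (fun i => EtPBC.extZeroConst (p.U i) (ZMod p.n))
    (n := p.n) fun i => EtFound.extZeroConst_nsmul (p.U i) fun m => by simp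
  change p.n • 𝟙 (cokernel p.φ) = 0
  refine (cancel_epi (cokernel.π p.φ)).1 ?_
  rw [comp_zero, Preadditive.comp_nsmul]
  refine (congrArg (p.n • ·) (Category.comp_id _)).trans ?_
  rw [← Category.id_comp (cokernel.π p.φ), ← Preadditive.nsmul_comp, h, zero_comp]

variable [CompactSpace X] [QuasiSeparatedSpace X]

theorem Pres.isConstructible (p : Pres X) : EtPBC.IsConstructible p.E := by
  haveI : NeZero p.n := ⟨p.pos.ne'⟩
  refine EtFound.isConstructible_cokernel _ (EtFound.isConstructible_biproduct _ fun j => ?_)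
    (EtFound.isConstructible_biproduct _ fun i => ?_)
  · haveI := p.affV j
    exact S0133.result X (p.V j) (ZMod p.n)
  · haveI := p.affU i
    exact S0133.result X (p.U i) (ZMod p.n)

theorem exists_pres {E : EtCoh.Ab X} (h : EtPBC.IsConstructible E) : ∃ p : Pres X, Nonempty (E ≅ p.E) := by
  obtain ⟨n, hn, hEn⟩ := EtFound.exists_killedBy X h
  haveI : NeZero n := ⟨hn.ne'⟩
  obtain ⟨a, b, V, U, hV, hU, φ, e⟩ := EtFound.exists_presentation X h hEn
  exact ⟨⟨n, hn, a, b, V, U, hV, hU, φ⟩, e⟩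

/-- properties of sheaves compatible with filtered diagrams -/
structure Good (P : EtCoh.Ab X → Prop) : Prop where
  iso : ∀ {A B : EtCoh.Ab X}, (A ≅ B) → P A → P B
  zero : ∀ {A : EtCoh.Ab X}, IsZero A → P A
  sum : ∀ {A B : EtCoh.Ab X}, P A → P B → P (A ⊞ B)
  coker : ∀ {A B : EtCoh.Ab X} (f : A ⟶ B), P B → P (cokernel f)

/-- constructible sheaves with a property over `F` -/
structure Idx (P : EtCoh.Ab X → Prop) (F : EtCoh.Ab X) : Type (u + 1) where
  p : Pres X
  hp : P p.E
  m : p.E ⟶ F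

variable {P : EtCoh.Ab X → Prop} {F : EtCoh.Ab X}

noncomputable instance : Category.{u + 1} (Idx P F) where
  Hom i j := {g : i.p.E ⟶ j.p.E // g ≫ j.m = i.m}
  id i := ⟨𝟙 _, Category.id_comp _⟩
  comp {i j k} f g := ⟨f.1 ≫ g.1, by rw [Category.assoc, g.2, f.2]⟩
  id_comp f := Subtype.ext (Category.id_comp _)
  comp_id f := Subtype.ext (Category.comp_id _)
  assoc f g h := Subtype.ext (Category.assoc _ _ _)

/-- the diagram of constructible sheaves over `F` -/
noncomputable def diagram (P : EtCoh.Ab X → Prop) (F : EtCoh.Ab X) : Idx P F ⥤ EtCoh.Ab X where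
  obj i := i.p.E
  map f := f.1
  map_id _ := rfl
  map_comp _ _ := rfl

/-- the tautological cocone -/
noncomputable def cocone (P : EtCoh.Ab X → Prop) (F : EtCoh.Ab X) : Cocone (diagram P F) where
  pt := F
  ι := { app := fun i => i.m, naturality := fun i j f => f.2.trans (Category.comp_id _).symm }

theorem exists_idx {A : EtCoh.Ab X} (hA : EtPBC.IsConstructible A) (hP : Good P) (hPA : P A) (m : A ⟶ F) :
    ∃ (i : Idx P F) (e : A ≅ i.p.E), e.hom ≫ i.m = m := by
  obtain ⟨p, ⟨e⟩⟩ := exists_pres hA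
  exact ⟨⟨p, hP.iso e hPA, e.inv ≫ m⟩, e, e.hom_inv_id_assoc m⟩

theorem isConstructible_biprod {A B : EtCoh.Ab X} (hA : EtPBC.IsConstructible A) (hB : EtPBC.IsConstructible B) :
    EtPBC.IsConstructible (A ⊞ B) :=
  EtFound.isConstructible_of_extension (ShortComplex.Splitting.ofHasBinaryBiproduct A B).shortExact hA hB

theorem isFiltered_idx (hP : Good P) : IsFiltered (Idx P F) := by
  haveI : IsFilteredOrEmpty (Idx P F) := by
    refine ⟨fun i j => ?_, fun i j f g => ?_⟩
    · obtain ⟨k, e, he⟩ := exists_idx (F := F) (isConstructible_biprod i.p.isConstructible j.p.isConstructible) hP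
        (hP.sum i.hp j.hp) (biprod.desc i.m j.m)
      exact ⟨k, ⟨biprod.inl ≫ e.hom, by rw [Category.assoc, he, biprod.inl_desc]⟩,
        ⟨biprod.inr ≫ e.hom, by rw [Category.assoc, he, biprod.inr_desc]⟩, trivial⟩
    · obtain ⟨k, e, he⟩ := exists_idx (F := F)
        (EtFound.isConstructible_cokernel (f.1 - g.1) i.p.isConstructible j.p.isConstructible) hP
        (hP.coker _ j.hp) (cokernel.desc (f.1 - g.1) j.m (by rw [Preadditive.sub_comp, f.2, g.2, sub_self]))
      refine ⟨k, ⟨cokernel.π (f.1 - g.1) ≫ e.hom, by rw [Category.assoc, he, cokernel.π_desc]⟩, Subtype.ext ?_⟩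
      change f.1 ≫ cokernel.π (f.1 - g.1) ≫ e.hom = g.1 ≫ cokernel.π (f.1 - g.1) ≫ e.hom
      rw [← sub_eq_zero, ← Preadditive.sub_comp, cokernel.condition_assoc, zero_comp]
  obtain ⟨i, -, -⟩ := exists_idx (F := F) (EtFound.isConstructible_of_isZero (isZero_zero (EtCoh.Ab X))) hP
    (hP.zero (isZero_zero (EtCoh.Ab X))) 0
  exact @IsFiltered.mk _ _ this ⟨i⟩

theorem exists_isColimit (hP : Good P) (hF : EtCoh.IsTorsion F)
    (hsec : ∀ (U : X.Etale), IsAffine U.left → ∀ (s : F.obj.obj (op U)) (n : ℕ), 0 < n → n • s = 0 →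
      ∃ (A : EtCoh.Ab X) (m : A ⟶ F) (t : A.obj.obj (op U)),
        EtPBC.IsConstructible A ∧ P A ∧ m.hom.app (op U) t = s) :
    Nonempty (IsColimit (cocone P F)) := by
  haveI := isFiltered_idx (F := F) hP
  let D := diagram P F
  let c := colimit.cocone D
  let hc : IsColimit c := colimit.isColimit D
  let d : c.pt ⟶ F := hc.desc (cocone P F)
  have hd : ∀ i, c.ι.app i ≫ d = i.m := fun i => hc.fac (cocone P F) i
  have hdapp : ∀ i (U : X.Etale) (t : i.p.E.obj.obj (op U)),
      d.hom.app (op U) ((c.ι.app i).hom.app (op U) t) = i.m.hom.app (op U) t := fun i U t =>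
    ConcreteCategory.congr_hom (congrArg (fun q : i.p.E ⟶ F => q.hom.app (op U)) (hd i)) t
  haveI : Mono d := mono_of_affine d fun U _ s hs => by
    let Γ := sheafToPresheaf X.smallEtaleTopology AddCommGrpCat.{u + 1} ⋙
      (evaluation X.Etaleᵒᵖ AddCommGrpCat.{u + 1}).obj (op U)
    haveI : PreservesColimitsOfShape (Idx P F) Γ :=
      EtFound.preservesColimitsOfShape_sections_qcqs_ab U (EtFound.isQcqsObj_of_isAffine U) _
    have hcl := isColimitOfPreserves (forget AddCommGrpCat.{u + 1}) (isColimitOfPreserves Γ hc)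
    obtain ⟨i, t, ht⟩ := Types.jointly_surjective _ hcl s
    change (c.ι.app i).hom.app (op U) t = s at ht
    have hnt : i.p.n • t = 0 := (EtFound.killedBy_iff_nsmul _ _).2 i.p.nsmul_eq_zero U t
    obtain ⟨h, hh⟩ := exists_hom_gen (n := i.p.n) (F := i.p.E) t hnt
    have hm : h ≫ i.m = 0 := hom_ext_gen (U := U) (n := i.p.n) (by
      change i.m.hom.app (op U) (h.hom.app (op U) (gen U i.p.n)) = 0
      rw [hh, ← hdapp, ht, hs])
    haveI : NeZero i.p.n := ⟨i.p.pos.ne'⟩
    obtain ⟨k, e, he⟩ := exists_idx (F := F) (EtFound.isConstructible_cokernel h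
      (S0133.result X U (ZMod i.p.n)) i.p.isConstructible) hP (hP.coker h i.hp) (cokernel.desc h i.m hm)
    let f : i ⟶ k := ⟨cokernel.π h ≫ e.hom, by rw [Category.assoc, he, cokernel.π_desc]⟩
    have hw : (c.ι.app k).hom.app (op U) ((D.map f).hom.app (op U) t) = (c.ι.app i).hom.app (op U) t :=
      ConcreteCategory.congr_hom (congrArg (fun q : i.p.E ⟶ c.pt => q.hom.app (op U)) (c.w f)) t
    have hz : (D.map f).hom.app (op U) t = 0 := by
      rw [← hh]
      refine (ConcreteCategory.congr_hom (congrArg (fun q : EtPBC.extZeroConst U (ZMod i.p.n) ⟶ k.p.E =>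
        q.hom.app (op U)) (show h ≫ D.map f = 0 from ?_)) (gen U i.p.n))
      change h ≫ cokernel.π h ≫ e.hom = 0
      rw [cokernel.condition_assoc, zero_comp]
    rw [← ht, ← hw, hz]
    exact map_zero _
  haveI : Epi d := epi_of_locally d fun U s x => by
    obtain ⟨V, g, ⟨v, hv⟩, hfin⟩ := hF U s x
    obtain ⟨W, a, hW, w, hw⟩ := exists_affine_nhd V v
    obtain ⟨n, hn, hns⟩ := isOfFinAddOrder_iff_nsmul_eq_zero.1 hfin
    let s' : F.obj.obj (op W) := F.obj.map a.op (F.obj.map g.op s)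
    have hs' : n • s' = 0 := ((map_nsmul (F.obj.map a.op).hom n _).symm.trans (congrArg _ hns)).trans (map_zero _)
    obtain ⟨A, m, t, hA, hPA, ht⟩ := hsec W hW s' n hn hs'
    obtain ⟨i, e, he⟩ := exists_idx hA hP hPA m
    refine ⟨W, a ≫ g, w, (c.ι.app i).hom.app (op W) (e.hom.hom.app (op W) t), ?_, ?_⟩
    · rw [hdapp, op_comp, Functor.map_comp_apply]
      refine Eq.trans ?_ ht
      exact ConcreteCategory.congr_hom (congrArg (fun q : A ⟶ F => q.hom.app (op W)) he) t
    · rw [← hv, ← hw]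
      exact Scheme.Hom.comp_apply _ _ _
  haveI : IsIso (hc.desc (cocone P F)) := isIso_of_mono_of_epi d
  exact ⟨hc.ofPointIso⟩

end Groth.Agent.EtTorLib
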