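import Groth.Agent.EtFound.AbRecollement
import Groth.Agent.EtFound.Strata
import Groth.Agent.EtFound.PushExact
import Groth.Agent.EtFound.PullStalk
import Groth.Agent.SiteBase.LerayTop
import Groth.Agent.BigSiteLib.HofPushEt
import Groth.Prelude.Def_EtCore

/-! the quotients of a sheaf supported on closed subsets -/

universe u

open CategoryTheory CategoryTheory.Limits AlgebraicGeometry Opposite

namespace Groth.Agent.EtTorLib

set_option backward.isDefEq.respectTransparency false
set_option backward.isDefEq.respectTransparency.types false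

open EtFound

variable {X : Scheme.{u}}

/-- the reduced closed subscheme on a closed subset -/
noncomputable def redSub (T : TopologicalSpace.Closeds X) : Scheme.{u} :=
  (Scheme.IdealSheafData.vanishingIdeal T).subscheme

noncomputable def redSubι (T : TopologicalSpace.Closeds X) : redSub T ⟶ X :=
  (Scheme.IdealSheafData.vanishingIdeal T).subschemeι

instance (T : TopologicalSpace.Closeds X) : IsClosedImmersion (redSubι T) :=
  inferInstanceAs (IsClosedImmersion (Scheme.IdealSheafData.vanishingIdeal T).subschemeι)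

theorem range_redSubι (T : TopologicalSpace.Closeds X) : Set.range (redSubι T).base = (T : Set X) := by
  unfold redSubι
  erw [Scheme.IdealSheafData.range_subschemeι, Scheme.IdealSheafData.coe_support_vanishingIdeal]

variable (F : EtCoh.Ab X)

/-- the quotient of `F` supported on `T` -/
noncomputable def quotSheaf (T : TopologicalSpace.Closeds X) : EtCoh.Ab X :=
  (EtCoh.push (redSubι T)).obj ((EtCoh.pull (redSubι T)).obj F)

noncomputable def toQuot (T : TopologicalSpace.Closeds X) : F ⟶ quotSheaf F T :=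
  (EtCoh.pullPushAdj (redSubι T)).unit.app F

variable {F}

theorem isIso_stalk_toQuot {T : TopologicalSpace.Closeds X} {Ω : Type u} [Field Ω] [IsSepClosed Ω]
    (ξ : Spec (CommRingCat.of Ω) ⟶ X) (h : ξ.base (default : Spec (CommRingCat.of Ω)) ∈ T) :
    IsIso ((EtCoh.stalk ξ).map (toQuot F T)) :=
  isIso_stalk_unit_closed (redSubι T) F ξ (by rw [range_redSubι]; exact h)

theorem isZero_stalk_quot {T : TopologicalSpace.Closeds X} {Ω : Type u} [Field Ω] [IsSepClosed Ω]
    (ξ : Spec (CommRingCat.of Ω) ⟶ X) (h : ξ.base (default : Spec (CommRingCat.of Ω)) ∉ T) :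
    IsZero ((EtCoh.stalk ξ).obj (quotSheaf F T)) :=
  isZero_stalk_push_closed (redSubι T) _ ξ (by rw [range_redSubι]; exact h)

variable (F)

instance epi_toQuot (T : TopologicalSpace.Closeds X) : Epi (toQuot F T) := by
  refine (epi_iff_stalks _).2 fun Ω _ _ ξ => ?_
  by_cases h : ξ.base (default : Spec (CommRingCat.of Ω)) ∈ T
  · exact ((ConcreteCategory.isIso_iff_bijective _).1 (isIso_stalk_toQuot (F := F) ξ h)).2
  · exact fun b => ⟨0, @Subsingleton.elim _ (AddCommGrpCat.subsingleton_of_isZero (isZero_stalk_quot ξ h)) _ b⟩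

variable {T T' T'' : TopologicalSpace.Closeds X}

theorem kernel_toQuot (h : T ≤ T') : kernel.ι (toQuot F T') ≫ toQuot F T = 0 := by
  refine eq_of_stalks _ _ fun Ω _ _ ξ => ?_
  by_cases hT : ξ.base (default : Spec (CommRingCat.of Ω)) ∈ T
  · haveI : IsIso ((EtCoh.stalk ξ).map (toQuot F T')) := isIso_stalk_toQuot ξ (h hT)
    have h0 : (EtCoh.stalk ξ).map (kernel.ι (toQuot F T')) = 0 := by
      rw [← cancel_mono ((EtCoh.stalk ξ).map (toQuot F T')), zero_comp, ← Functor.map_comp, kernel.condition]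
      exact Functor.map_zero _ _ _
    refine ((EtCoh.stalk ξ).map_comp _ _).trans ?_
    rw [h0, zero_comp]
    exact ((EtCoh.stalk ξ).map_zero _ _).symm
  · exact (isZero_stalk_quot ξ hT).eq_of_tgt _ _

/-- restriction to a smaller closed subset -/
noncomputable def quotMap (h : T ≤ T') : quotSheaf F T' ⟶ quotSheaf F T :=
  Abelian.epiDesc (toQuot F T') (toQuot F T) (kernel_toQuot F h)

theorem toQuot_quotMap (h : T ≤ T') : toQuot F T' ≫ quotMap F h = toQuot F T :=
  Abelian.comp_epiDesc _ _ _

theorem quotMap_comp (h : T ≤ T') (h' : T' ≤ T'') : quotMap F h' ≫ quotMap F h = quotMap F (h.trans h') := by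
  rw [← cancel_epi (toQuot F T''), toQuot_quotMap, ← Category.assoc, toQuot_quotMap, toQuot_quotMap]

theorem quotMap_self : quotMap F (le_refl T) = 𝟙 _ := by
  rw [← cancel_epi (toQuot F T), toQuot_quotMap, Category.comp_id]

theorem isIso_stalk_quotMap (h : T ≤ T') {Ω : Type u} [Field Ω] [IsSepClosed Ω]
    (ξ : Spec (CommRingCat.of Ω) ⟶ X) (hξ : ξ.base (default : Spec (CommRingCat.of Ω)) ∈ T) :
    IsIso ((EtCoh.stalk ξ).map (quotMap F h)) := by
  have e : (EtCoh.stalk ξ).map (toQuot F T') ≫ (EtCoh.stalk ξ).map (quotMap F h) = (EtCoh.stalk ξ).map (toQuot F T) := by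
    rw [← Functor.map_comp, toQuot_quotMap]
  haveI := isIso_stalk_toQuot (F := F) ξ (h hξ)
  haveI := isIso_stalk_toQuot (F := F) ξ hξ
  exact IsIso.of_isIso_fac_left e

theorem bijective_stalk_quotMap (h : T ≤ T') {Ω : Type u} [Field Ω] [IsSepClosed Ω]
    (ξ : Spec (CommRingCat.of Ω) ⟶ X)
    (hξ : ξ.base (default : Spec (CommRingCat.of Ω)) ∈ T ∨ ξ.base (default : Spec (CommRingCat.of Ω)) ∉ T') :
    IsIso ((EtCoh.stalk ξ).map (quotMap F h)) := by
  rcases hξ with hξ | hξ
  · exact isIso_stalk_quotMap F h ξ hξ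
  · exact (isZero_stalk_quot ξ hξ).isIso (isZero_stalk_quot ξ fun h' => hξ (h h')) _

theorem isZero_Rpush_closedImmersion {Z : Scheme.{u}} (i : Z ⟶ X) [IsClosedImmersion i] (G : EtCoh.Ab Z) (q : ℕ)
    (hq : 0 < q) : IsZero ((EtCoh.Rpush i q).obj G) := by
  obtain ⟨n, rfl⟩ : ∃ n, q = n + 1 := ⟨q - 1, by omega⟩
  haveI := EtFound.push_preservesFiniteLimits i
  haveI := EtFound.push_preservesFiniteColimits i
  exact LerayDegen.isZero_rightDerived_of_exact (EtCoh.push i) G n

theorem nonempty_H_quot_const (M : Type) [AddCommGroup M] (T : TopologicalSpace.Closeds X) (q : ℕ) :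
    Nonempty (EtCoh.H X (quotSheaf (EtCoh.const X M) T) q ≃+ EtCoh.H (redSub T) (EtCoh.const (redSub T) M) q) := by
  haveI := EtFound.pull_preservesFiniteLimits (redSubι T)
  exact ⟨(AddEquiv.ofBijective (EtLim.HofPush (redSubι T) ((EtCoh.pull (redSubι T)).obj (EtCoh.const X M)) q)
    (BigSiteLib.hofPush_bijective (redSubι T) _
      (fun p hp => isZero_Rpush_closedImmersion (redSubι T) _ p hp) q)).trans
    ((Abelian.extFunctorObj _ q).mapIso (EtCore.pullConst (redSubι T) M)).addCommGroupIsoToAddEquiv⟩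

end Groth.Agent.EtTorLib
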