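import Groth.Agent.EtTorLib.ConstSections
import Groth.Agent.EtFound.CoprodSections

/-! sections of constant sheaves are piecewise constant -/

universe u

open CategoryTheory CategoryTheory.Limits AlgebraicGeometry Opposite

namespace Groth.Agent.EtTorLib

set_option backward.isDefEq.respectTransparency.types false

open EtFound

variable {X : Scheme.{u}} (M : Type) [AddCommGroup M]

theorem exists_partition (V : X.Etale) (s : (EtCoh.const X M).obj.obj (op V)) :
    ∃ O : ULift.{u + 1} M → V.left.Opens, (∀ v, ∃ m, v ∈ O m) ∧ (∀ m m' v, v ∈ O m → v ∈ O m' → m = m') ∧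
      ∀ m (W : X.Etale) (k : W ⟶ V), Set.range k.left.base ⊆ O m →
        (EtCoh.const X M).obj.map k.op s = constSect M W m := by
  let F := EtCoh.const X M
  let S : ULift.{u + 1} M → Set V.left := fun m =>
    {w | ∃ (W : X.Etale) (k : W ⟶ V), F.obj.map k.op s = F.obj.map k.op (constSect M V m) ∧ w ∈ Set.range k.left.base}
  have hopen : ∀ m, IsOpen (S m) := fun m => isOpen_iff_forall_mem_open.2 fun w ⟨W, k, hk, hw⟩ => by
    have := etale_left k
    exact ⟨_, fun w' hw' => ⟨W, k, hk, hw'⟩, k.left.isOpenMap.isOpen_range, hw⟩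
  refine ⟨fun m => ⟨S m, hopen m⟩, fun w => ?_,
    fun m m' w ⟨W, k, hk, y, hy⟩ ⟨W', k', hk', y', hy'⟩ => ?_, fun m W k hkm => ?_⟩
  · obtain ⟨k, _, _, ζ, z, hz⟩ := exists_algClosed_point V w
    obtain ⟨m, hm⟩ := (constSect_germ_bijective M V z).2 ((Scheme.pointSmallEtale ζ).toPresheafFiber V z F.obj s)
    obtain ⟨W, a, z', hz', ha⟩ := ((Scheme.pointSmallEtale ζ).toPresheafFiber_eq_iff' _ _ _ _).1 hm
    refine ⟨m, W, a, ha.symm, (z'.left : Spec (CommRingCat.of k) ⟶ W.left).base (default : Spec (CommRingCat.of k)), ?_⟩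
    rw [← hz, ← hz']
    exact (Scheme.Hom.comp_apply _ _ _).symm
  · obtain ⟨Ω', _, _, ζ, z, hz⟩ := exists_algClosed_point W y
    let t := (Scheme.pointSmallEtale ζ).fiber.map k z
    obtain ⟨z', hz', -⟩ := exists_lift_point k' t y' (by
      rw [hy', ← hy, ← hz]
      exact (Scheme.Hom.comp_apply _ _ _).symm)
    refine (constSect_germ_bijective M V t).1 ?_
    show (Scheme.pointSmallEtale ζ).toPresheafFiber _ t F.obj (constSect M V m) =
      (Scheme.pointSmallEtale ζ).toPresheafFiber _ t F.obj (constSect M V m')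
    refine Eq.trans (b := (Scheme.pointSmallEtale ζ).toPresheafFiber _ t F.obj s) ?_ ?_
    · rw [← GrothendieckTopology.Point.toPresheafFiber_w_apply, ← GrothendieckTopology.Point.toPresheafFiber_w_apply]
      exact congrArg _ hk.symm
    · rw [← hz', ← GrothendieckTopology.Point.toPresheafFiber_w_apply, ← GrothendieckTopology.Point.toPresheafFiber_w_apply]
      exact congrArg _ hk'
  · refine (((isSheaf_iff_isSheaf_of_type _ _).1
      ((sheafCompose X.smallEtaleTopology (forget AddCommGrpCat.{u + 1})).obj F).property).isSeparated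
      _ (equalizerSieve_mem_of_germs F.obj W _ _ fun Ω _ _ ζ z => ?_)).ext fun _ _ hk => hk
    let t := (Scheme.pointSmallEtale ζ).fiber.map k z
    obtain ⟨W', k', hk', y, hy⟩ := hkm (Set.mem_range_self
      ((z.left : Spec (CommRingCat.of Ω) ⟶ W.left).base (default : Spec (CommRingCat.of Ω))))
    obtain ⟨z', hz', -⟩ := exists_lift_point k' t y (hy.trans (Scheme.Hom.comp_apply _ _ _).symm)
    refine ((Scheme.pointSmallEtale ζ).toPresheafFiber_w_apply k z F.obj s).trans ?_
    rw [← constSect_map M k m]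
    refine Eq.trans ?_ ((Scheme.pointSmallEtale ζ).toPresheafFiber_w_apply k z F.obj (constSect M V m)).symm
    show (Scheme.pointSmallEtale ζ).toPresheafFiber _ t F.obj s = (Scheme.pointSmallEtale ζ).toPresheafFiber _ t F.obj _
    rw [← hz', ← GrothendieckTopology.Point.toPresheafFiber_w_apply, ← GrothendieckTopology.Point.toPresheafFiber_w_apply]
    exact congrArg _ hk'

/-- a map to a constant sheaf of a cyclic group is onto on sections as soon as it reaches the generator -/
theorem surjective_of_mem_one {n : ℕ} {G : EtCoh.Ab X} (p : G ⟶ EtCoh.const X (ZMod n)) (V : X.Etale)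
    (t : G.obj.obj (op V)) (ht : p.hom.app (op V) t = constSect (ZMod n) V ⟨1⟩) :
    Function.Surjective (p.hom.app (op V)) := fun s => by
  obtain ⟨O, hc, hd, hO⟩ := exists_partition (ZMod n) V s
  haveI : AlgebraicGeometry.Etale V.hom := V.prop
  let Z : ULift.{u + 1} (ZMod n) → X.Etale := fun m => Scheme.Etale.mk ((O m).ι ≫ V.hom)
  let j : ∀ m, Z m ⟶ V := fun m => MorphismProperty.Over.homMk (O m).ι rfl
  haveI : ∀ m, Mono (j m) := fun m => (Scheme.Etale.forget X ⋙ CategoryTheory.Over.forget X).mono_of_mono_map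
    (inferInstanceAs (Mono (O m).ι))
  choose k hk using fun m : ULift.{u + 1} (ZMod n) => ZMod.intCast_surjective m.down
  obtain ⟨x, hx⟩ := (bijective_sections_of_disjoint G Z j (fun v => (hc v).imp fun m hm => ⟨⟨v, hm⟩, rfl⟩)
    (fun m m' hmm a b e => hmm (hd m m' a.1 a.2 (show a.1 ∈ O m' from (show a.1 = b.1 from e) ▸ b.2)))).2
      (fun m => k m • G.obj.map (j m).op t)
  refine ⟨x, (bijective_sections_of_disjoint (EtCoh.const X (ZMod n)) Z j
    (fun v => (hc v).imp fun m hm => ⟨⟨v, hm⟩, rfl⟩)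
    (fun m m' hmm a b e => hmm (hd m m' a.1 a.2 (show a.1 ∈ O m' from (show a.1 = b.1 from e) ▸ b.2)))).1
      (funext fun m => ?_)⟩
  show (EtCoh.const X (ZMod n)).obj.map (j m).op (p.hom.app (op V) x) = (EtCoh.const X (ZMod n)).obj.map (j m).op s
  rw [hO m (Z m) (j m) (by rintro _ ⟨a, rfl⟩; exact a.2)]
  refine (NatTrans.naturality_apply p.hom (j m).op x).symm.trans ?_
  rw [show G.obj.map (j m).op x = k m • G.obj.map (j m).op t from congrFun hx m, map_zsmul]
  rw [show p.hom.app (op (Z m)) (G.obj.map (j m).op t) = constSect (ZMod n) (Z m) ⟨1⟩ from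
    (NatTrans.naturality_apply p.hom (j m).op t).trans ((congrArg _ ht).trans (constSect_map _ _ _)), ← map_zsmul]
  refine congrArg _ (ULift.ext _ _ ?_)
  show k m • (1 : ZMod n) = m.down
  rw [zsmul_one, hk]

end Groth.Agent.EtTorLib
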