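import Groth.Agent.MorLib.WeightDeg
import Groth.Agent.EtTorLib.Sections
import Groth.Agent.EtFound.Crit
import Groth.Agent.UnibEtale.Comp

/-! étale morphisms are finite over a constructible partition of the base -/

universe u

open CategoryTheory CategoryTheory.Limits AlgebraicGeometry Topology

namespace Groth.Agent.EtTorLib

set_option backward.isDefEq.respectTransparency.types false
set_option linter.style.haveILetI false

open MorLib MorLib.WT

variable {U X : Scheme.{u}}

theorem exists_cover_isFinite_affine [CompactSpace U] [QuasiSeparatedSpace U] [IsAffine X] (j : U ⟶ X) [Etale j] :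
    ∃ (r : ℕ) (E : Fin r → Set X), (∀ k, IsConstructible (E k)) ∧ (⋃ k, E k) = Set.univ ∧
      ∀ k {T : Scheme.{u}} (g : T ⟶ X), (∀ t : T, g.base t ∈ E k) → IsFinite (pullback.snd j g) := by
  classical
  obtain ⟨m, A, hA, -, hcov⟩ := exists_affine_cover (isCompact_univ (X := U)) isOpen_univ subset_rfl
  let W : Fin m × Fin m → U.Opens := fun p => A p.1 ⊓ A p.2
  have hWc : ∀ p, CompactSpace (W p).toScheme := fun p => isCompact_iff_compactSpace.1
    (QuasiSeparatedSpace.inter_isCompact _ _ (A p.1).2 (hA p.1).isCompact (A p.2).2 (hA p.2).isCompact)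
  have hsep : ∀ p, IsSeparated ((W p).ι ≫ j) := fun p => by
    haveI : IsAffine (A p.1).toScheme := hA p.1
    haveI : IsAffineHom ((A p.1).ι ≫ j) := isAffineHom_of_isAffine _
    rw [← U.homOfLE_ι (show W p ≤ A p.1 from inf_le_left), Category.assoc]
    infer_instance
  haveI : ∀ p, QuasiCompact ((W p).ι ≫ j) := fun p => quasiCompact_of_compactSpace _
  haveI : ∀ p, LocallyQuasiFinite ((W p).ι ≫ j) := fun p => UnibEtale.locallyQuasiFinite_of_formallyUnramified _
  have hfin : ∀ p (s : X), (((W p).ι ≫ j).base ⁻¹' {s}).Finite := fun p s => ((W p).ι ≫ j).finite_preimage_singleton s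
  let d : Fin m × Fin m → X → ℕ := fun p => WT.deg ((W p).ι ≫ j)
  let E : X → Set X := fun x => ⋂ p, {y | d p y = d p x}
  have hE : ∀ x, IsConstructible (E x) := fun x => IsConstructible.iInter fun p => by
    haveI := hsep p
    have e : {y | d p y = d p x} =
        {y : X | MoreMor.fibreIntegral ((W p).ι ≫ j) (wt ((W p).ι ≫ j)) y = (d p x : ℤ)} := by
      ext y
      simp [d, ← WT.deg_cast (hfin p)]
    rw [e]
    exact (isLocallyConstructible_fibreIntegral (isWeighting_wt _) _).isConstructible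
  obtain ⟨t, ht⟩ := EtFound.exists_finite_cover E hE fun x => ⟨x, Set.mem_iInter.2 fun p => rfl⟩
  refine ⟨t.card, fun k => E (t.equivFin.symm k).1, fun k => hE _, Set.eq_univ_of_forall fun x => ?_, fun k T g hg => ?_⟩
  · obtain ⟨z, hz, hxz⟩ := ht x
    exact Set.mem_iUnion.2 ⟨t.equivFin ⟨z, hz⟩, by simpa using hxz⟩
  let q : ∀ p, pullback ((W p).ι ≫ j) g ⟶ T := fun p => pullback.snd _ _
  have hq : ∀ p, IsFinite (q p) := fun p => by
    haveI := hsep p
    exact ((WT.isFinLocFreeOfDeg_iff (hfin p) g (d p (t.equivFin.symm k).1)).2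
      fun s => Set.mem_iInter.1 (hg s) p).1.1
  let π : pullback j g ⟶ T := pullback.snd j g
  let a : ∀ p, pullback ((W p).ι ≫ j) g ⟶ pullback j g := fun p =>
    pullback.map _ _ j g (W p).ι (𝟙 T) (𝟙 X) (by simp) (by simp)
  haveI : ∀ p, IsOpenImmersion (a p) := fun p => inferInstance
  have ha : ∀ p, a p ≫ π = q p := fun p => (pullback.lift_snd _ _ _).trans (Category.comp_id _)
  have har : ∀ p x, x ∈ Set.range (a p).base ↔ (pullback.fst j g).base x ∈ W p := fun p x => by
    rw [Scheme.Pullback.range_map]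
    simp
  have hcov' : ∀ x : ↥(pullback j g), ∃ i, x ∈ Set.range (a (i, i)).base := fun x => by
    obtain ⟨i, hi⟩ := hcov _ (Set.mem_univ ((pullback.fst j g).base x))
    exact ⟨i, (har _ x).2 ⟨hi, hi⟩⟩
  haveI : UniversallyClosed π := universallyClosed_of_cover π (fun i : Fin m => (a (i, i)).opensRange)
    (fun x => (hcov' x)) fun i => by
      rw [← (a (i, i)).isoOpensRange_inv_comp, Category.assoc, ha]
      haveI := hq (i, i)
      infer_instance
  haveI : IsSeparated π := by
    refine ⟨IsClosedImmersion.of_isPreimmersion (pullback.diagonal π) ⟨isOpen_iff_forall_mem_open.2 fun w hw => ?_⟩⟩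
    obtain ⟨i, hi⟩ := hcov' ((pullback.fst π π).base w)
    obtain ⟨l, hl⟩ := hcov' ((pullback.snd π π).base w)
    let mm : pullback (q (i, i)) (q (l, l)) ⟶ pullback π π :=
      pullback.map _ _ π π (a (i, i)) (a (l, l)) (𝟙 T) (by rw [ha, Category.comp_id]) (by rw [ha, Category.comp_id])
    haveI : IsOpenImmersion mm := inferInstance
    let b₁ : pullback ((W (i, l)).ι ≫ j) g ⟶ pullback ((W (i, i)).ι ≫ j) g :=
      pullback.map _ _ _ _ (U.homOfLE (show W (i, l) ≤ W (i, i) from le_inf inf_le_left inf_le_left)) (𝟙 T) (𝟙 X)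
        (by simp) (by simp)
    let b₂ : pullback ((W (i, l)).ι ≫ j) g ⟶ pullback ((W (l, l)).ι ≫ j) g :=
      pullback.map _ _ _ _ (U.homOfLE (show W (i, l) ≤ W (l, l) from le_inf inf_le_right inf_le_right)) (𝟙 T) (𝟙 X)
        (by simp) (by simp)
    have haf : ∀ p, a p ≫ pullback.fst j g = pullback.fst ((W p).ι ≫ j) g ≫ (W p).ι := fun p =>
      pullback.lift_fst _ _ _
    have hb₁f : b₁ ≫ pullback.fst ((W (i, i)).ι ≫ j) g = pullback.fst _ _ ≫ U.homOfLE _ := pullback.lift_fst _ _ _
    have hb₂f : b₂ ≫ pullback.fst ((W (l, l)).ι ≫ j) g = pullback.fst _ _ ≫ U.homOfLE _ := pullback.lift_fst _ _ _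
    have hb₁q : b₁ ≫ q (i, i) = q (i, l) := (pullback.lift_snd _ _ _).trans (Category.comp_id _)
    have hb₂q : b₂ ≫ q (l, l) = q (i, l) := (pullback.lift_snd _ _ _).trans (Category.comp_id _)
    have hb₁ : b₁ ≫ a (i, i) = a (i, l) := pullback.hom_ext
      (by rw [Category.assoc, haf, ← Category.assoc, hb₁f, Category.assoc, U.homOfLE_ι, haf])
      (by rw [Category.assoc, ha, hb₁q, ha])
    have hb₂ : b₂ ≫ a (l, l) = a (i, l) := pullback.hom_ext
      (by rw [Category.assoc, haf, ← Category.assoc, hb₂f, Category.assoc, U.homOfLE_ι, haf])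
      (by rw [Category.assoc, ha, hb₂q, ha])
    let δ : pullback ((W (i, l)).ι ≫ j) g ⟶ pullback (q (i, i)) (q (l, l)) :=
      pullback.lift b₁ b₂ (hb₁q.trans hb₂q.symm)
    have hmf : mm ≫ pullback.fst π π = pullback.fst (q (i, i)) (q (l, l)) ≫ a (i, i) := pullback.lift_fst _ _ _
    have hms : mm ≫ pullback.snd π π = pullback.snd (q (i, i)) (q (l, l)) ≫ a (l, l) := pullback.lift_snd _ _ _
    have hδ : δ ≫ mm = a (i, l) ≫ pullback.diagonal π := pullback.hom_ext
      (by rw [Category.assoc, hmf, ← Category.assoc, pullback.lift_fst, hb₁, Category.assoc,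
        pullback.diagonal_fst, Category.comp_id])
      (by rw [Category.assoc, hms, ← Category.assoc, pullback.lift_snd, hb₂, Category.assoc,
        pullback.diagonal_snd, Category.comp_id])
    haveI := hq (i, i)
    haveI := hq (l, l)
    haveI : IsFinite (δ ≫ pullback.fst (q (i, i)) (q (l, l)) ≫ q (i, i)) := by
      have e : δ ≫ pullback.fst (q (i, i)) (q (l, l)) ≫ q (i, i) = q (i, l) := by
        rw [← Category.assoc, pullback.lift_fst, hb₁q]
      rw [e]
      exact hq (i, l)
    haveI : IsFinite δ := IsFinite.of_comp δ (pullback.fst (q (i, i)) (q (l, l)) ≫ q (i, i))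
    have hpre : mm.base ⁻¹' Set.range (pullback.diagonal π).base ⊆ Set.range δ.base := by
      rintro z ⟨p, hp⟩
      have h1 : p = (pullback.fst π π).base (mm.base z) := by
        rw [← hp, ← Scheme.Hom.comp_apply, pullback.diagonal_fst]; rfl
      have h2 : p = (pullback.snd π π).base (mm.base z) := by
        rw [← hp, ← Scheme.Hom.comp_apply, pullback.diagonal_snd]; rfl
      have hpi : (pullback.fst j g).base p ∈ W (i, i) := (har (i, i) p).1 ⟨(pullback.fst (q (i, i)) (q (l, l))).base z, by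
        rw [h1, ← Scheme.Hom.comp_apply, ← Scheme.Hom.comp_apply]
        exact congrArg (fun φ : pullback (q (i, i)) (q (l, l)) ⟶ pullback j g => φ.base z)
          (pullback.lift_fst _ _ _).symm⟩
      have hpl : (pullback.fst j g).base p ∈ W (l, l) := (har (l, l) p).1 ⟨(pullback.snd (q (i, i)) (q (l, l))).base z, by
        rw [h2, ← Scheme.Hom.comp_apply, ← Scheme.Hom.comp_apply]
        exact congrArg (fun φ : pullback (q (i, i)) (q (l, l)) ⟶ pullback j g => φ.base z)
          (pullback.lift_snd _ _ _).symm⟩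
      obtain ⟨y, hy⟩ := (har (i, l) p).2 ⟨hpi.1, hpl.1⟩
      refine ⟨y, mm.isOpenEmbedding.injective ?_⟩
      rw [← Scheme.Hom.comp_apply, hδ, Scheme.Hom.comp_apply, hy, hp]
    have hw' : w ∈ Set.range mm.base := by
      rw [Scheme.Pullback.range_map]
      exact ⟨hi, hl⟩
    obtain ⟨z, rfl⟩ := hw'
    refine ⟨mm.base '' (Set.range δ.base)ᶜ, ?_, mm.isOpenEmbedding.isOpenMap _ δ.isClosedMap.isClosed_range.isOpen_compl,
      z, ?_, rfl⟩
    · rintro _ ⟨z', hz', rfl⟩ hmem
      exact hz' (hpre hmem)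
    · rintro ⟨y, rfl⟩
      exact hw ⟨(a (i, l)).base y, by rw [← Scheme.Hom.comp_apply, ← hδ, Scheme.Hom.comp_apply]⟩
  haveI : LocallyOfFiniteType π := MorphismProperty.pullback_snd _ _ inferInstance
  haveI : LocallyQuasiFinite j := UnibEtale.locallyQuasiFinite_of_formallyUnramified _
  haveI : LocallyQuasiFinite π := MorphismProperty.pullback_snd _ _ inferInstance
  haveI : IsProper π := ⟨⟩
  exact IsFinite.of_isProper_of_locallyQuasiFinite π

theorem exists_cover_isFinite [CompactSpace U] [QuasiSeparatedSpace U] [CompactSpace X] [QuasiSeparatedSpace X]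
    (j : U ⟶ X) [Etale j] :
    ∃ (r : ℕ) (E : Fin r → Set X), (∀ k, IsConstructible (E k)) ∧ (⋃ k, E k) = Set.univ ∧
      ∀ k {T : Scheme.{u}} (g : T ⟶ X), (∀ t : T, g.base t ∈ E k) → IsFinite (pullback.snd j g) := by
  classical
  obtain ⟨m, V, hV, -, hcov⟩ := exists_affine_cover (isCompact_univ (X := X)) isOpen_univ subset_rfl
  haveI : QuasiCompact j := quasiCompact_of_compactSpace j
  have key : ∀ l : Fin m, ∃ (r : ℕ) (E : Fin r → Set (V l).toScheme), (∀ k, IsConstructible (E k)) ∧
      (⋃ k, E k) = Set.univ ∧ ∀ k {T : Scheme.{u}} (g : T ⟶ (V l).toScheme), (∀ t : T, g.base t ∈ E k) →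
        IsFinite (pullback.snd (j ∣_ V l) g) := fun l => by
    haveI : IsAffine (V l).toScheme := hV l
    haveI : CompactSpace (j ⁻¹ᵁ V l).toScheme :=
      isCompact_iff_compactSpace.1 (j.isCompact_preimage (hV l).isCompact)
    haveI : QuasiSeparatedSpace (j ⁻¹ᵁ V l).toScheme := QuasiSeparatedSpace.of_isOpenEmbedding (j ⁻¹ᵁ V l).ι.isOpenEmbedding
    exact exists_cover_isFinite_affine (j ∣_ V l)
  choose r E hE hu hT using key
  let κ := Σ l, Fin (r l)
  let e : Fin (Fintype.card κ) ≃ κ := (Fintype.equivFin κ).symm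
  refine ⟨_, fun a => (V (e a).1).ι.base '' E (e a).1 (e a).2, fun a => ?_, Set.eq_univ_of_forall fun x => ?_,
    fun a T g hg => ?_⟩
  · refine (hE _ _).image_of_isOpenEmbedding (V (e a).1).ι.isOpenEmbedding ?_
    rw [(V (e a).1).range_ι]
    exact (hV _).isCompact.isRetrocompact (V (e a).1).2
  · obtain ⟨l, hl⟩ := hcov x (Set.mem_univ x)
    obtain ⟨k, hk⟩ := Set.mem_iUnion.1 ((hu l).ge (Set.mem_univ ⟨x, hl⟩))
    obtain ⟨a, ha⟩ := e.surjective ⟨l, k⟩
    refine Set.mem_iUnion.2 ⟨a, ?_⟩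
    show x ∈ (V (e a).1).ι.base '' E (e a).1 (e a).2
    rw [ha]
    exact ⟨⟨x, hl⟩, hk, rfl⟩
  · obtain ⟨⟨l, k⟩, hlk⟩ : ∃ p, e a = p := ⟨_, rfl⟩
    replace hg : ∀ t : T, g.base t ∈ (V l).ι.base '' E l k := fun t => by
      have := hg t
      beta_reduce at this
      rw [hlk] at this
      exact this
    let g' := IsOpenImmersion.lift (V l).ι g (by
      rintro _ ⟨t, rfl⟩
      obtain ⟨y, -, hy⟩ := hg t
      exact ⟨y, hy⟩)
    have hg' : g' ≫ (V l).ι = g := IsOpenImmersion.lift_fac _ _ _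
    have hmem : ∀ t, g'.base t ∈ E l k := fun t => by
      obtain ⟨y, hy, hyt⟩ := hg t
      have : g'.base t = y := (V l).ι.isOpenEmbedding.injective
        (((Scheme.Hom.comp_apply _ _ _).symm.trans (congrArg (fun q : T ⟶ X => q.base t) hg')).trans hyt.symm)
      rwa [this]
    haveI : IsFinite (pullback.snd (j ∣_ V l) g') := hT l k g' hmem
    have hP : IsPullback (pullback.fst (j ∣_ V l) g' ≫ (j ⁻¹ᵁ V l).ι) (pullback.snd (j ∣_ V l) g') j g :=
      hg' ▸ ((IsPullback.of_hasPullback _ g').paste_horiz (isPullback_morphismRestrict j (V l)).flip)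
    rw [← hP.isoPullback_inv_snd]
    infer_instance

end Groth.Agent.EtTorLib
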