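import Groth.Agent.EtFound.Cospec
import Groth.Agent.EtFound.DescentConstr

/-! finite local constancy descends along flat surjective morphisms -/

universe u

open CategoryTheory CategoryTheory.Limits AlgebraicGeometry Opposite Topology

namespace Groth.Agent.EtTorLib

set_option backward.isDefEq.respectTransparency.types false
set_option linter.style.haveILetI false

open EtFound

variable {W V : Scheme.{u}} (q : W ⟶ V)

/-- germ bijectivity propagates to generisations after a flat surjective base change -/
theorem bijective_germ_of_generisation [Flat q] [Surjective q] {F : EtCoh.Ab V}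
    (h : EtCoh.IsFiniteLocallyConstant ((EtCoh.pull q).obj F)) {U : V.Etale} (S : AddSubgroup (F.obj.obj (op U)))
    [Finite S] {k : Type u} [Field k] [IsSepClosed k] {η : Spec (CommRingCat.of k) ⟶ V}
    (z : (Scheme.pointSmallEtale η).fiber.obj U) {k' : Type u} [Field k'] [IsSepClosed k']
    {η' : Spec (CommRingCat.of k') ⟶ V} (z' : (Scheme.pointSmallEtale η').fiber.obj U) (hz : ptOf z' ⤳ ptOf z)
    (hb : Function.Bijective fun s : S => (Scheme.pointSmallEtale η).toPresheafFiber U z F.obj s.1) :
    Function.Bijective fun s : S => (Scheme.pointSmallEtale η').toPresheafFiber U z' F.obj s.1 := by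
  let P := (EtCoh.bc q).obj U
  let r : P.left ⟶ U.left := pullback.fst U.hom q
  haveI : Flat r := MorphismProperty.pullback_fst _ _ ‹Flat q›
  haveI : Surjective r := MorphismProperty.pullback_fst _ _ ‹Surjective q›
  obtain ⟨p, hp⟩ := r.surjective (ptOf z)
  obtain ⟨p', hp', hpp'⟩ := Flat.generalizingMap r (hp ▸ hz : ptOf z' ⤳ r.base p)
  obtain ⟨A, _, _, ζ, w, hw⟩ := exists_algClosed_point P p
  obtain ⟨B, _, _, θ, w', hw'⟩ := exists_algClosed_point P p'
  obtain ⟨φ, hφw⟩ := exists_pointHom ζ θ w w'
    ((specializes_of_eq hw').trans (hp'.trans (specializes_of_eq hw.symm)))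
  have hpt : ∀ {L : Type u} [Field L] [IsSepClosed L] {α : Spec (CommRingCat.of L) ⟶ W}
      (v : (Scheme.pointSmallEtale α).fiber.obj P), ptOf (bcFiberEquiv q α U v) = r.base (ptOf v) :=
    fun v => Scheme.Hom.comp_apply _ _ _
  let s' : S → ((EtCoh.pull q).obj F).obj.obj (op P) := fun s =>
    (((EtCoh.bc q).sheafAdjunctionContinuous AddCommGrpCat.{u + 1} V.smallEtaleTopology W.smallEtaleTopology).unit.app
      F).hom.app (op U) s.1
  have htr : ∀ {L : Type u} [Field L] [IsSepClosed L] (α : Spec (CommRingCat.of L) ⟶ W)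
      (v : (Scheme.pointSmallEtale α).fiber.obj P),
      (Function.Bijective fun s : S =>
          (Scheme.pointSmallEtale (α ≫ q)).toPresheafFiber U (bcFiberEquiv q α U v) F.obj s.1) ↔
        Function.Bijective fun s : S => (Scheme.pointSmallEtale α).toPresheafFiber P v ((EtCoh.pull q).obj F).obj (s' s) := by
    intro L _ _ α v
    let i := ((sheafFiberPullIso (A := AddCommGrpCat.{u + 1}) q α).app F).symm
    have hi : Function.Bijective i.hom := i.addCommGroupIsoToAddEquiv.bijective
    refine (Function.Bijective.of_comp_iff' hi _).symm.trans (iff_of_eq (congrArg Function.Bijective (funext fun s => ?_)))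
    exact ConcreteCategory.congr_hom (sheafFiberPullIso_germ q α F U v) s.1
  have h1 := (htr ζ w).1 (bijective_germ_congr S z _ ((hp.symm.trans (congrArg r.base hw.symm)).trans (hpt w).symm) hb)
  have h2 : Function.Bijective fun s : S =>
      (Scheme.pointSmallEtale θ).toPresheafFiber P w' ((EtCoh.pull q).obj F).obj (s' s) := by
    refine Eq.mp (congrArg Function.Bijective (funext fun s => ?_)) ((bijective_sheafFiber h φ).comp h1)
    rw [← hφw]
    exact sheafFiber_germ φ ((EtCoh.pull q).obj F) w (s' s)
  exact bijective_germ_congr S _ z' (((hpt w').trans (congrArg r.base hw')).trans hpp') ((htr θ w').2 h2)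

theorem isFiniteLocallyConstant_of_pull [Flat q] [Surjective q] [IsLocallyNoetherian V] {F : EtCoh.Ab V}
    (h : EtCoh.IsFiniteLocallyConstant ((EtCoh.pull q).obj F)) : EtCoh.IsFiniteLocallyConstant F := by
  have hfin : ∀ (Ω : Type u) [Field Ω] [IsSepClosed Ω] (ξ : Spec (CommRingCat.of Ω) ⟶ V),
      Finite ((EtCoh.stalk ξ).obj F) := fun Ω _ _ ξ => by
    obtain ⟨k, _, _, z, e, he⟩ := exists_lift_extension q ξ (q.surjective _)
    obtain ⟨U, p, hp, S, hS⟩ := (isFiniteLocallyConstant_iff _).1 h (z.base (default : Spec (CommRingCat.of k)))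
    obtain ⟨v, -⟩ := Scheme.pointSmallEtaleFiberObjToPreimage_surjective z rfl U ⟨p, hp⟩
    have := hS.1
    have : Finite ((EtCoh.stalk z).obj ((EtCoh.pull q).obj F)) := Finite.of_surjective _ (hS.bijective v).2
    obtain ⟨c⟩ := nonempty_stalk_equiv F (z ≫ q) ξ (by
      rw [← he]
      exact (Scheme.Hom.comp_apply _ _ _).trans (congrArg ξ.base
        (Subsingleton.elim (α := Spec (CommRingCat.of Ω)) _ _)))
    exact @Finite.of_equiv _ _ this (((stalkPullIso q z).app F).addCommGroupIsoToAddEquiv.toEquiv.trans c)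
  refine isFiniteLocallyConstant_of_bijective hfin fun Ω Ω' _ _ _ _ ξ ξ' φ => ?_
  have := hfin Ω ξ
  obtain ⟨U, u, l, hl⟩ := exists_stalk_sections (F := F) ξ
  have : Finite l.range := Finite.of_surjective l.rangeRestrict l.rangeRestrict_surjective
  have hu : Function.Bijective fun s : l.range => (Scheme.pointSmallEtale ξ).toPresheafFiber U u F.obj s.1 :=
    ⟨fun ⟨_, a, rfl⟩ ⟨_, b, rfl⟩ e => Subtype.ext (congrArg l ((hl a).symm.trans (e.trans (hl b)))),
      fun c => ⟨⟨l c, c, rfl⟩, hl c⟩⟩
  refine (Function.Bijective.of_comp_iff _ hu).1 ?_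
  refine Eq.mp (congrArg Function.Bijective (funext fun s => (sheafFiber_germ φ F u s.1).symm)) ?_
  exact bijective_germ_of_generisation q h l.range u (φ.hom.app U u) (ptOf_specializes φ u) hu

end Groth.Agent.EtTorLib
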