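import Groth.Agent.EtFound.Strata
import Mathlib.Data.Fin.Tuple.Sort

/-! partitions into pieces refine to chains of opens -/

universe u

open CategoryTheory CategoryTheory.Limits AlgebraicGeometry Opposite Topology

namespace Groth.Agent.EtTorLib

set_option backward.isDefEq.respectTransparency.types false

/-- finitely many constructible sets covering the space are refined by a chain of open constructible sets -/
theorem exists_chain {T : Type*} [TopologicalSpace T] {κ : Type*} [Finite κ] (E : κ → Set T)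
    (hE : ∀ k, IsConstructible (E k)) (hu : (⋃ k, E k) = Set.univ) :
    ∃ (N : ℕ) (U : Fin (N + 1) → Set T), (∀ i, IsOpen (U i)) ∧ (∀ i, IsConstructible (U i)) ∧
      U 0 = ∅ ∧ U (Fin.last N) = Set.univ ∧ (∀ i : Fin N, U i.castSucc ⊆ U i.succ) ∧
      ∀ i : Fin N, (U i.succ ∩ (U i.castSucc)ᶜ).Nonempty → ∃ k, U i.succ ∩ (U i.castSucc)ᶜ ⊆ E k := by
  classical
  choose S hS hS1 hS2 using fun k => EtFound.exists_opens_determining (hE k)
  have hfin : (⋃ k, S k).Finite := Set.finite_iUnion hS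
  let s := hfin.toFinset
  have hs : ∀ U ∈ s, IsOpen U ∧ IsRetrocompact U := fun U hU => by
    obtain ⟨k, hk⟩ := Set.mem_iUnion.1 (hfin.mem_toFinset.1 hU)
    exact hS1 k U hk
  let N := Fintype.card ↥s.powerset
  let e : Fin N ≃ ↥s.powerset := (Fintype.equivFin ↥s.powerset).symm
  let f : Fin N → ℕ := fun i => s.card - (e i).1.card
  let σ := Tuple.sort f
  let O : Fin N → Set T := fun i => ⋂ U : {U // U ∈ (e (σ i)).1}, U.1
  have hmemO : ∀ i x, x ∈ O i ↔ ∀ U ∈ (e (σ i)).1, x ∈ U := fun i x =>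
    ⟨fun h U hU => Set.mem_iInter.1 h ⟨U, hU⟩, fun h => Set.mem_iInter.2 fun U => h U.1 U.2⟩
  let U : Fin (N + 1) → Set T := fun i => ⋃ l : {l : Fin N // l.val < i.val}, O l.1
  have hmemU : ∀ i x, x ∈ U i ↔ ∃ l : Fin N, l.val < i.val ∧ x ∈ O l := fun i x =>
    ⟨fun h => by obtain ⟨l, hl⟩ := Set.mem_iUnion.1 h; exact ⟨l.1, l.2, hl⟩,
      fun ⟨l, hl, hx⟩ => Set.mem_iUnion.2 ⟨⟨l, hl⟩, hx⟩⟩
  have hsub : ∀ l, ∀ V ∈ (e (σ l)).1, V ∈ s := fun l V hV => Finset.mem_powerset.1 (e (σ l)).2 hV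
  -- the index of the set of opens containing a point
  have hidx : ∀ x : T, ∃ l, (e (σ l)).1 = s.filter (x ∈ ·) := fun x =>
    ⟨σ.symm (e.symm ⟨s.filter (x ∈ ·), Finset.mem_powerset.2 (Finset.filter_subset _ _)⟩), by simp⟩
  have hown : ∀ (x : T) (l : Fin N), x ∈ O l → ∀ m, (e (σ m)).1 = s.filter (x ∈ ·) → m < l ∨ (e (σ l)).1 = (e (σ m)).1 := by
    intro x l hx m hm
    have hle : (e (σ l)).1 ⊆ (e (σ m)).1 := fun V hV => by
      rw [hm]
      exact Finset.mem_filter.2 ⟨hsub l V hV, (hmemO l x).1 hx V hV⟩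
    rcases hle.eq_or_ssubset with h | h
    · exact .inr h
    · refine .inl ?_
      by_contra hml
      have h1 : f (σ l) ≤ f (σ m) := Tuple.monotone_sort f (not_lt.1 hml)
      have h2 := Finset.card_lt_card h
      have h3 := Finset.card_le_card (Finset.mem_powerset.1 (e (σ m)).2)
      simp only [f] at h1
      omega
  refine ⟨N, U, fun i => ?_, fun i => ?_, ?_, ?_, fun i x hx => ?_, fun i => ?_⟩
  · exact isOpen_iUnion fun l => isOpen_iInter_of_finite fun V => (hs V.1 (hsub _ V.1 V.2)).1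
  · exact IsConstructible.iUnion fun l => IsConstructible.iInter fun V =>
      (hs V.1 (hsub _ V.1 V.2)).2.isConstructible (hs V.1 (hsub _ V.1 V.2)).1
  · exact Set.eq_empty_iff_forall_notMem.2 fun x hx => by
      obtain ⟨l, hl, -⟩ := (hmemU 0 x).1 hx
      exact Nat.not_lt_zero _ hl
  · refine Set.eq_univ_of_forall fun x => ?_
    obtain ⟨l, hl⟩ := hidx x
    refine (hmemU _ x).2 ⟨l, l.2, (hmemO l x).2 fun V hV => ?_⟩
    rw [hl] at hV
    exact (Finset.mem_filter.1 hV).2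
  · obtain ⟨l, hl, hlx⟩ := (hmemU _ x).1 hx
    exact (hmemU _ x).2 ⟨l, by simp only [Fin.val_castSucc, Fin.val_succ] at hl ⊢; omega, hlx⟩
  · rintro ⟨x, hx⟩
    -- every point of the step has the same opens
    have hatom : ∀ y ∈ U i.succ ∩ (U i.castSucc)ᶜ, ∀ V ∈ s, (y ∈ V ↔ V ∈ (e (σ i)).1) := by
      rintro y ⟨hy, hy'⟩ V hV
      obtain ⟨l, hl, hly⟩ := (hmemU _ y).1 hy
      have hli : l = i := by
        by_contra hne
        refine hy' ((hmemU _ y).2 ⟨l, ?_, hly⟩)
        have := Fin.val_ne_of_ne hne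
        simp only [Fin.val_succ, Fin.val_castSucc] at hl ⊢
        omega
      subst hli
      obtain ⟨m, hm⟩ := hidx y
      rcases hown y l hly m hm with h | h
      · refine absurd ((hmemU _ y).2 ⟨m, h, (hmemO m y).2 fun W hW => ?_⟩) hy'
        rw [hm] at hW
        exact (Finset.mem_filter.1 hW).2
      · rw [h, hm, Finset.mem_filter]
        exact ⟨fun h' => ⟨hV, h'⟩, fun h' => h'.2⟩
    obtain ⟨k, hk⟩ := Set.mem_iUnion.1 (hu.ge (Set.mem_univ x))
    refine ⟨k, fun y hy => (hS2 k x y fun V hV => ?_).1 hk⟩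
    have hVs : V ∈ s := hfin.mem_toFinset.2 (Set.mem_iUnion.2 ⟨k, hV⟩)
    exact (hatom x hx V hVs).trans (hatom y hy V hVs).symm

end Groth.Agent.EtTorLib
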