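import Groth.Agent.EtFound.AbRecollement
import Groth.Agent.EtFound.Crit
import Groth.Agent.EtMVLib.OpenSeq

/-! the filtration of a sheaf by extensions by zero from an increasing family of opens -/

universe u

open CategoryTheory CategoryTheory.Limits AlgebraicGeometry Opposite Topology

namespace Groth.Agent.EtTorLib

set_option backward.isDefEq.respectTransparency.types false
set_option linter.style.haveILetI false

open EtFound

variable {X : Scheme.{u}} (F : EtCoh.Ab X)

/-- `j_! j⁻¹ F` for an open -/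
noncomputable def openPart (O : X.Opens) : EtCoh.Ab X :=
  (EtShriek.extZero O.ι).obj ((EtShriek.restrAlong O.ι).obj F)

/-- the inclusion of `j_! j⁻¹ F` -/
noncomputable def openPartι (O : X.Opens) : openPart F O ⟶ F :=
  (EtShriek.extZeroAdj O.ι).counit.app F

variable {F} {O O' : X.Opens} {Ω : Type u} [Field Ω] [IsSepClosed Ω] (ξ : Spec (CommRingCat.of Ω) ⟶ X)

theorem mem_range_ι_iff (x : X) : x ∈ Set.range O.ι.base ↔ x ∈ O := Set.ext_iff.1 O.range_ι x

theorem isZero_stalk_openPart (h : ξ.base (default : Spec (CommRingCat.of Ω)) ∉ O) :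
    IsZero ((EtCoh.stalk ξ).obj (openPart F O)) :=
  isZero_stalk_extZero O.ι ξ (fun h' => h ((mem_range_ι_iff _).1 h')) _

theorem isIso_stalk_openPartι (h : ξ.base (default : Spec (CommRingCat.of Ω)) ∈ O) :
    IsIso ((EtCoh.stalk ξ).map (openPartι F O)) :=
  isIso_stalk_of_lift O.ι _ ξ ((mem_range_ι_iff _).2 h) fun _ _ _ z => isIso_counit_stalk O.ι z F

theorem mono_openPartι : Mono (openPartι F O) := by
  refine (mono_iff_stalks _).2 fun k _ _ η => ?_
  by_cases h : η.base (default : Spec (CommRingCat.of k)) ∈ O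
  · exact ((ConcreteCategory.isIso_iff_bijective _).1 (isIso_stalk_openPartι η h)).1
  · exact fun a b _ => @Subsingleton.elim _ (AddCommGrpCat.subsingleton_of_isZero (isZero_stalk_openPart η h)) a b

theorem openPartι_comp_cokernel (hO : O ≤ O') : openPartι F O ≫ cokernel.π (openPartι F O') = 0 := by
  refine eq_of_stalks _ _ fun k _ _ η => ?_
  by_cases h : η.base (default : Spec (CommRingCat.of k)) ∈ O
  · haveI := isIso_stalk_openPartι (F := F) η (hO h)
    have : (EtCoh.stalk η).map (cokernel.π (openPartι F O')) = 0 := by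
      refine (cancel_epi ((EtCoh.stalk η).map (openPartι F O'))).1 ?_
      rw [comp_zero, ← Functor.map_comp, cokernel.condition, Functor.map_zero]
    change (EtCoh.stalk η).map _ = (EtCoh.stalk η).map 0
    rw [Functor.map_comp, this, comp_zero, Functor.map_zero]
  · exact (isZero_stalk_openPart η h).eq_of_src _ _

/-- the inclusion between the parts of two opens -/
theorem exists_openPartMap (hO : O ≤ O') :
    ∃ f : openPart F O ⟶ openPart F O', f ≫ openPartι F O' = openPartι F O := by
  haveI := mono_openPartι (F := F) (O := O')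
  exact ⟨_, (ShortComplex.exact_of_g_is_cokernel (ShortComplex.mk (openPartι F O') _ (cokernel.condition _))
    (cokernelIsCokernel _)).lift_f _ (openPartι_comp_cokernel hO)⟩

theorem isZero_openPart (h : ∀ x : X, x ∉ O) : IsZero (openPart F O) := by
  rw [IsZero.iff_id_eq_zero]
  exact eq_of_stalks _ _ fun k _ _ η => (isZero_stalk_openPart η (h _)).eq_of_src _ _

theorem nonempty_iso_openPart (h : ∀ x : X, x ∈ O) : Nonempty (openPart F O ≅ F) := by
  haveI : IsIso (openPartι F O) := (isIso_iff_stalks _).2 fun k _ _ η => isIso_stalk_openPartι η (h _)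
  exact ⟨asIso (openPartι F O)⟩

/-- pullbacks of maps which are bijective on the stalks over the image are isomorphisms -/
theorem isIso_pull_map {T : Scheme.{u}} (g : T ⟶ X) {A B : EtCoh.Ab X} (a : A ⟶ B)
    (h : ∀ (k : Type u) [Field k] [IsSepClosed k] (z : Spec (CommRingCat.of k) ⟶ T),
      IsIso ((EtCoh.stalk (z ≫ g)).map a)) : IsIso ((EtCoh.pull g).map a) := by
  refine (isIso_iff_stalks _).2 fun k _ _ z => ?_
  exact (NatIso.isIso_map_iff (sheafFiberPullIso (A := AddCommGrpCat.{u + 1}) g z) a).2 (h k z)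

/-- one step of the filtration -/
theorem exists_step (hO : O ≤ O') {T : Scheme.{u}} (g : T ⟶ X) [IsImmersion g]
    (hg : Set.range g.base = (O' : Set X) ∩ (O : Set X)ᶜ)
    (hT : EtCoh.IsFiniteLocallyConstant ((EtCoh.pull g).obj F)) (f : openPart F O ⟶ openPart F O')
    (hf : f ≫ openPartι F O' = openPartι F O) :
    ∃ (c : T ⟶ O'.toScheme) (_ : IsClosedImmersion c) (G : EtCoh.Ab T)
      (π : openPart F O' ⟶ (EtShriek.extZero O'.ι).obj ((EtCoh.push c).obj G)) (hz : f ≫ π = 0),
      c ≫ O'.ι = g ∧ EtCoh.IsFiniteLocallyConstant G ∧ (ShortComplex.mk f π hz).ShortExact := by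
  let c : T ⟶ O'.toScheme := IsOpenImmersion.lift O'.ι g (by
    rw [O'.range_ι, hg]
    exact Set.inter_subset_left)
  have hc : c ≫ O'.ι = g := IsOpenImmersion.lift_fac _ _ _
  haveI : IsImmersion (c ≫ O'.ι) := by rw [hc]; infer_instance
  haveI : IsImmersion c := IsImmersion.of_comp c O'.ι
  have hcr : Set.range c.base = O'.ι.base ⁻¹' (O : Set X)ᶜ := by
    ext p
    constructor
    · rintro ⟨t, rfl⟩
      have : O'.ι.base (c.base t) ∈ Set.range g.base := ⟨t, by rw [← hc]; exact Scheme.Hom.comp_apply _ _ _⟩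
      rw [hg] at this
      exact this.2
    · intro hp
      obtain ⟨t, ht⟩ : O'.ι.base p ∈ Set.range g.base := by
        rw [hg]
        exact ⟨(mem_range_ι_iff _).1 ⟨p, rfl⟩, hp⟩
      exact ⟨t, O'.ι.isOpenEmbedding.injective ((Scheme.Hom.comp_apply _ _ _).symm.trans
        ((congrArg (fun k : T ⟶ X => k.base t) hc).trans ht))⟩
  haveI : IsClosedImmersion c := IsClosedImmersion.of_isPreimmersion c (by
    rw [hcr]
    exact O.2.isClosed_compl.preimage O'.ι.continuous)
  haveI := mono_openPartι (F := F) (O := O)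
  haveI : Mono f := mono_of_mono_fac hf
  let Q := cokernel f
  have hQ0 : ∀ {k : Type u} [Field k] [IsSepClosed k] (η : Spec (CommRingCat.of k) ⟶ X),
      ¬ (η.base (default : Spec (CommRingCat.of k)) ∈ O' ∧ η.base (default : Spec (CommRingCat.of k)) ∉ O) →
      IsZero ((EtCoh.stalk η).obj Q) := fun {k} _ _ η h => by
    by_cases h' : η.base (default : Spec (CommRingCat.of k)) ∈ O'
    · have hO1 : η.base (default : Spec (CommRingCat.of k)) ∈ O := by_contra fun h'' => h ⟨h', h''⟩
      haveI := isIso_stalk_openPartι (F := F) η hO1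
      haveI := isIso_stalk_openPartι (F := F) η h'
      haveI : IsIso ((EtCoh.stalk η).map f) := by
        haveI : IsIso ((EtCoh.stalk η).map f ≫ (EtCoh.stalk η).map (openPartι F O')) := by
          rw [← Functor.map_comp, hf]; infer_instance
        exact IsIso.of_isIso_comp_right _ ((EtCoh.stalk η).map (openPartι F O'))
      refine IsZero.of_epi_eq_zero ((EtCoh.stalk η).map (cokernel.π f)) ?_
      refine (cancel_epi ((EtCoh.stalk η).map f)).1 ?_
      rw [comp_zero, ← Functor.map_comp, cokernel.condition, Functor.map_zero]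
    · exact IsZero.of_epi ((EtCoh.stalk η).map (cokernel.π f)) (isZero_stalk_openPart η h')
  -- `Q` lives on `O'`
  haveI h1 : IsIso ((EtShriek.extZeroAdj O'.ι).counit.app Q) := extZero_iso_of_outside O'.ι Q fun k _ _ η h =>
    hQ0 η fun h' => h ((mem_range_ι_iff _).2 h'.1)
  let R := (EtShriek.restrAlong O'.ι).obj Q
  -- and on the closed subscheme
  haveI h2 : IsIso ((EtCoh.pullPushAdj c).unit.app R) := (isIso_iff_stalks _).2 fun k _ _ z => by
    by_cases hz : z.base (default : Spec (CommRingCat.of k)) ∈ Set.range c.base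
    · exact isIso_stalk_unit_closed c R z hz
    · refine IsZero.isIso ?_ (isZero_stalk_push_closed c _ z hz) _
      haveI : IsIso (restrStalkMap O'.ι z Q) :=
        (ConcreteCategory.isIso_iff_bijective _).2 (restrStalkMap_bijective O'.ι z Q)
      refine IsZero.of_iso (hQ0 (z ≫ O'.ι) fun h => hz ?_) (asIso (restrStalkMap O'.ι z Q))
      rw [hcr]
      exact fun h'' => h.2 ((congrArg (· ∈ O) (Scheme.Hom.comp_apply z O'.ι _)).mpr h'')
  let e : Q ≅ (EtShriek.extZero O'.ι).obj ((EtCoh.push c).obj ((EtCoh.pull c).obj R)) :=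
    (asIso ((EtShriek.extZeroAdj O'.ι).counit.app Q)).symm ≪≫
      (EtShriek.extZero O'.ι).mapIso (asIso ((EtCoh.pullPushAdj c).unit.app R))
  have hz : f ≫ cokernel.π f ≫ e.hom = 0 := by rw [cokernel.condition_assoc, zero_comp]
  refine ⟨c, inferInstance, (EtCoh.pull c).obj R, cokernel.π f ≫ e.hom, hz, hc, ?_, ?_⟩
  · haveI : IsIso ((EtCoh.pull g).map (openPartι F O')) := isIso_pull_map g _ fun k _ _ z => by
      refine isIso_stalk_openPartι _ ?_
      have : g.base (z.base (default : Spec (CommRingCat.of k))) ∈ Set.range g.base := ⟨_, rfl⟩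
      rw [hg] at this
      exact (congrArg (· ∈ O') (Scheme.Hom.comp_apply z g _)).mpr this.1
    haveI : IsIso ((EtCoh.pull g).map (cokernel.π f)) := isIso_pull_map g _ fun k _ _ z => by
      have hgz : g.base (z.base (default : Spec (CommRingCat.of k))) ∈ Set.range g.base := ⟨_, rfl⟩
      rw [hg] at hgz
      have h0 : IsZero ((EtCoh.stalk (z ≫ g)).obj (openPart F O)) := isZero_stalk_openPart _ fun h =>
        hgz.2 ((congrArg (· ∈ O) (Scheme.Hom.comp_apply z g _)).mp h)
      have hS : ((ShortComplex.mk f (cokernel.π f) (cokernel.condition f)).map (EtCoh.stalk (z ≫ g))).Exact :=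
        (ShortComplex.exact_of_g_is_cokernel _ (cokernelIsCokernel f)).map (EtCoh.stalk (z ≫ g))
      haveI : Mono ((EtCoh.stalk (z ≫ g)).map (cokernel.π f)) := hS.mono_g (h0.eq_of_src _ _)
      exact isIso_of_mono_of_epi _
    let e0 : (EtCoh.pull c).obj R ≅ (EtCoh.pull g).obj F :=
      (EtCoh.pull c).mapIso ((EtMVLib.restrIsoPull O'.ι).app Q) ≪≫ ((pullCompAb c O'.ι).app Q).symm ≪≫
        eqToIso (congrArg (fun k => (EtCoh.pull k).obj Q) hc) ≪≫
        (asIso ((EtCoh.pull g).map (cokernel.π f))).symm ≪≫ asIso ((EtCoh.pull g).map (openPartι F O'))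
    exact isFiniteLocallyConstant_of_iso e0.symm hT
  · have hS : (ShortComplex.mk f (cokernel.π f) (cokernel.condition f)).ShortExact :=
      { exact := ShortComplex.exact_of_g_is_cokernel _ (cokernelIsCokernel f) }
    exact ShortComplex.shortExact_of_iso (ShortComplex.isoMk (S₁ := ShortComplex.mk f (cokernel.π f) (cokernel.condition f))
      (S₂ := ShortComplex.mk f (cokernel.π f ≫ e.hom) hz) (Iso.refl _) (Iso.refl _) e (by simp) (by simp)) hS

end Groth.Agent.EtTorLib
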