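import Groth.Agent.EtTorLib.RepLocal
import Groth.Agent.DescLib.Sieve
import Groth.Agent.S9858
import Groth.Agent.S1133
import Groth.Agent.DescLib.SigmaLocal
import Groth.Agent.EtFound.Descent

/-! finite locally constant sheaves are represented by finite etale schemes -/

universe u

open CategoryTheory CategoryTheory.Limits AlgebraicGeometry Opposite

namespace Groth.Agent.EtTorLib

set_option backward.isDefEq.respectTransparency false
set_option backward.isDefEq.respectTransparency.types false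

open EtFound

variable {X : Scheme.{u}} (F : EtCoh.Ab X)

/-- affine etale charts trivialising `F` with affine open images -/
theorem exists_charts (hF : EtCoh.IsFiniteLocallyConstant F) (x : X) :
    ∃ (W : X.Etale) (_ : IsAffine W.left) (O : X.Opens) (_ : x ∈ O) (_ : IsAffineOpen O) (q : W.left ⟶ O),
      q ≫ O.ι = W.hom ∧ Surjective q ∧ Nonempty (LocalRep F W) := by
  obtain ⟨κ, U, hcov, hU⟩ := hF
  obtain ⟨i, v, hv⟩ := hcov x
  obtain ⟨M, _, _, ⟨e⟩⟩ := hU i
  obtain ⟨φ, hφ⟩ := exists_constBy e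
  haveI : AlgebraicGeometry.Etale (U i).hom := (U i).prop
  obtain ⟨O₀, hO₀, hxO₀, -⟩ := exists_isAffineOpen_mem_and_subset (U := (⊤ : X.Opens)) (x := x) trivial
  obtain ⟨A, hA, hvA, hAsub⟩ := exists_isAffineOpen_mem_and_subset (U := (U i).hom ⁻¹ᵁ O₀) (x := v)
    (show (U i).hom.base v ∈ O₀ from hv.symm ▸ hxO₀)
  let img : X.Opens := ⟨(A.ι ≫ (U i).hom).base '' Set.univ, (A.ι ≫ (U i).hom).isOpenMap _ isOpen_univ⟩
  obtain ⟨O, hO, hxO, hOsub⟩ := exists_isAffineOpen_mem_and_subset (U := img) (x := x)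
    ⟨⟨v, hvA⟩, trivial, by rw [Scheme.Hom.comp_apply]; exact hv⟩
  haveI : IsAffine (A : Scheme.{u}) := hA
  let f : (A : Scheme.{u}) ⟶ X := A.ι ≫ (U i).hom
  have hf : Set.range f.base ⊆ Set.range O₀.ι.base := by
    rintro _ ⟨a, rfl⟩
    rw [Scheme.Opens.range_ι, Scheme.Hom.comp_apply]
    exact hAsub a.2
  let f₀ : (A : Scheme.{u}) ⟶ O₀ := IsOpenImmersion.lift O₀.ι f hf
  haveI : IsAffine (O₀ : Scheme.{u}) := hO₀
  have hW : IsAffineOpen (f ⁻¹ᵁ O) := by
    have hle : O ≤ O₀ := fun y hy => by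
      obtain ⟨a, -, rfl⟩ := hOsub hy
      exact (Scheme.Opens.range_ι O₀).le (hf ⟨a, rfl⟩)
    have h2 : IsAffineOpen (O₀.ι ⁻¹ᵁ O) := hO.preimage_of_isOpenImmersion O₀.ι (by rwa [Scheme.Opens.opensRange_ι])
    have h3 := h2.preimage f₀
    rwa [← Scheme.Hom.comp_preimage, IsOpenImmersion.lift_fac] at h3
  let W : X.Etale := Scheme.Etale.mk ((f ⁻¹ᵁ O).ι ≫ f)
  let k : W ⟶ U i := MorphismProperty.Over.homMk ((f ⁻¹ᵁ O).ι ≫ A.ι) (Category.assoc _ _ _)
  refine ⟨W, hW, O, hxO, hO, f ∣_ O, morphismRestrict_ι f O, ⟨fun y => ?_⟩, exists_localRep (hφ.restrict k)⟩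
  obtain ⟨a, -, ha⟩ := hOsub y.2
  refine ⟨⟨a, show f.base a ∈ O from ha.symm ▸ y.2⟩, O.ι.isOpenEmbedding.injective ?_⟩
  rw [← Scheme.Hom.comp_apply, morphismRestrict_ι, Scheme.Hom.comp_apply]
  exact ha

variable {F} {ι : Type u} {W : ι → X.Etale} (L : ∀ i, LocalRep F (W i))

/-- points of the representing scheme at `i` and of `W j` over one point of `X` -/
noncomputable def ovl (i j : ι) : X.Etale :=
  haveI : AlgebraicGeometry.Etale (L i).R.hom := (L i).R.prop
  haveI : AlgebraicGeometry.Etale (W j).hom := (W j).prop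
  Scheme.Etale.mk (pullback.snd (L i).R.hom (W j).hom ≫ (W j).hom)

noncomputable def ovlFst (i j : ι) : ovl L i j ⟶ (L i).R :=
  MorphismProperty.Over.homMk (pullback.fst _ _) pullback.condition

noncomputable def ovlSnd (i j : ι) : ovl L i j ⟶ W j :=
  MorphismProperty.Over.homMk (pullback.snd _ _) rfl

noncomputable def trans (i j : ι) : ovl L i j ⟶ (L j).R :=
  ((L j).univ _ (ovlSnd L i j) (F.obj.map (ovlFst L i j).op (L i).sec)).choose

theorem trans_r (i j : ι) : trans L i j ≫ (L j).r = ovlSnd L i j :=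
  ((L j).univ _ (ovlSnd L i j) (F.obj.map (ovlFst L i j).op (L i).sec)).choose_spec.1.1

theorem trans_sec (i j : ι) : F.obj.map (trans L i j).op (L j).sec = F.obj.map (ovlFst L i j).op (L i).sec :=
  ((L j).univ _ (ovlSnd L i j) (F.obj.map (ovlFst L i j).op (L i).sec)).choose_spec.1.2

theorem localRep_ext {i : ι} {V : X.Etale} {g g' : V ⟶ (L i).R} (h : g ≫ (L i).r = g' ≫ (L i).r)
    (h' : F.obj.map g.op (L i).sec = F.obj.map g'.op (L i).sec) : g = g' :=
  ((L i).univ V _ _).unique ⟨h, h'⟩ ⟨rfl, rfl⟩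

theorem lift_cond {T : Scheme.{u}} {i j : ι} {x₀ : T ⟶ (W i).left} {x₁ : T ⟶ (W j).left}
    (h : x₀ ≫ (W i).hom = x₁ ≫ (W j).hom) (v : Desc.Lifts (Over.mk (L i).r.left) x₀) :
    v.1 ≫ (L i).R.hom = x₁ ≫ (W j).hom := by
  have hv : v.1 ≫ (L i).r.left = x₀ := v.2
  exact ((congrArg (v.1 ≫ ·) (MorphismProperty.Over.w (L i).r).symm).trans
    ((Category.assoc _ _ _).symm.trans (congrArg (· ≫ (W i).hom) hv))).trans h

/-- transport of points -/
noncomputable def moveLift {T : Scheme.{u}} {i j : ι} (x₀ : T ⟶ (W i).left) (x₁ : T ⟶ (W j).left)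
    (h : x₀ ≫ (W i).hom = x₁ ≫ (W j).hom) (v : Desc.Lifts (Over.mk (L i).r.left) x₀) :
    Desc.Lifts (Over.mk (L j).r.left) x₁ :=
  ⟨pullback.lift v.1 x₁ (lift_cond L h v) ≫ (trans L i j).left, by
    show (pullback.lift v.1 x₁ _ ≫ (trans L i j).left) ≫ (L j).r.left = x₁
    rw [Category.assoc, show (trans L i j).left ≫ (L j).r.left = (ovlSnd L i j).left from
      congrArg (fun a : ovl L i j ⟶ W j => a.left) (trans_r L i j)]
    exact pullback.lift_snd _ _ _⟩

theorem moveLift_self {T : Scheme.{u}} {i : ι} (x : T ⟶ (W i).left) (v : Desc.Lifts (Over.mk (L i).r.left) x) :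
    moveLift L x x rfl v = v := by
  have hv : v.1 ≫ (L i).r.left = x := v.2
  let Γ : (L i).R ⟶ ovl L i i := MorphismProperty.Over.homMk
    (pullback.lift (𝟙 _) (L i).r.left ((Category.id_comp _).trans (MorphismProperty.Over.w (L i).r).symm)) (by
      refine Eq.trans ?_ (MorphismProperty.Over.w (L i).r)
      exact pullback.lift_snd_assoc _ _ _ _)
  have hΓ : Γ ≫ trans L i i = 𝟙 _ := localRep_ext L (by
      rw [Category.assoc, trans_r, Category.id_comp]
      exact MorphismProperty.Over.Hom.ext (pullback.lift_snd _ _ _)) (by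
      rw [res_res, trans_sec, ← res_res]
      exact congrArg (fun a : (L i).R ⟶ (L i).R => F.obj.map a.op (L i).sec)
        (MorphismProperty.Over.Hom.ext (pullback.lift_fst _ _ _)))
  refine Subtype.ext ?_
  show pullback.lift v.1 x _ ≫ (trans L i i).left = v.1
  have e : pullback.lift v.1 x (lift_cond L rfl v) = v.1 ≫ Γ.left := by
    refine pullback.hom_ext ?_ ?_
    · rw [pullback.lift_fst, Category.assoc]
      exact ((congrArg (v.1 ≫ ·) (pullback.lift_fst _ _ _)).trans (Category.comp_id _)).symm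
    · rw [pullback.lift_snd, Category.assoc]
      exact ((congrArg (v.1 ≫ ·) (pullback.lift_snd _ _ _)).trans hv).symm
  rw [e, Category.assoc, show Γ.left ≫ (trans L i i).left = 𝟙 _ from congrArg (fun a : (L i).R ⟶ (L i).R => a.left) hΓ]
  exact Category.comp_id _

theorem moveLift_comp {T : Scheme.{u}} {i j k : ι} (x₀ : T ⟶ (W i).left) (x₁ : T ⟶ (W j).left) (x₂ : T ⟶ (W k).left)
    (h₀₁ : x₀ ≫ (W i).hom = x₁ ≫ (W j).hom) (h₁₂ : x₁ ≫ (W j).hom = x₂ ≫ (W k).hom)
    (v : Desc.Lifts (Over.mk (L i).r.left) x₀) :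
    moveLift L x₁ x₂ h₁₂ (moveLift L x₀ x₁ h₀₁ v) = moveLift L x₀ x₂ (h₀₁.trans h₁₂) v := by
  haveI : AlgebraicGeometry.Etale (W k).hom := (W k).prop
  haveI : AlgebraicGeometry.Etale (ovl L i j).hom := (ovl L i j).prop
  let Q : X.Etale := Scheme.Etale.mk (pullback.snd (ovl L i j).hom (W k).hom ≫ (W k).hom)
  let π₁ : Q ⟶ ovl L i j := MorphismProperty.Over.homMk (pullback.fst _ _) pullback.condition
  let π₂ : Q ⟶ W k := MorphismProperty.Over.homMk (pullback.snd _ _) rfl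
  let a : Q ⟶ ovl L j k := MorphismProperty.Over.homMk
    (pullback.lift (π₁ ≫ trans L i j).left π₂.left
      ((MorphismProperty.Over.w (π₁ ≫ trans L i j)).trans (MorphismProperty.Over.w π₂).symm))
    ((pullback.lift_snd_assoc _ _ _ _).trans (MorphismProperty.Over.w π₂))
  let b : Q ⟶ ovl L i k := MorphismProperty.Over.homMk
    (pullback.lift (π₁ ≫ ovlFst L i j).left π₂.left
      ((MorphismProperty.Over.w (π₁ ≫ ovlFst L i j)).trans (MorphismProperty.Over.w π₂).symm))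
    ((pullback.lift_snd_assoc _ _ _ _).trans (MorphismProperty.Over.w π₂))
  have ha₁ : a ≫ ovlFst L j k = π₁ ≫ trans L i j := MorphismProperty.Over.Hom.ext (pullback.lift_fst _ _ _)
  have ha₂ : a ≫ ovlSnd L j k = π₂ := MorphismProperty.Over.Hom.ext (pullback.lift_snd _ _ _)
  have hb₁ : b ≫ ovlFst L i k = π₁ ≫ ovlFst L i j := MorphismProperty.Over.Hom.ext (pullback.lift_fst _ _ _)
  have hb₂ : b ≫ ovlSnd L i k = π₂ := MorphismProperty.Over.Hom.ext (pullback.lift_snd _ _ _)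
  have key : a ≫ trans L j k = b ≫ trans L i k := localRep_ext L
    (by rw [Category.assoc, trans_r, ha₂, Category.assoc, trans_r, hb₂])
    (by rw [res_res, trans_sec, ← res_res, ha₁, res_res, trans_sec, ← res_res, ← hb₁, res_res, ← trans_sec, ← res_res])
  let w : T ⟶ Q.left := pullback.lift (pullback.lift v.1 x₁ (lift_cond L h₀₁ v)) x₂ (by
    show pullback.lift v.1 x₁ _ ≫ pullback.snd _ _ ≫ (W j).hom = _
    rw [pullback.lift_snd_assoc]
    exact h₁₂)
  have hw₁ : w ≫ π₁.left = pullback.lift v.1 x₁ (lift_cond L h₀₁ v) := pullback.lift_fst _ _ _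
  have hw₂ : w ≫ π₂.left = x₂ := pullback.lift_snd _ _ _
  have e₁ : pullback.lift (moveLift L x₀ x₁ h₀₁ v).1 x₂ (lift_cond L h₁₂ _) = w ≫ a.left := by
    refine pullback.hom_ext ?_ ?_
    · rw [pullback.lift_fst, Category.assoc]
      refine Eq.trans ?_ (congrArg (w ≫ ·) (pullback.lift_fst _ _ _)).symm
      show pullback.lift v.1 x₁ _ ≫ (trans L i j).left = w ≫ π₁.left ≫ (trans L i j).left
      rw [← Category.assoc, hw₁]
    · rw [pullback.lift_snd, Category.assoc]
      exact ((congrArg (w ≫ ·) (pullback.lift_snd _ _ _)).trans hw₂).symm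
  have e₂ : pullback.lift v.1 x₂ (lift_cond L (h₀₁.trans h₁₂ : x₀ ≫ (W i).hom = x₂ ≫ (W k).hom) v) = w ≫ b.left := by
    refine pullback.hom_ext ?_ ?_
    · rw [pullback.lift_fst, Category.assoc]
      refine Eq.trans ?_ (congrArg (w ≫ ·) (pullback.lift_fst _ _ _)).symm
      show v.1 = w ≫ π₁.left ≫ (ovlFst L i j).left
      rw [← Category.assoc, hw₁]
      exact (pullback.lift_fst _ _ _).symm
    · rw [pullback.lift_snd, Category.assoc]
      exact ((congrArg (w ≫ ·) (pullback.lift_snd _ _ _)).trans hw₂).symm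
  refine Subtype.ext ?_
  show pullback.lift (moveLift L x₀ x₁ h₀₁ v).1 x₂ _ ≫ (trans L j k).left = pullback.lift v.1 x₂ _ ≫ (trans L i k).left
  rw [e₁, e₂, Category.assoc, Category.assoc]
  exact congrArg (fun c : Q ⟶ (L k).R => w ≫ c.left) key

theorem moveLift_natural {T T' : Scheme.{u}} (g : T' ⟶ T) {i j : ι} (x₀ : T ⟶ (W i).left) (x₁ : T ⟶ (W j).left)
    (h : x₀ ≫ (W i).hom = x₁ ≫ (W j).hom) (y₀ : T' ⟶ (W i).left) (y₁ : T' ⟶ (W j).left) (hy₁ : g ≫ x₁ = y₁)
    (h' : y₀ ≫ (W i).hom = y₁ ≫ (W j).hom) (v : Desc.Lifts (Over.mk (L i).r.left) x₀)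
    (v' : Desc.Lifts (Over.mk (L i).r.left) y₀) (hv : v'.1 = g ≫ v.1) :
    (moveLift L y₀ y₁ h' v').1 = g ≫ (moveLift L x₀ x₁ h v).1 := by
  show pullback.lift v'.1 y₁ _ ≫ _ = g ≫ pullback.lift v.1 x₁ _ ≫ _
  rw [← Category.assoc]
  congr 1
  refine pullback.hom_ext ?_ ?_
  · rw [pullback.lift_fst, Category.assoc, pullback.lift_fst, hv]
  · rw [pullback.lift_snd, Category.assoc, pullback.lift_snd, hy₁]

/-- the descent datum of the local representing schemes -/
noncomputable def repDD : Desc.SchDDFam fun i => (W i).hom where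
  obj i := Over.mk (L i).r.left
  φ _ _ _ x₀ x₁ h :=
    { toFun := moveLift L x₀ x₁ h
      invFun := moveLift L x₁ x₀ h.symm
      left_inv := fun v => (moveLift_comp L x₀ x₁ x₀ h h.symm v).trans (moveLift_self L x₀ v)
      right_inv := fun v => (moveLift_comp L x₁ x₀ x₁ h.symm h v).trans (moveLift_self L x₁ v) }
  φ_natural _ _ g _ _ x₀ x₁ h y₀ y₁ _ hy₁ h' v v' hv := moveLift_natural L g x₀ x₁ h y₀ y₁ hy₁ h' v v' hv
  φ_self _ _ x v := moveLift_self L x v
  φ_comp _ _ _ _ x₀ x₁ x₂ h₀₁ h₁₂ v := moveLift_comp L x₀ x₁ x₂ h₀₁ h₁₂ v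

theorem effective_repDD [∀ i, IsAffine (W i).left] (hcov : ∀ x : X, ∃ i w, (W i).hom.base w = x) :
    (repDD L).IsEffective := by
  refine S9858.result @IsAffineHom ?_ ?_ _ ?_ _ fun i => ?_
  · exact fun m Y V q hq => DescLib.prop_sigmaMap' @IsAffineHom m Y V q hq
  · intro Y S p _ _ hp hs D hD
    haveI := hp; haveI := hs; haveI : IsAffineHom D.obj.hom := hD
    exact S1133.result p D
  · refine Scheme.fppfPrecoverage_le_fpqcPrecoverage _ ?_
    rw [Scheme.fppfPrecoverage, Scheme.ofArrows_mem_precoverage_iff]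
    refine ⟨fun x => hcov x, fun i => ?_⟩
    haveI : AlgebraicGeometry.Etale (W i).hom := (W i).prop
    exact ⟨inferInstance, inferInstance⟩
  · haveI := (L i).finite
    exact inferInstanceAs (IsAffineHom (L i).r.left)

end Groth.Agent.EtTorLib
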