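import Groth.Agent.EtTorLib.SepAcyclic
import Groth.Agent.EtTorLib.ConstSections
import Groth.Agent.EtLC12.EtZarCompare
import Groth.Agent.AlgSpDec.EtStalkProps
import Groth.Agent.S0089
import Groth.Agent.S0090
import Groth.Prelude.Def_EtCore

/-! constant sheaves on normal schemes with separably closed function field are acyclic -/

universe u

open CategoryTheory CategoryTheory.Limits AlgebraicGeometry Opposite TopologicalSpace

namespace Groth.Agent.EtTorLib

set_option backward.isDefEq.respectTransparency.types false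

variable {X : Scheme.{u}} (M : Type) [AddCommGroup M]

/-- on a disjoint union of irreducible opens the constant sheaf is flasque -/
theorem flq_resZar_const' {ι : Type u} (O : ι → X.Opens) (hd : Pairwise fun i j => Disjoint (O i) (O j))
    (hc : ∀ x, ∃ i, x ∈ O i) (hp : ∀ i, IsPreirreducible (O i : Set X)) [EtZar.ZarCont X] :
    Adeq2Lib.ZarFl.Flq ((EtZar.resZar X).obj (EtCoh.const X M)) := fun V U h s => by
  let F := (EtZar.resZar X).obj (EtCoh.const X M)
  have hs : ∀ (W : X.Opens) (i : ι), W ≤ O i → Function.Surjective (constSect M ((EtZar.zarToEt X).obj W)) := fun W i hW => by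
    have : PreconnectedSpace ((EtZar.zarToEt X).obj W).left :=
      Subtype.preconnectedSpace ((hp i).open_subset W.isOpen hW).isPreconnected
    exact constSect_surjective M _
  have hnat : ∀ {W W' : X.Opens} (hW : W' ≤ W) (m : ULift.{u + 1} M),
      Adeq2Lib.ZarFl.rz F hW (constSect M ((EtZar.zarToEt X).obj W) m) = constSect M ((EtZar.zarToEt X).obj W') m :=
    fun hW m => constSect_map M _ m
  choose m hm using fun i => hs (V ⊓ O i) i inf_le_right (Adeq2Lib.ZarFl.rz F inf_le_left s)
  obtain ⟨t, ht⟩ := Adeq2Lib.ZarFl.glueZ F (fun i => U ⊓ O i) (fun i => inf_le_left)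
    (fun x hx => (hc x).imp fun i hi => ⟨hx, hi⟩) (fun i => constSect M ((EtZar.zarToEt X).obj (U ⊓ O i)) (m i))
    fun i j W p q => by
      refine (hnat p (m i)).trans (Eq.trans ?_ (hnat q (m j)).symm)
      by_cases hij : i = j
      · rw [hij]
      · refine Adeq2Lib.ZarFl.eq_of_coverZ F (I := PEmpty.{u + 1}) (fun e => e.elim) (fun e => e.elim)
          (fun x hx => ?_) _ _ (fun e => e.elim)
        exact ((hd hij).le_bot ⟨(p hx).2, (q hx).2⟩).elim
  refine ⟨t, Adeq2Lib.ZarFl.eq_of_coverZ F (fun i => V ⊓ O i) (fun i => inf_le_left)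
    (fun x hx => (hc x).imp fun i hi => ⟨hx, hi⟩) _ _ fun i => ?_⟩
  rw [← hm i, Adeq2Lib.ZarFl.rz_comp]
  refine Eq.trans ?_ (hnat (inf_le_inf_right (O i) h) (m i))
  rw [← ht i, Adeq2Lib.ZarFl.rz_comp]

theorem isSepAcyclic_const [IsIntegral X] (hN : ∀ x : X, IsIntegrallyClosed (X.presheaf.stalk x))
    [IsSepClosed X.functionField] : IsSepAcyclic (EtCoh.const X M) := fun T hT i hi => by
  haveI : AlgebraicGeometry.Etale T.hom := T.prop
  haveI := hT
  obtain ⟨ι, V, e, he⟩ := S0089.result hN T.hom
  haveI := EtLC12.EtZarCompare.zarCont T.left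
  let k := fun i => Sigma.ι (fun i => (V i : Scheme.{u})) i ≫ e.hom
  have hcov : ∀ x : T.left, ∃ i, x ∈ (k i).opensRange := fun x => by
    obtain ⟨⟨i, y⟩, hy⟩ := (sigmaMk fun i => (V i : Scheme.{u})).surjective (e.inv.base x)
    refine ⟨i, y, ?_⟩
    rw [sigmaMk_mk] at hy
    rw [Scheme.Hom.comp_apply, hy, ← Scheme.Hom.comp_apply, e.inv_hom_id]
    rfl
  have hsh : ∀ x : T.left, EtCoh.IsStrictlyHenselianLocalRing (T.left.presheaf.stalk x) := fun x => by
    obtain ⟨i, y, rfl⟩ := hcov x
    obtain ⟨_, _⟩ := S0090.result X hN ((V i).ι.base y)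
    let f := (asIso ((V i).ι.stalkMap y)).commRingCatIsoToRingEquiv.trans
      (asIso ((k i).stalkMap y)).commRingCatIsoToRingEquiv.symm
    exact (AlgSpDec.EtStalkProps.isStrictlyHenselian_of_ringEquiv f).2
  have hfl := flq_resZar_const' M (X := T.left) (fun i => (k i).opensRange)
    (fun i j hij => by
      show Disjoint (k i).opensRange (k j).opensRange
      rw [disjoint_iff, eq_bot_iff]
      rintro x ⟨⟨a, ha⟩, ⟨b, hb⟩⟩
      have hab : Sigma.ι (fun i => (V i : Scheme.{u})) i a = Sigma.ι (fun i => (V i : Scheme.{u})) j b := by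
        refine e.hom.isOpenEmbedding.injective ?_
        rw [← Scheme.Hom.comp_apply, ← Scheme.Hom.comp_apply]
        exact ha.trans hb.symm
      exact (hij (congrArg Sigma.fst ((sigmaι_eq_iff _ _ _ _ _).1 hab))).elim)
    hcov
    (fun i => by
      haveI : PreirreducibleSpace (V i : Scheme.{u}) := (Subtype.preirreducibleSpace
        ((PreirreducibleSpace.isPreirreducible_univ (X := X)).open_subset (V i).isOpen (Set.subset_univ _)))
      show IsPreirreducible (Set.range (k i).base)
      rw [← Set.image_univ]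
      exact (PreirreducibleSpace.isPreirreducible_univ).image _ (k i).continuous.continuousOn)
  obtain ⟨n, rfl⟩ : ∃ n, i = n + 1 := ⟨i - 1, by omega⟩
  obtain ⟨a⟩ := BigSiteLib.H_etale_iso_H_zar hsh (EtCoh.const T.left M) (n + 1)
  have := Adeq2Lib.ZarFl.subsingleton_H_of_flq n _ hfl
  haveI : Subsingleton (EtCoh.H T.left (EtCoh.const T.left M) (n + 1)) := a.toEquiv.subsingleton
  exact @Equiv.subsingleton _ _ ((Abelian.extFunctorObj _ (n + 1)).mapIso (EtCore.pullConst T.hom M)).addCommGroupIsoToAddEquiv.toEquiv ‹Subsingleton (EtCoh.H T.left (EtCoh.const T.left M) (n + 1))›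

end Groth.Agent.EtTorLib
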