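import Groth.Agent.EtTorLib.FLCDescent
import Groth.Agent.EtFound.StrataFamily
import Groth.Agent.ConsPropLib.Noetherian
import Groth.Agent.FlatMisc.GenFlat
import Mathlib.AlgebraicGeometry.Morphisms.FlatRank
import Mathlib.AlgebraicGeometry.Morphisms.UniversallyOpen

/-! adapted strata descend along surjective morphisms of finite type -/

universe u v

open CategoryTheory CategoryTheory.Limits AlgebraicGeometry Opposite Topology TopologicalSpace

namespace Groth.Agent.EtTorLib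

set_option backward.isDefEq.respectTransparency.types false
set_option linter.style.haveILetI false

open EtFound

variable {X' X : Scheme.{u}} {ι : Type v} (F : ι → EtCoh.Ab X)

/-- all members of the family are finite locally constant along `h` -/
def Adapted {S : Scheme.{u}} (h : S ⟶ X) : Prop :=
  ∀ k, EtCoh.IsFiniteLocallyConstant ((EtCoh.pull h).obj (F k))

theorem Adapted.comp {S S' : Scheme.{u}} {h : S ⟶ X} (hh : Adapted F h) (f : S' ⟶ S) : Adapted F (f ≫ h) :=
  fun k => isFiniteLocallyConstant_of_iso ((pullCompAb f h).app (F k)).symm (isFiniteLocallyConstant_pull f (hh k))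

theorem Adapted.of_flat {S S' : Scheme.{u}} {h : S ⟶ X} (f : S' ⟶ S) [Flat f] [Surjective f] [IsLocallyNoetherian S]
    (hh : Adapted F (f ≫ h)) : Adapted F h :=
  fun k => isFiniteLocallyConstant_of_pull f (isFiniteLocallyConstant_of_iso ((pullCompAb f h).app (F k)) (hh k))

/-- finitely many adapted immersions cover the set -/
def Covered (C : Set X) : Prop :=
  ∃ (κ : Type) (_ : Finite κ) (T : κ → Scheme.{u}) (g : ∀ i, T i ⟶ X),
    (∀ i, IsImmersion (g i)) ∧ C ⊆ (⋃ i, Set.range (g i).base) ∧ ∀ i, Adapted F (g i)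

theorem Covered.union {A B : Set X} (hA : Covered F A) (hB : Covered F B) : Covered F (A ∪ B) := by
  obtain ⟨κ, _, T, g, hg, hcA, ha⟩ := hA
  obtain ⟨κ', _, T', g', hg', hcB, ha'⟩ := hB
  refine ⟨κ ⊕ κ', inferInstance, Sum.elim T T', fun i => Sum.rec (motive := fun i => Sum.elim T T' i ⟶ X) g g' i,
    fun i => ?_, ?_, fun i => ?_⟩
  · cases i
    exacts [hg _, hg' _]
  · rintro x (hx | hx)
    · obtain ⟨i, hi⟩ := Set.mem_iUnion.1 (hcA hx)
      exact Set.mem_iUnion.2 ⟨.inl i, hi⟩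
    · obtain ⟨i, hi⟩ := Set.mem_iUnion.1 (hcB hx)
      exact Set.mem_iUnion.2 ⟨.inr i, hi⟩
  · cases i
    exacts [ha _, ha' _]

theorem Covered.mono {A B : Set X} (hA : Covered F A) (h : B ⊆ A) : Covered F B := by
  obtain ⟨κ, i, T, g, hg, hc, ha⟩ := hA
  exact ⟨κ, i, T, g, hg, h.trans hc, ha⟩

theorem exists_open_piece [IsNoetherian X] {S : Scheme.{u}} (h : S ⟶ X) [LocallyOfFiniteType h] [QuasiCompact h]
    (hh : Adapted F h) {η : X} (hη : η ∈ Set.range h) :
    ∃ (T : Scheme.{u}) (g : T ⟶ X) (U : Set X), IsImmersion g ∧ Adapted F g ∧ IsOpen U ∧ η ∈ U ∧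
      U ∩ closure {η} ⊆ Set.range g := by
  obtain ⟨Z, j, _, _, hr, hj⟩ := ConsPropLib.exists_integral_closure η
  haveI : IsLocallyNoetherian Z := LocallyOfFiniteType.isLocallyNoetherian j
  obtain ⟨s, hs⟩ := hη
  obtain ⟨p, -, hp⟩ := Scheme.Pullback.exists_preimage_pullback (f := h) (g := j) s (genericPoint Z)
    (hs.trans hj.symm)
  let f : pullback h j ⟶ Z := pullback.snd h j
  haveI : LocallyOfFiniteType f := MorphismProperty.pullback_snd _ _ ‹LocallyOfFiniteType h›
  haveI : QuasiCompact f := MorphismProperty.pullback_snd _ _ ‹QuasiCompact h›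
  obtain ⟨W, hW, -, _, _⟩ := FlatMisc.exists_flat_open f ⊤ ⟨genericPoint Z, trivial⟩
  have hgW : genericPoint Z ∈ (W : Set Z) := ConsPropLib.exists_nhd_generic W.isOpen hW
  haveI : IsLocallyNoetherian W.toScheme := LocallyOfFiniteType.isLocallyNoetherian W.ι
  let O : W.toScheme.Opens := ⟨Set.range (f ∣_ W), (f ∣_ W).isOpenMap.isOpen_range⟩
  haveI : IsLocallyNoetherian O.toScheme := LocallyOfFiniteType.isLocallyNoetherian O.ι
  haveI : Flat ((f ∣_ W) ∣_ O) := IsZariskiLocalAtTarget.restrict ‹Flat (f ∣_ W)› O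
  haveI : Surjective ((f ∣_ W) ∣_ O) := ⟨fun x => by
    obtain ⟨y, hy⟩ := (show O.ι x ∈ Set.range (f ∣_ W) from x.2)
    exact ⟨⟨y, show (f ∣_ W) y ∈ O from hy.symm ▸ x.2⟩, O.ι.injective
      ((Scheme.Hom.comp_apply _ _ _).symm.trans (by rw [morphismRestrict_ι]; exact hy))⟩⟩
  have e : ((f ∣_ W) ∣_ O) ≫ O.ι ≫ W.ι ≫ j =
      (((f ∣_ W) ⁻¹ᵁ O).ι ≫ (f ⁻¹ᵁ W).ι ≫ pullback.fst h j) ≫ h := by
    rw [← Category.assoc, morphismRestrict_ι, Category.assoc, ← Category.assoc (f ∣_ W), morphismRestrict_ι]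
    simp only [Category.assoc]
    rw [pullback.condition]
  obtain ⟨U, hU, hUO⟩ := j.isClosedEmbedding.isInducing.isOpen_iff.1
    (W.ι.isOpenEmbedding.isOpenMap _ O.isOpen)
  have hmem : genericPoint Z ∈ W.ι '' (O : Set W.toScheme) := by
    have hp' : p ∈ f ⁻¹ᵁ W := show f p ∈ W from hp.symm ▸ hgW
    refine ⟨(f ∣_ W) ⟨p, hp'⟩, ⟨_, rfl⟩, ?_⟩
    rw [← Scheme.Hom.comp_apply, morphismRestrict_ι]
    exact hp
  refine ⟨O.toScheme, O.ι ≫ W.ι ≫ j, U, inferInstance,
    Adapted.of_flat F ((f ∣_ W) ∣_ O) (e ▸ hh.comp F _), hU, ?_, ?_⟩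
  · rw [← hj]
    exact hUO.ge hmem
  · rintro x ⟨hxU, hx⟩
    rw [← hr] at hx
    obtain ⟨z, rfl⟩ := hx
    obtain ⟨w, hw, rfl⟩ := hUO.le (show z ∈ j ⁻¹' U from hxU)
    exact ⟨⟨w, hw⟩, rfl⟩

theorem covered_univ [IsNoetherian X'] [IsNoetherian X] (q : X' ⟶ X) [Surjective q] [LocallyOfFiniteType q]
    {κ : Type*} (T : κ → Scheme.{u}) (g : ∀ i, T i ⟶ X') [∀ i, IsImmersion (g i)]
    (hcov : (⋃ i, Set.range (g i).base) = Set.univ) (hF : ∀ i, Adapted F (g i ≫ q)) :
    Covered F (Set.univ : Set X) := by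
  suffices ∀ C : Closeds X, Covered F (C : Set X) from (this ⊤).mono F le_rfl
  intro C
  induction C using WellFoundedLT.induction with
  | _ C ih =>
    rcases (C : Set X).eq_empty_or_nonempty with hC | hC
    · exact ⟨Empty, inferInstance, Empty.elim, fun i => i.elim, fun i => i.elim, hC ▸ Set.empty_subset _,
        fun i => i.elim⟩
    by_cases hirr : IsPreirreducible (C : Set X)
    · have hC' : IsIrreducible (C : Set X) := ⟨hC, hirr⟩
      have hη : closure {hC'.genericPoint} = (C : Set X) :=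
        hC'.isGenericPoint_genericPoint_closure.def.trans C.isClosed.closure_eq
      obtain ⟨x', hx'⟩ := q.surjective hC'.genericPoint
      obtain ⟨i, t, ht⟩ := Set.mem_iUnion.1 (hcov.ge (Set.mem_univ x'))
      haveI : NoetherianSpace (T i) := (g i).isEmbedding.isInducing.noetherianSpace
      haveI : LocallyOfFiniteType (g i) := inferInstance
      haveI : QuasiCompact (g i ≫ q) := quasiCompact_of_compactSpace _
      obtain ⟨S, h, U, hh, hah, hU, hηU, hsub⟩ := exists_open_piece F (g i ≫ q) (hF i)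
        ⟨t, (Scheme.Hom.comp_apply _ _ _).trans ((congrArg q ht).trans hx')⟩
      let C' : Closeds X := ⟨(C : Set X) \ U, C.isClosed.sdiff hU⟩
      have hlt : C' < C := by
        refine lt_of_le_of_ne (fun x hx => hx.1) fun e => ?_
        exact (e.symm ▸ (hη.le (subset_closure rfl)) : hC'.genericPoint ∈ C').2 hηU
      refine ((ih C' hlt).union F ⟨Unit, inferInstance, fun _ => S, fun _ => h, fun _ => hh, le_rfl, fun _ => hah⟩).mono F ?_
      intro x hx
      by_cases hxU : x ∈ U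
      · exact .inr (Set.mem_iUnion.2 ⟨(), hsub ⟨hxU, hη.ge hx⟩⟩)
      · exact .inl ⟨hx, hxU⟩
    · rw [isPreirreducible_iff_isClosed_union_isClosed] at hirr
      push Not at hirr
      obtain ⟨z₁, z₂, h₁, h₂, hsub, hn₁, hn₂⟩ := hirr
      have hlt : ∀ {z : Set X} (hz : IsClosed z), ¬ (C : Set X) ⊆ z → C ⊓ ⟨z, hz⟩ < C := fun {z} hz hn =>
        lt_of_le_of_ne inf_le_left fun e => hn fun x hx => ((e.symm ▸ hx : x ∈ C ⊓ ⟨z, hz⟩)).2
      refine ((ih _ (hlt h₁ hn₁)).union F (ih _ (hlt h₂ hn₂))).mono F fun x hx => ?_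
      exact (hsub hx).imp (fun h => ⟨hx, h⟩) (fun h => ⟨hx, h⟩)

end Groth.Agent.EtTorLib
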