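import Groth.Agent.AlgSpDec.EtaleBdd
import Mathlib.LinearAlgebra.FreeModule.Finite.Matrix

/-! bounded numbers of field-valued lifts along etale morphisms -/

universe u

open CategoryTheory CategoryTheory.Limits AlgebraicGeometry

namespace Groth.Agent.EtTorLib

set_option backward.isDefEq.respectTransparency.types false

/-- among any `n + 1` lifts of a field-valued point two coincide -/
def LiftsBdd (n : ℕ) {U X : Scheme.{u}} (p : U ⟶ X) : Prop :=
  ∀ (K : Type u) [Field K] (x : Spec (CommRingCat.of K) ⟶ X) (l : Fin (n + 1) → (Spec (CommRingCat.of K) ⟶ U)),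
    (∀ i, l i ≫ p = x) → ∃ i j, i ≠ j ∧ l i = l j

theorem LiftsBdd.isEmpty {U X : Scheme.{u}} {p : U ⟶ X} (h : LiftsBdd 0 p) : IsEmpty U :=
  ⟨fun a => by
    obtain ⟨i, j, hij, -⟩ := h (U.residueField a) _ (fun _ => U.fromSpecResidueField a) fun _ => rfl
    exact hij (Subsingleton.elim (α := Fin 1) i j)⟩

theorem LiftsBdd.mono {n : ℕ} {U U' X : Scheme.{u}} {p : U ⟶ X} (h : LiftsBdd n p) (i : U' ⟶ U) [Mono i] :
    LiftsBdd n (i ≫ p) := fun K _ x l hl => by
  obtain ⟨a, b, hab, he⟩ := h K x (fun a => l a ≫ i) fun a => (Category.assoc _ _ _).trans (hl a)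
  exact ⟨a, b, hab, (cancel_mono i).1 he⟩

theorem LiftsBdd.snd {n : ℕ} {U X X' : Scheme.{u}} {p : U ⟶ X} (h : LiftsBdd n p) (g : X' ⟶ X) :
    LiftsBdd n (pullback.snd p g) := fun K _ x l hl => by
  obtain ⟨a, b, hab, he⟩ := h K (x ≫ g) (fun a => l a ≫ pullback.fst p g) fun a => by
    rw [Category.assoc, pullback.condition, ← Category.assoc, hl]
  exact ⟨a, b, hab, pullback.hom_ext he ((hl a).trans (hl b).symm)⟩

/-- off a section the bound drops -/
theorem LiftsBdd.compl {n : ℕ} {U X U' : Scheme.{u}} {p : U ⟶ X} (h : LiftsBdd (n + 1) p) (s : X ⟶ U)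
    (hs : s ≫ p = 𝟙 X) (i : U' ⟶ U) [Mono i] (hi : Disjoint (Set.range i) (Set.range s)) :
    LiftsBdd n (i ≫ p) := fun K _ x l hl => by
  obtain ⟨a, b, hab, he⟩ := h K x (Fin.cases (x ≫ s) fun a => l a ≫ i) (Fin.cases (by simp [hs]) fun a => by
    simpa using hl a)
  have key : ∀ a, x ≫ s ≠ l a ≫ i := fun a e => by
    obtain ⟨z⟩ : Nonempty (Spec (CommRingCat.of K)) := ⟨IsLocalRing.closedPoint K⟩
    refine Set.disjoint_left.1 hi ⟨l a z, rfl⟩ ⟨x z, ?_⟩
    rw [← Scheme.Hom.comp_apply, e, Scheme.Hom.comp_apply]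
  cases a using Fin.cases with
  | zero =>
    cases b using Fin.cases with
    | zero => exact absurd rfl hab
    | succ b => exact absurd (by simpa using he) (key b)
  | succ a =>
    cases b using Fin.cases with
    | zero => exact absurd (by simpa using he.symm) (key a)
    | succ b => exact ⟨a, b, fun e => hab (congrArg _ e), (cancel_mono i).1 (by simpa using he)⟩

theorem exists_liftsBdd {U X : Scheme.{u}} (p : U ⟶ X) [Etale p] [CompactSpace U] : ∃ n, LiftsBdd n p := by
  obtain ⟨d, hd⟩ := AlgSpDec.exists_degLE_of_etale p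
  refine ⟨d, fun K _ x l hl => ?_⟩
  obtain ⟨B, _, _, e, he, hfin, hn⟩ := (hd K x).exists_spec
  let σ : Fin (d + 1) → (Spec (CommRingCat.of K) ⟶ pullback x p) := fun i =>
    pullback.lift (𝟙 _) (l i) (by rw [hl, Category.id_comp])
  have h1 : ∀ i, ∃ φ : B →ₐ[K] K, Spec.map (CommRingCat.ofHom φ.toRingHom) = σ i ≫ e.hom := fun i =>
    AlgSpDec.exists_algHom (σ i ≫ e.hom) (by
      rw [Category.assoc, he, pullback.lift_fst]
      exact (Spec.map_id _).symm)
  choose φ hφ using h1
  have hcard : Nat.card (B →ₐ[K] K) ≤ d := (card_algHom_le_finrank K B K).trans hn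
  obtain ⟨i, j, hij, hφij⟩ : ∃ i j, i ≠ j ∧ φ i = φ j := by
    by_contra! hne
    have := Nat.card_le_card_of_injective φ fun i j e => by_contra fun h => hne i j h e
    rw [Nat.card_fin] at this
    omega
  refine ⟨i, j, hij, ?_⟩
  have hσ : σ i = σ j := (cancel_mono e.hom).1 ((hφ i).symm.trans (hφij ▸ hφ j))
  exact (pullback.lift_snd _ _ _).symm.trans ((congrArg (· ≫ pullback.snd x p) hσ).trans (pullback.lift_snd _ _ _))

end Groth.Agent.EtTorLib
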