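import Groth.Agent.AlgSpLib.EtTopInv
import Groth.Agent.S2906
import Mathlib.AlgebraicGeometry.Sites.Fpqc
import Mathlib.AlgebraicGeometry.Morphisms.FlatDescent

/-! a descent datum read off through a universal homeomorphism -/

universe u

open CategoryTheory CategoryTheory.Limits AlgebraicGeometry

namespace Groth.Agent.EtTorLib

set_option backward.isDefEq.respectTransparency.types false
set_option linter.style.haveILetI false

variable {X Y U W R : Scheme.{u}} (f : X ⟶ Y) (g : W ⟶ Y) (r : R ⟶ W) (q : pullback (r ≫ g) f ⟶ U) (uh : U ⟶ X)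

theorem existsUnique_point [IsIntegralHom f] [UniversallyInjective f] [Surjective f] [Etale r]
    (sq : IsPullback q (pullback.map (r ≫ g) f g f r (𝟙 X) (𝟙 Y) (by simp) (by simp)) uh (pullback.snd g f))
    {T : Scheme.{u}} (y : T ⟶ Y) (x : T ⟶ W) (hx : x ≫ g = y) (k : pullback y f ⟶ U)
    (hk : k ≫ uh = pullback.snd y f) :
    ∃! v : T ⟶ R, v ≫ r = x ∧ ∀ h : (pullback.fst y f ≫ v) ≫ r ≫ g = pullback.snd y f ≫ f,
      pullback.lift (pullback.fst y f ≫ v) (pullback.snd y f) h ≫ q = k := by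
  have w0 : (pullback.fst y f ≫ x) ≫ g = pullback.snd y f ≫ f := by
    rw [Category.assoc, hx, pullback.condition]
  obtain ⟨k0, hk0, hk0'⟩ := sq.exists_lift k (pullback.lift (pullback.fst y f ≫ x) (pullback.snd y f) w0)
    (by rw [pullback.lift_snd, hk])
  have hr : (k0 ≫ pullback.fst (r ≫ g) f) ≫ r = pullback.fst y f ≫ x := by
    have := congrArg (· ≫ pullback.fst g f) hk0'
    simpa only [Category.assoc, pullback.lift_fst] using this
  have hs : k0 ≫ pullback.snd (r ≫ g) f = pullback.snd y f := by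
    have := congrArg (· ≫ pullback.snd g f) hk0'
    simpa only [Category.assoc, pullback.lift_snd, Category.comp_id] using this
  haveI : IsIntegralHom (pullback.fst y f) := MorphismProperty.pullback_fst _ _ ‹IsIntegralHom f›
  haveI : UniversallyInjective (pullback.fst y f) := MorphismProperty.pullback_fst _ _ ‹UniversallyInjective f›
  haveI : Surjective (pullback.fst y f) := MorphismProperty.pullback_fst _ _ ‹Surjective f›
  haveI : Etale (pullback.snd r x) := MorphismProperty.pullback_snd _ _ ‹Etale r›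
  obtain ⟨σ, ⟨hσ, hσc⟩, huniq⟩ := AlgSpLib.EtTopInv.existsUnique_extend (pullback.snd r x) (pullback.fst y f)
    (pullback.lift (k0 ≫ pullback.fst (r ≫ g) f) (pullback.fst y f) hr) (pullback.lift_snd _ _ _)
  refine ⟨σ ≫ pullback.fst r x, ⟨?_, fun h => ?_⟩, fun v hv => ?_⟩
  · rw [Category.assoc, pullback.condition, ← Category.assoc, hσ, Category.id_comp]
  · have : pullback.lift (pullback.fst y f ≫ σ ≫ pullback.fst r x) (pullback.snd y f) h = k0 :=
      pullback.hom_ext (by rw [pullback.lift_fst, ← Category.assoc, hσc, pullback.lift_fst])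
        (by rw [pullback.lift_snd, hs])
    rw [this, hk0]
  · have h : (pullback.fst y f ≫ v) ≫ r ≫ g = pullback.snd y f ≫ f := by
      rw [Category.assoc, ← Category.assoc v, hv.1, hx, pullback.condition]
    have hkv : pullback.lift (pullback.fst y f ≫ v) (pullback.snd y f) h = k0 := by
      refine sq.hom_ext ((hv.2 h).trans hk0.symm) (Eq.trans ?_ hk0'.symm)
      apply pullback.hom_ext
      · simp only [Category.assoc, pullback.lift_fst, pullback.lift_fst_assoc]
        rw [hv.1]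
      · simp only [Category.assoc, pullback.lift_snd, pullback.lift_snd_assoc, Category.comp_id]
    have := huniq (pullback.lift v (𝟙 T) (hv.1.trans (Category.id_comp x).symm)) ⟨pullback.lift_snd _ _ _,
      pullback.hom_ext (by
        rw [Category.assoc, pullback.lift_fst, pullback.lift_fst, ← hkv, pullback.lift_fst])
        (by rw [Category.assoc, pullback.lift_snd, pullback.lift_snd, Category.comp_id])⟩
    rw [← this, pullback.lift_fst]

/-- two points of `R` give the same point of `U` -/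
def SamePt {T : Scheme.{u}} (v₀ v₁ : T ⟶ R) : Prop :=
  ∀ ⦃T' : Scheme.{u}⦄ (a : T' ⟶ T) (t : T' ⟶ X) (h₀ : (a ≫ v₀) ≫ r ≫ g = t ≫ f)
    (h₁ : (a ≫ v₁) ≫ r ≫ g = t ≫ f), pullback.lift (a ≫ v₀) t h₀ ≫ q = pullback.lift (a ≫ v₁) t h₁ ≫ q

theorem lift_comp_point {T T' : Scheme.{u}} {y : T ⟶ Y} (v : T ⟶ R) (a : T' ⟶ T) (t : T' ⟶ X) (hd : a ≫ y = t ≫ f)
    (h : (pullback.fst y f ≫ v) ≫ r ≫ g = pullback.snd y f ≫ f) (h' : (a ≫ v) ≫ r ≫ g = t ≫ f) :
    pullback.lift a t hd ≫ pullback.lift (pullback.fst y f ≫ v) (pullback.snd y f) h =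
      pullback.lift (a ≫ v) t h' :=
  pullback.hom_ext (by rw [Category.assoc, pullback.lift_fst, pullback.lift_fst_assoc, pullback.lift_fst])
    (by rw [Category.assoc, pullback.lift_snd, pullback.lift_snd, pullback.lift_snd])

theorem existsUnique_same [IsIntegralHom f] [UniversallyInjective f] [Surjective f] [Etale r]
    (sq : IsPullback q (pullback.map (r ≫ g) f g f r (𝟙 X) (𝟙 Y) (by simp) (by simp)) uh (pullback.snd g f))
    {T : Scheme.{u}} (x₀ x₁ : T ⟶ W) (h : x₀ ≫ g = x₁ ≫ g) (v₀ : T ⟶ R) (hv : v₀ ≫ r = x₀) :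
    ∃! v₁ : T ⟶ R, v₁ ≫ r = x₁ ∧ SamePt f g r q v₀ v₁ := by
  have hy : ∀ (v : T ⟶ R), v ≫ r ≫ g = x₀ ≫ g →
      (pullback.fst (x₀ ≫ g) f ≫ v) ≫ r ≫ g = pullback.snd (x₀ ≫ g) f ≫ f := fun v e => by
    rw [Category.assoc, e, pullback.condition]
  have e0 : v₀ ≫ r ≫ g = x₀ ≫ g := by rw [← Category.assoc, hv]
  have hk : (pullback.lift (pullback.fst (x₀ ≫ g) f ≫ v₀) (pullback.snd (x₀ ≫ g) f) (hy v₀ e0) ≫ q) ≫ uh =
      pullback.snd (x₀ ≫ g) f := by
    rw [Category.assoc, sq.w, ← Category.assoc]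
    simp only [Category.assoc, pullback.lift_snd, pullback.lift_snd_assoc, Category.comp_id]
  obtain ⟨v₁, ⟨hv₁, hq⟩, huniq⟩ := existsUnique_point f g r q uh sq (x₀ ≫ g) x₁ h.symm _ hk
  have e1 : ∀ v : T ⟶ R, v ≫ r = x₁ → v ≫ r ≫ g = x₀ ≫ g := fun v e => by rw [← Category.assoc, e, h]
  refine ⟨v₁, ⟨hv₁, fun T' a t h₀ h₁ => ?_⟩, fun v hv' => huniq v ⟨hv'.1, fun h' => ?_⟩⟩
  · have hd : a ≫ x₀ ≫ g = t ≫ f := by rw [← e0, ← Category.assoc, h₀]
    rw [← lift_comp_point f g r v₀ a t hd (hy v₀ e0) h₀, ← lift_comp_point f g r v₁ a t hd (hy v₁ (e1 v₁ hv₁)) h₁,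
      Category.assoc, Category.assoc, hq]
  · exact (hv'.2 (pullback.fst (x₀ ≫ g) f) (pullback.snd (x₀ ≫ g) f) (hy v₀ e0) h').symm

variable [IsIntegralHom f] [UniversallyInjective f] [Surjective f] [Etale r]

theorem SamePt.symm {T : Scheme.{u}} {v₀ v₁ : T ⟶ R} (h : SamePt f g r q v₀ v₁) : SamePt f g r q v₁ v₀ :=
  fun _ a t h₀ h₁ => (h a t h₁ h₀).symm

theorem SamePt.trans {T : Scheme.{u}} {v₀ v₁ v₂ : T ⟶ R} (e : v₀ ≫ r ≫ g = v₁ ≫ r ≫ g)
    (h : SamePt f g r q v₀ v₁) (h' : SamePt f g r q v₁ v₂) : SamePt f g r q v₀ v₂ :=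
  fun _ a t h₀ h₁ => (h a t h₀ (by rw [Category.assoc, ← e, ← Category.assoc, h₀])).trans (h' a t _ h₁)

/-- the descent datum on `R` -/
noncomputable def samePtDD {O : Scheme.{u}} (g' : W ⟶ O)
    (sq : IsPullback q (pullback.map (r ≫ g) f g f r (𝟙 X) (𝟙 Y) (by simp) (by simp)) uh (pullback.snd g f))
    (hg : ∀ ⦃T : Scheme.{u}⦄ (x₀ x₁ : T ⟶ W), x₀ ≫ g' = x₁ ≫ g' → x₀ ≫ g = x₁ ≫ g) : Desc.SchDD g' where
  obj := Over.mk r
  φ T x₀ x₁ h :=
    { toFun := fun v => ⟨(existsUnique_same f g r q uh sq x₀ x₁ (hg _ _ h) v.1 v.2).exists.choose,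
        (existsUnique_same f g r q uh sq x₀ x₁ (hg _ _ h) v.1 v.2).exists.choose_spec.1⟩
      invFun := fun v => ⟨(existsUnique_same f g r q uh sq x₁ x₀ (hg _ _ h.symm) v.1 v.2).exists.choose,
        (existsUnique_same f g r q uh sq x₁ x₀ (hg _ _ h.symm) v.1 v.2).exists.choose_spec.1⟩
      left_inv := fun v => by
        have a := (existsUnique_same f g r q uh sq x₀ x₁ (hg _ _ h) v.1 v.2).exists.choose_spec
        have b := existsUnique_same f g r q uh sq x₁ x₀ (hg _ _ h.symm) _ a.1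
        exact Subtype.ext (b.unique b.exists.choose_spec ⟨v.2, a.2.symm⟩)
      right_inv := fun v => by
        have a := (existsUnique_same f g r q uh sq x₁ x₀ (hg _ _ h.symm) v.1 v.2).exists.choose_spec
        have b := existsUnique_same f g r q uh sq x₀ x₁ (hg _ _ h) _ a.1
        exact Subtype.ext (b.unique b.exists.choose_spec ⟨v.2, a.2.symm⟩) }
  φ_natural T T' a x₀ x₁ h h' v v' hv' := by
    have b := existsUnique_same f g r q uh sq (a ≫ x₀) (a ≫ x₁) (hg _ _ h') v'.1 v'.2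
    have c := (existsUnique_same f g r q uh sq x₀ x₁ (hg _ _ h) v.1 v.2).exists.choose_spec
    refine b.unique b.exists.choose_spec ⟨(Category.assoc _ _ _).trans (congrArg (a ≫ ·) c.1), ?_⟩
    intro T'' a' t h₀ h₁
    dsimp only [Equiv.coe_fn_mk] at h₁ ⊢
    simp only [hv'] at h₀ ⊢
    simpa only [Category.assoc] using c.2 (a' ≫ a) t (by simpa only [Category.assoc] using h₀)
      (by simpa only [Category.assoc] using h₁)
  φ_self T x v := by
    have b := existsUnique_same f g r q uh sq x x (hg _ _ rfl) v.1 v.2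
    exact Subtype.ext (b.unique b.exists.choose_spec ⟨v.2, fun _ _ _ _ _ => rfl⟩)
  φ_comp T x₀ x₁ x₂ h₀₁ h₁₂ v := by
    have a := (existsUnique_same f g r q uh sq x₀ x₁ (hg _ _ h₀₁) v.1 v.2).exists.choose_spec
    have b := (existsUnique_same f g r q uh sq x₁ x₂ (hg _ _ h₁₂) _ a.1).exists.choose_spec
    have c := existsUnique_same f g r q uh sq x₀ x₂ (hg _ _ (h₀₁.trans h₁₂)) v.1 v.2
    refine Subtype.ext (c.unique ⟨b.1, a.2.trans f g r q ?_ b.2⟩ c.exists.choose_spec)
    have hv : v.1 ≫ r = x₀ := v.2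
    rw [← Category.assoc, hv, ← Category.assoc, a.1]
    exact hg _ _ h₀₁

theorem samePt_φ {O : Scheme.{u}} (g' : W ⟶ O)
    (sq : IsPullback q (pullback.map (r ≫ g) f g f r (𝟙 X) (𝟙 Y) (by simp) (by simp)) uh (pullback.snd g f))
    (hg : ∀ ⦃T : Scheme.{u}⦄ (x₀ x₁ : T ⟶ W), x₀ ≫ g' = x₁ ≫ g' → x₀ ≫ g = x₁ ≫ g)
    {T : Scheme.{u}} (x₀ x₁ : T ⟶ W) (h : x₀ ≫ g' = x₁ ≫ g') (v : Desc.Lifts (samePtDD f g r q uh g' sq hg).obj x₀) :
    SamePt f g r q v.1 ((samePtDD f g r q uh g' sq hg).φ x₀ x₁ h v).1 :=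
  (existsUnique_same f g r q uh sq x₀ x₁ (hg _ _ h) v.1 v.2).exists.choose_spec.2

/-- the local lift furnished by descent -/
theorem exists_iso_of_descent {O : Scheme.{u}} (ι : O ⟶ Y) [Mono ι] [Etale ι] (g' : W ⟶ O) [Flat g'] [Surjective g']
    [QuasiCompact g'] (hgι : g' ≫ ι = g) [QuasiCompact r] [IsSeparated r] [Surjective q] [Flat g] [QuasiCompact g]
    (sq : IsPullback q (pullback.map (r ≫ g) f g f r (𝟙 X) (𝟙 Y) (by simp) (by simp)) uh (pullback.snd g f)) :
    ∃ (V : Scheme.{u}) (v : V ⟶ Y) (k : pullback v f ⟶ U), Etale v ∧ IsIso k ∧ k ≫ uh = pullback.snd v f := by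
  have hgg : ∀ ⦃T : Scheme.{u}⦄ (x₀ x₁ : T ⟶ W), x₀ ≫ g' = x₁ ≫ g' → x₀ ≫ g = x₁ ≫ g := fun T x₀ x₁ h => by
    rw [← hgι, ← Category.assoc, h, Category.assoc]
  let D := samePtDD f g r q uh g' sq hgg
  haveI : QuasiCompact D.obj.hom := ‹QuasiCompact r›
  haveI : IsSeparated D.obj.hom := ‹IsSeparated r›
  haveI : Etale D.obj.hom := ‹Etale r›
  obtain ⟨U', _, _, hU', ⟨e⟩⟩ := Groth.Agent.S2906.result g' D
  haveI := hU'
  let v : U'.left ⟶ Y := U'.hom ≫ ι
  let P := pullback (pullback.fst g' U'.hom ≫ g) f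
  let π : P ⟶ pullback v f := pullback.lift (pullback.fst _ f ≫ pullback.snd g' U'.hom) (pullback.snd _ f) (by
    rw [Category.assoc, show pullback.snd g' U'.hom ≫ v = pullback.fst g' U'.hom ≫ g from by
      rw [← hgι]; simp only [v, ← Category.assoc, pullback.condition], pullback.condition])
  let ε : pullback g' U'.hom ⟶ R := e.hom.hom.left
  haveI hε : IsIso ε := ⟨e.inv.hom.left, congrArg (fun a => a.hom.left) e.hom_inv_id,
    congrArg (fun a => a.hom.left) e.inv_hom_id⟩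
  have hεr : ε ≫ r = pullback.fst g' U'.hom := Over.w e.hom.hom
  let εP : P ⟶ pullback (r ≫ g) f := pullback.lift (pullback.fst _ f ≫ ε) (pullback.snd _ f) (by
    rw [Category.assoc, ← Category.assoc ε, hεr, pullback.condition])
  have e1 : pullback.snd g' U'.hom ≫ v = pullback.fst g' U'.hom ≫ g := by
    rw [← hgι]; simp only [v, ← Category.assoc, pullback.condition]
  have hπ₁ : π ≫ pullback.fst v f = pullback.fst _ f ≫ pullback.snd g' U'.hom := pullback.lift_fst _ _ _
  have hπ₂ : π ≫ pullback.snd v f = pullback.snd _ f := pullback.lift_snd _ _ _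
  have sqπ : IsPullback π (pullback.fst (pullback.fst g' U'.hom ≫ g) f) (pullback.fst v f) (pullback.snd g' U'.hom) := by
    refine IsPullback.of_right ?_ hπ₁ (IsPullback.of_hasPullback v f).flip
    rw [hπ₂, e1]
    exact (IsPullback.of_hasPullback _ _).flip
  have hπ : (@Surjective ⊓ @Flat ⊓ @QuasiCompact : MorphismProperty Scheme.{u}) π :=
    MorphismProperty.of_isPullback sqπ.flip (MorphismProperty.pullback_snd g' U'.hom
      (⟨⟨inferInstance, inferInstance⟩, inferInstance⟩ : (@Surjective ⊓ @Flat ⊓ @QuasiCompact : MorphismProperty Scheme.{u}) g'))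
  haveI : Surjective π := hπ.1.1
  haveI : Flat π := hπ.1.2
  haveI : QuasiCompact π := hπ.2
  let s : P ⟶ U := εP ≫ q
  have hεP₁ : εP ≫ pullback.fst _ f = pullback.fst _ f ≫ ε := pullback.lift_fst _ _ _
  have hεP₂ : εP ≫ pullback.snd _ f = pullback.snd _ f := pullback.lift_snd _ _ _
  have key : ∀ {Z : Scheme.{u}} (a b : Z ⟶ P), a ≫ π = b ≫ π → a ≫ s = b ≫ s := by
    intro Z a b hab
    have hu : (a ≫ pullback.fst _ f) ≫ pullback.snd g' U'.hom = (b ≫ pullback.fst _ f) ≫ pullback.snd g' U'.hom := by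
      have := congrArg (· ≫ pullback.fst v f) hab
      simpa only [Category.assoc, hπ₁] using this
    have ht : a ≫ pullback.snd _ f = b ≫ pullback.snd _ f := by
      have := congrArg (· ≫ pullback.snd v f) hab
      simpa only [Category.assoc, hπ₂] using this
    let a₁ := a ≫ pullback.fst (pullback.fst g' U'.hom ≫ g) f
    let b₁ := b ≫ pullback.fst (pullback.fst g' U'.hom ≫ g) f
    have h : (a₁ ≫ pullback.fst g' U'.hom) ≫ g' = (b₁ ≫ pullback.fst g' U'.hom) ≫ g' := by
      simp only [Category.assoc, pullback.condition]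
      rw [← Category.assoc, ← Category.assoc b₁]
      exact congrArg (· ≫ U'.hom) hu
    have hb : (((Desc.toDD g').obj U').φ _ _ h ⟨a₁, rfl⟩).1 = b₁ := by
      apply pullback.hom_ext
      · exact pullback.lift_fst _ _ _
      · exact (pullback.lift_snd _ _ _).trans hu
    have hw : (D.φ _ _ h ⟨a₁ ≫ ε, (Category.assoc _ _ _).trans (congrArg (a₁ ≫ ·) hεr)⟩).1 = b₁ ≫ ε := by
      rw [e.hom.comm _ _ h ⟨a₁, rfl⟩ ⟨a₁ ≫ ε, _⟩ rfl, hb]
      rfl
    have hs := samePt_φ f g r q uh g' sq hgg _ _ h ⟨a₁ ≫ ε, (Category.assoc _ _ _).trans (congrArg (a₁ ≫ ·) hεr)⟩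
      (𝟙 Z) (a ≫ pullback.snd _ f)
    rw [hw] at hs
    have h₀ : (a ≫ εP) ≫ pullback.fst (r ≫ g) f = a₁ ≫ ε := by
      rw [Category.assoc, hεP₁, ← Category.assoc]
    have h₁ : (b ≫ εP) ≫ pullback.fst (r ≫ g) f = b₁ ≫ ε := by
      rw [Category.assoc, hεP₁, ← Category.assoc]
    have h0' : (𝟙 Z ≫ a₁ ≫ ε) ≫ r ≫ g = (a ≫ pullback.snd _ f) ≫ f := by
      rw [Category.id_comp, ← h₀, Category.assoc, pullback.condition]
      simp only [← Category.assoc]
      rw [Category.assoc a, hεP₂]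
    have h1' : (𝟙 Z ≫ b₁ ≫ ε) ≫ r ≫ g = (a ≫ pullback.snd _ f) ≫ f := by
      rw [Category.id_comp, ← h₁, Category.assoc, pullback.condition, ht]
      simp only [← Category.assoc]
      rw [Category.assoc b, hεP₂]
    have := hs h0' h1'
    show a ≫ εP ≫ q = b ≫ εP ≫ q
    rw [← Category.assoc, ← Category.assoc b]
    refine Eq.trans (congrArg (· ≫ q) (pullback.hom_ext ?_ ?_)) (this.trans (congrArg (· ≫ q) (pullback.hom_ext ?_ ?_)))
    · rw [h₀, pullback.lift_fst, Category.id_comp]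
      rfl
    · rw [pullback.lift_snd, Category.assoc, hεP₂]
    · rw [h₁, pullback.lift_fst, Category.id_comp]
    · rw [pullback.lift_snd, Category.assoc, hεP₂, ht]
  let mR : pullback (r ≫ g) f ⟶ pullback g f := pullback.map (r ≫ g) f g f r (𝟙 X) (𝟙 Y) (by simp) (by simp)
  have hmR₁ : mR ≫ pullback.fst g f = pullback.fst _ f ≫ r := pullback.lift_fst _ _ _
  have hmR₂ : mR ≫ pullback.snd g f = pullback.snd _ f := (pullback.lift_snd _ _ _).trans (Category.comp_id _)
  let k : pullback v f ⟶ U := EffectiveEpi.desc π s key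
  have hk : π ≫ k = s := EffectiveEpi.fac _ _ _
  have hku : k ≫ uh = pullback.snd v f := by
    rw [← cancel_epi π, ← Category.assoc, hk]
    show (εP ≫ q) ≫ uh = π ≫ pullback.snd v f
    rw [Category.assoc, sq.w, hπ₂, ← hεP₂, ← hmR₂]
  haveI : IsIso εP := ⟨pullback.lift (pullback.fst (r ≫ g) f ≫ inv ε) (pullback.snd _ f) (by
      rw [Category.assoc, show inv ε ≫ pullback.fst g' U'.hom ≫ g = r ≫ g from by rw [← hεr]; simp,
        pullback.condition]),
    pullback.hom_ext (by rw [Category.assoc, pullback.lift_fst, ← Category.assoc, hεP₁, Category.assoc,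
        IsIso.hom_inv_id, Category.comp_id, Category.id_comp])
      (by rw [Category.assoc, pullback.lift_snd, hεP₂, Category.id_comp]),
    pullback.hom_ext (by rw [Category.assoc, hεP₁, ← Category.assoc, pullback.lift_fst, Category.assoc,
        IsIso.inv_hom_id, Category.comp_id, Category.id_comp])
      (by rw [Category.assoc, hεP₂, pullback.lift_snd, Category.id_comp])⟩
  have h2 : IsPullback (pullback.snd g' U'.hom) (pullback.fst g' U'.hom) v g :=
    hgι ▸ (IsPullback.of_isLimit (PullbackCone.isLimitOfCompMono g' U'.hom ι _ (pullback.isLimit g' U'.hom))).flip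
  have sqv : IsPullback π (εP ≫ mR) (pullback.snd v f) (pullback.snd g f) := by
    refine IsPullback.of_bot ?_ (by rw [hπ₂, Category.assoc, hmR₂, hεP₂]) (IsPullback.of_hasPullback g f).flip
    rw [Category.assoc, hmR₁, ← Category.assoc, hεP₁, Category.assoc, hεr, ← pullback.condition]
    exact sqπ.paste_vert h2
  have sqk : IsPullback π εP k q := IsPullback.of_bot (by rw [hku]; exact sqv) hk sq.flip.flip
  have hg : (@Surjective ⊓ @Flat ⊓ @QuasiCompact : MorphismProperty Scheme.{u}) q := by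
    have h : (@Flat ⊓ @QuasiCompact : MorphismProperty Scheme.{u}) q :=
      MorphismProperty.of_isPullback sq.flip (MorphismProperty.pullback_snd g f
        (⟨‹Flat g›, ‹QuasiCompact g›⟩ : (@Flat ⊓ @QuasiCompact : MorphismProperty Scheme.{u}) g))
    exact ⟨⟨‹Surjective q›, h.1⟩, h.2⟩
  exact ⟨_, v, k, inferInstance, MorphismProperty.of_isPullback_of_descendsAlong
    (P := MorphismProperty.isomorphisms Scheme.{u}) sqk.flip hg (inferInstanceAs (IsIso εP)), hku⟩

end Groth.Agent.EtTorLib
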