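import Groth.Agent.EtTorLib.TopInvBdd
import Groth.Agent.EtTorLib.TopInvDescent
import Groth.Agent.EtFound.TopInvGlue
import Groth.Agent.EtFound.IntegralSplit
import Groth.Agent.DescLib.SepSurj
import Groth.Agent.AlgSpLib.Descends2

/-! etale schemes descend along universal homeomorphisms -/

universe u

open CategoryTheory CategoryTheory.Limits AlgebraicGeometry

namespace Groth.Agent.EtTorLib

set_option backward.isDefEq.respectTransparency.types false
set_option linter.style.haveILetI false

open EtFound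

/-- etale schemes with boundedly many lifts come locally from the base -/
theorem exists_local_lift_of_bdd (n : ℕ) : ∀ {X Y : Scheme.{u}} (f : X ⟶ Y) [IsIntegralHom f] [UniversallyInjective f]
    [Surjective f] [IsAffine Y] (U : X.Etale) [IsSeparated U.hom] [QuasiCompact U.hom], LiftsBdd n U.hom →
      ∀ x : U.left, ∃ (V : Y.Etale) (m : (EtCoh.bc f).obj V ⟶ U), IsOpenImmersion m.left ∧ x ∈ Set.range m.left.base := by
  induction n with
  | zero =>
    intro X Y f _ _ _ _ U _ _ h x
    exact h.isEmpty.elim x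
  | succ n ih =>
    intro X Y f _ _ _ _ U _ _ hU x
    haveI : Etale U.hom := U.prop
    obtain ⟨V₀, v, _, -, -, h, hh, p, hp⟩ := exists_split f U.hom (f (U.hom x)) (fun a ha => ⟨x, (f.injective ha).symm⟩) x rfl
    obtain ⟨_, ⟨(A : V₀.Opens), hA, rfl⟩, hpA, -⟩ := V₀.isBasis_affineOpens.exists_subset_of_mem_open
      (Set.mem_univ (pullback.snd f v p)) isOpen_univ
    haveI : IsAffine A.toScheme := hA
    let g : A.toScheme ⟶ Y := A.ι ≫ v
    haveI : Etale g := inferInstanceAs (Etale (A.ι ≫ v))
    haveI : IsAffine (pullback g f) := isAffine_of_isAffineHom (pullback.fst g f)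
    let β : pullback g f ⟶ pullback f v := pullback.lift (pullback.snd g f) (pullback.fst g f ≫ A.ι) (by
      rw [Category.assoc, ← pullback.condition])
    let hW : pullback g f ⟶ U.left := β ≫ h
    have hWu : hW ≫ U.hom = pullback.snd g f := by rw [Category.assoc, hh]; exact pullback.lift_fst _ _ _
    haveI : Etale (pullback.snd g f) := MorphismProperty.pullback_snd _ _ ‹Etale g›
    haveI : Etale hW := MorphismProperty.of_postcomp @Etale hW U.hom ‹Etale U.hom› (hWu.symm ▸ ‹Etale (pullback.snd g f)›)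
    haveI : UniversallyInjective (pullback.snd f v) := MorphismProperty.pullback_snd _ _ ‹UniversallyInjective f›
    have hx : x ∈ Set.range hW := by
      obtain ⟨a, ha₁, ha₂⟩ := Scheme.Pullback.exists_preimage_pullback (f := g) (g := f) (⟨_, hpA⟩ : A)
        (U.hom x) (by
          refine (Scheme.Hom.comp_apply A.ι v _).trans ?_
          refine (Scheme.Hom.comp_apply (pullback.snd f v) v p).symm.trans ?_
          rw [← pullback.condition, Scheme.Hom.comp_apply, ← hp, ← Scheme.Hom.comp_apply h, hh])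
      have : β a = p := (Scheme.Hom.injective (pullback.snd f v)) (by
        rw [← Scheme.Hom.comp_apply, pullback.lift_snd, Scheme.Hom.comp_apply, ha₁]
        rfl)
      exact ⟨a, (Scheme.Hom.comp_apply _ _ _).trans (this ▸ hp)⟩
    let O : U.left.Opens := ⟨Set.range hW, hW.isOpenMap.isOpen_range⟩
    let uh : O.toScheme ⟶ X := O.ι ≫ U.hom
    haveI : CompactSpace O.toScheme := isCompact_iff_compactSpace.mp (isCompact_range hW.continuous)
    haveI : IsAffine X := isAffine_of_isAffineHom f
    haveI : IsSeparated uh := inferInstanceAs (IsSeparated (O.ι ≫ U.hom))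
    haveI : QuasiCompact uh := quasiCompact_of_compactSpace (X := O.toScheme) (Y := X) (O.ι ≫ U.hom)
    let h' : pullback g f ⟶ O.toScheme := IsOpenImmersion.lift O.ι hW (by rw [Scheme.Opens.range_ι]; rfl)
    have hh' : h' ≫ uh = pullback.snd g f := by
      show h' ≫ O.ι ≫ U.hom = _
      rw [← Category.assoc, IsOpenImmersion.lift_fac, hWu]
    haveI : Etale uh := inferInstanceAs (Etale (O.ι ≫ U.hom))
    let pU := pullback.fst uh (pullback.snd g f)
    let π := pullback.snd uh (pullback.snd g f)
    haveI : Etale π := MorphismProperty.pullback_snd _ _ ‹Etale uh›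
    haveI : IsSeparated π := MorphismProperty.pullback_snd _ _ ‹IsSeparated uh›
    haveI : QuasiCompact π := MorphismProperty.pullback_snd _ _ ‹QuasiCompact uh›
    let s : pullback g f ⟶ pullback uh (pullback.snd g f) := pullback.lift h' (𝟙 _) (by rw [hh', Category.id_comp])
    have hs : s ≫ π = 𝟙 _ := pullback.lift_snd _ _ _
    haveI : IsClosedImmersion s := by
      haveI : IsClosedImmersion (s ≫ π) := by rw [hs]; infer_instance
      exact IsClosedImmersion.of_comp s π
    haveI : Etale s := MorphismProperty.of_postcomp @Etale s π ‹Etale π› (hs.symm ▸ inferInstanceAs (Etale (𝟙 _)))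
    haveI : IsOpenImmersion s := isOpenImmersion_of_etale_univInj s
    let c : pullback g f ⟶ A.toScheme := pullback.fst g f
    haveI : IsIntegralHom c := MorphismProperty.pullback_fst _ _ ‹IsIntegralHom f›
    haveI : UniversallyInjective c := MorphismProperty.pullback_fst _ _ ‹UniversallyInjective f›
    haveI : Surjective c := MorphismProperty.pullback_fst _ _ ‹Surjective f›
    let UW : (pullback g f).Etale := Scheme.Etale.mk π
    obtain ⟨R, ⟨e⟩⟩ := essImage_of_local c UW fun w => by
      by_cases hw : w ∈ Set.range s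
      · let m : pullback (𝟙 A.toScheme) c ⟶ pullback uh (pullback.snd g f) := pullback.snd (𝟙 A.toScheme) c ≫ s
        have hm : m ≫ π = pullback.snd (𝟙 A.toScheme) c := by rw [Category.assoc, hs, Category.comp_id]
        obtain ⟨b, rfl⟩ := hw
        obtain ⟨b', rfl⟩ := (pullback.snd (𝟙 A.toScheme) c).surjective b
        exact ⟨Scheme.Etale.mk (𝟙 A.toScheme), MorphismProperty.Over.homMk m hm,
          (inferInstance : IsOpenImmersion m),
          b', Scheme.Hom.comp_apply _ _ _⟩
      · let O₁ : (pullback uh (pullback.snd g f)).Opens := ⟨(Set.range s)ᶜ, s.isClosedEmbedding.isClosed_range.isOpen_compl⟩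
        haveI hO₁ : IsOpenImmersion O₁.ι := inferInstance
        let U₁ : (pullback g f).Etale := Scheme.Etale.mk (O₁.ι ≫ π)
        haveI : CompactSpace (pullback uh (pullback.snd g f) : Scheme.{u}) := QuasiCompact.compactSpace_of_compactSpace π
        haveI : CompactSpace O₁.toScheme := isCompact_iff_compactSpace.mp
          (s.isOpenEmbedding.isOpen_range.isClosed_compl.isCompact)
        haveI : IsSeparated U₁.hom := inferInstanceAs (IsSeparated (O₁.ι ≫ π))
        haveI : QuasiCompact U₁.hom := quasiCompact_of_compactSpace (X := O₁.toScheme) (Y := pullback g f) (O₁.ι ≫ π)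
        have hb : LiftsBdd n (O₁.ι ≫ π) :=
          ((hU.mono O.ι).snd (pullback.snd g f)).compl s hs O₁.ι (by
            rw [Scheme.Opens.range_ι]; exact disjoint_compl_left)
        obtain ⟨V, m, hm, a, ha⟩ := ih c U₁ hb ⟨w, hw⟩
        refine ⟨V, MorphismProperty.Over.homMk (m.left ≫ O₁.ι)
          ((Category.assoc _ _ _).trans (MorphismProperty.Over.w m)), ?_, a, ?_⟩
        · exact @IsOpenImmersion.comp _ _ _ m.left O₁.ι hm hO₁
        · exact (Scheme.Hom.comp_apply m.left O₁.ι a).trans (congrArg O₁.ι.base ha)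
    haveI : Etale R.hom := R.prop
    haveI : IsIso e.hom.left := ⟨e.inv.left, congrArg (fun a => a.left) e.hom_inv_id, congrArg (fun a => a.left) e.inv_hom_id⟩
    let εR : pullback R.hom c ⟶ pullback uh (pullback.snd g f) := e.hom.left
    haveI : IsIso εR := inferInstanceAs (IsIso e.hom.left)
    have hεR : εR ≫ π = pullback.snd R.hom c := MorphismProperty.Over.w e.hom
    haveI : IsIntegralHom (pullback.fst R.hom c) := MorphismProperty.pullback_fst _ _ ‹IsIntegralHom c›
    haveI : Surjective (pullback.fst R.hom c) := MorphismProperty.pullback_fst _ _ ‹Surjective c›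
    haveI : IsSeparated (pullback.fst R.hom c ≫ R.hom) := by rw [pullback.condition, ← hεR]; infer_instance
    haveI : QuasiCompact (pullback.fst R.hom c ≫ R.hom) := by rw [pullback.condition, ← hεR]; infer_instance
    haveI : IsSeparated R.hom := DescLib.isSeparated_of_comp_surjective (pullback.fst R.hom c) R.hom
    haveI : QuasiCompact R.hom := AlgSpLib.quasiCompact_of_comp_surjective (pullback.fst R.hom c) R.hom
    let α := pullbackRightPullbackFstIso g f R.hom
    let q : pullback (R.hom ≫ g) f ⟶ O.toScheme := (α.inv ≫ εR) ≫ pU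
    have sq : IsPullback q (pullback.map (R.hom ≫ g) f g f R.hom (𝟙 X) (𝟙 Y) (by simp) (by simp)) uh
        (pullback.snd g f) := by
      refine (IsPullback.of_hasPullback uh (pullback.snd g f)).of_iso (asIso (α.inv ≫ εR)).symm (Iso.refl _)
        (Iso.refl _) (Iso.refl _) ?_ ?_ (by simp) (by simp)
      · simp [q, pU]
      · simp only [Iso.refl_hom, Category.comp_id, Iso.symm_hom, asIso_inv]
        rw [IsIso.eq_inv_comp, Category.assoc]
        show α.inv ≫ εR ≫ π = _
        rw [hεR]
        apply pullback.hom_ext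
        · refine Eq.trans ?_ (pullback.lift_fst _ _ _).symm
          simp [α, c, ← pullback.condition]
        · refine Eq.trans ?_ ((pullback.lift_snd _ _ _).trans (Category.comp_id _)).symm
          simp [α, c]
    haveI : Surjective q := by
      haveI : Surjective pU := ⟨fun a => by
        obtain ⟨b, hb⟩ := (show O.ι a ∈ Set.range hW from a.2)
        refine ⟨s b, O.ι.injective ?_⟩
        refine (Scheme.Hom.comp_apply h' O.ι b).symm.trans ?_ |> (congrArg O.ι.base ((Scheme.Hom.comp_apply s pU b).symm.trans (congrArg (fun k : _ ⟶ O.toScheme => k b) (pullback.lift_fst _ _ _)))).trans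
        rw [IsOpenImmersion.lift_fac, hb]⟩
      infer_instance
    let OY : Y.Opens := ⟨Set.range g, g.isOpenMap.isOpen_range⟩
    let g' : A.toScheme ⟶ OY.toScheme := IsOpenImmersion.lift OY.ι g (by rw [Scheme.Opens.range_ι]; rfl)
    have hg' : g' ≫ OY.ι = g := IsOpenImmersion.lift_fac _ _ _
    haveI : Etale g' := MorphismProperty.of_postcomp (W := @Etale) (W' := @Etale) g' OY.ι (inferInstance : Etale OY.ι) (hg'.symm ▸ ‹Etale g›)
    haveI : Surjective g' := ⟨fun a => by
      obtain ⟨b, hb⟩ := (show OY.ι a ∈ Set.range g from a.2)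
      exact ⟨b, OY.ι.injective (by rw [← Scheme.Hom.comp_apply, hg', hb])⟩⟩
    haveI : CompactSpace A.toScheme := inferInstance
    haveI : QuasiSeparatedSpace OY.toScheme := .of_isOpenEmbedding OY.ι.isOpenEmbedding
    haveI : QuasiCompact g' := quasiCompact_of_compactSpace g'
    haveI : QuasiCompact g := quasiCompact_of_compactSpace g
    obtain ⟨V, w, k, hw, hk, hku⟩ := exists_iso_of_descent f g R.hom q uh OY.ι g' hg' sq
    refine ⟨Scheme.Etale.mk w, MorphismProperty.Over.homMk (k ≫ O.ι) ((Category.assoc _ _ _).trans hku),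
      (inferInstance : IsOpenImmersion (k ≫ O.ι)), ?_⟩
    obtain ⟨a, ha⟩ := k.surjective (⟨x, hx⟩ : O)
    exact ⟨a, (Scheme.Hom.comp_apply k O.ι a).trans (congrArg O.ι.base ha)⟩

/-- base change along a universal homeomorphism is essentially surjective on etale schemes -/
theorem bc_essSurj {X Y : Scheme.{u}} (f : X ⟶ Y) [IsIntegralHom f] [UniversallyInjective f] [Surjective f] :
    (EtCoh.bc f).EssSurj := ⟨fun U => essImage_of_local f U fun x => by
  haveI : Etale U.hom := U.prop
  obtain ⟨_, ⟨(A : Y.Opens), hA, rfl⟩, hxA, -⟩ := Y.isBasis_affineOpens.exists_subset_of_mem_open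
    (Set.mem_univ (f (U.hom x))) isOpen_univ
  obtain ⟨_, ⟨(O : U.left.Opens), hO, rfl⟩, hxO, hOA⟩ := U.left.isBasis_affineOpens.exists_subset_of_mem_open
    (show x ∈ ((U.hom ⁻¹ᵁ f ⁻¹ᵁ A : U.left.Opens) : Set U.left) from hxA) (U.hom ⁻¹ᵁ f ⁻¹ᵁ A : U.left.Opens).isOpen
  haveI : IsAffine A.toScheme := hA
  haveI : IsAffine O.toScheme := hO
  haveI : UniversallyInjective (f ∣_ A) :=
    MorphismProperty.of_isPullback (isPullback_morphismRestrict f A).flip ‹UniversallyInjective f›
  haveI : Surjective (f ∣_ A) :=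
    MorphismProperty.of_isPullback (isPullback_morphismRestrict f A).flip ‹Surjective f›
  haveI : IsIntegralHom (f ∣_ A) :=
    MorphismProperty.of_isPullback (isPullback_morphismRestrict f A).flip ‹IsIntegralHom f›
  haveI : IsAffine (f ⁻¹ᵁ A).toScheme := isAffine_of_isAffineHom (f ∣_ A)
  let uA : O.toScheme ⟶ (f ⁻¹ᵁ A).toScheme := U.hom.resLE (f ⁻¹ᵁ A) O hOA
  have huA : uA ≫ (f ⁻¹ᵁ A).ι = O.ι ≫ U.hom := Scheme.Hom.resLE_comp_ι _ hOA
  haveI : Etale (O.ι ≫ U.hom) := inferInstance
  haveI : Etale uA := MorphismProperty.of_postcomp (W := @Etale) (W' := @Etale) uA (f ⁻¹ᵁ A).ι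
    (inferInstance : Etale (f ⁻¹ᵁ A).ι) (huA.symm ▸ ‹Etale (O.ι ≫ U.hom)›)
  haveI : IsSeparated uA := inferInstance
  haveI : QuasiCompact uA := quasiCompact_of_compactSpace uA
  let UA : (f ⁻¹ᵁ A).toScheme.Etale := Scheme.Etale.mk uA
  haveI : IsSeparated UA.hom := ‹IsSeparated uA›
  haveI : QuasiCompact UA.hom := ‹QuasiCompact uA›
  obtain ⟨n, hn⟩ := exists_liftsBdd uA
  obtain ⟨V, m, hm, a, ha⟩ := exists_local_lift_of_bdd n (f ∣_ A) UA hn ⟨x, hxO⟩
  haveI : Etale V.hom := V.prop
  let v : V.left ⟶ Y := V.hom ≫ A.ι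
  have sq : IsPullback (pullback.fst V.hom (f ∣_ A)) (pullback.snd V.hom (f ∣_ A) ≫ (f ⁻¹ᵁ A).ι) v f :=
    ((IsPullback.of_hasPullback V.hom (f ∣_ A)).flip.paste_horiz (isPullback_morphismRestrict f A).flip.flip.flip).flip
  let e := sq.isoPullback
  let m' : pullback V.hom (f ∣_ A) ⟶ O.toScheme := m.left
  have hm' : m' ≫ uA = pullback.snd V.hom (f ∣_ A) := MorphismProperty.Over.w m
  haveI : IsOpenImmersion m' := hm
  have hw : (e.inv ≫ m' ≫ O.ι) ≫ U.hom = pullback.snd v f := by
    rw [Category.assoc, Category.assoc, ← huA, ← Category.assoc m', hm']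
    exact sq.isoPullback_inv_snd
  refine ⟨Scheme.Etale.mk v, MorphismProperty.Over.homMk (e.inv ≫ m' ≫ O.ι) hw,
    (inferInstance : IsOpenImmersion (e.inv ≫ m' ≫ O.ι)), e.hom a, ?_⟩
  show (e.inv ≫ m' ≫ O.ι) (e.hom a) = x
  rw [← Scheme.Hom.comp_apply, Iso.hom_inv_id_assoc, Scheme.Hom.comp_apply]
  exact congrArg O.ι.base ha⟩

end Groth.Agent.EtTorLib
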